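import Groth.Agent.EtDescentLib.Big
import Groth.Agent.EtH0Lib.TopPull

/-!
# Pullbacks of sheaves of sets from the small étale site to the big étale site have germs
-/

set_option autoImplicit false
set_option linter.style.haveILetI false
set_option linter.unusedSectionVars false
set_option backward.isDefEq.respectTransparency false
set_option backward.isDefEq.respectTransparency.types false
universe u

open CategoryTheory CategoryTheory.Limits AlgebraicGeometry Opposite EtDescentLib

namespace EtProperH0Lib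

variable {S : Scheme.{u}}

variable (F : S.Etaleᵒᵖ ⥤ (Type (u + 1)))

/-- The presheaf pullback to the big site. -/
noncomputable abbrev lanA : (Over S)ᵒᵖ ⥤ (Type (u + 1)) := (EtFppf.a S).op.lan.obj F

/-- An element of the presheaf pullback. -/
noncomputable def lanEl {W : Over S} (V : S.Etale) (a : W ⟶ (EtFppf.a S).obj V) (s : F.obj (op V)) :
    (lanA F).obj (op W) :=
  (lanA F).map a.op (((EtFppf.a S).op.lanUnit.app F).app (op V) s)

theorem lanEl_map {W W' : Over S} (b : W' ⟶ W) (V : S.Etale) (a : W ⟶ (EtFppf.a S).obj V) (s : F.obj (op V)) :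
    (lanA F).map b.op (lanEl F V a s) = lanEl F V (b ≫ a) s := by
  rw [lanEl, lanEl, op_comp, Functor.map_comp]; rfl

theorem lanEl_comp {W : Over S} {V V' : S.Etale} (p : V' ⟶ V) (a : W ⟶ (EtFppf.a S).obj V') (s : F.obj (op V)) :
    lanEl F V' a (F.map p.op s) = lanEl F V (a ≫ (EtFppf.a S).map p) s := by
  rw [lanEl, lanEl, op_comp, Functor.map_comp]
  exact congrArg _ (ConcreteCategory.congr_hom (((EtFppf.a S).op.lanUnit.app F).naturality p.op) s)

theorem flat_a : RepresentablyFlat (EtFppf.a S) := by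
  haveI : PreservesFiniteLimits (EtFppf.a S) :=
    inferInstanceAs (PreservesFiniteLimits (Scheme.Etale.forget S))
  exact flat_of_preservesFiniteLimits _

theorem isFiltered_costructured (W : Over S) : IsFiltered (CostructuredArrow (EtFppf.a S).op (op W)) := by
  haveI := flat_a (S := S)
  infer_instance

theorem forget_preservesColimit_lan (W : Over S) :
    PreservesColimit (CostructuredArrow.proj (EtFppf.a S).op (op W) ⋙ F) (forget (Type (u + 1))) := by
  haveI := isFiltered_costructured (S := S) W
  haveI : PreservesFilteredColimitsOfSize.{u, u + 1} (forget (Type (u + 1))) :=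
    preservesFilteredColimitsOfSize_of_univLE.{u + 1, u + 1} _
  infer_instance

theorem lanEl_surjective (W : Over S) (x : (lanA F).obj (op W)) : ∃ V a s, lanEl F V a s = x := by
  haveI := forget_preservesColimit_lan F W
  obtain ⟨g, s, hs⟩ := Types.jointly_surjective_of_isColimit
    (isColimitOfPreserves (forget (Type (u + 1)))
      (Functor.isPointwiseLeftKanExtensionLeftKanExtensionUnit (EtFppf.a S).op F (op W))) x
  exact ⟨g.left.unop, g.hom.unop, s, hs⟩

theorem lanEl_common {W : Over S} {V V' : S.Etale} (a : W ⟶ (EtFppf.a S).obj V) (a' : W ⟶ (EtFppf.a S).obj V') :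
    ∃ (U : S.Etale) (c : W ⟶ (EtFppf.a S).obj U) (p : U ⟶ V) (p' : U ⟶ V'),
      c ≫ (EtFppf.a S).map p = a ∧ c ≫ (EtFppf.a S).map p' = a' := by
  haveI := isFiltered_costructured (S := S) W
  let i : CostructuredArrow (EtFppf.a S).op (op W) := CostructuredArrow.mk (Y := op V) a.op
  let j : CostructuredArrow (EtFppf.a S).op (op W) := CostructuredArrow.mk (Y := op V') a'.op
  exact ⟨(IsFiltered.max i j).left.unop, (IsFiltered.max i j).hom.unop, (IsFiltered.leftToMax i j).left.unop,
    (IsFiltered.rightToMax i j).left.unop,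
    congrArg Quiver.Hom.unop (CostructuredArrow.w (IsFiltered.leftToMax i j)),
    congrArg Quiver.Hom.unop (CostructuredArrow.w (IsFiltered.rightToMax i j))⟩

theorem lanEl_eq {W : Over S} {V : S.Etale} (a : W ⟶ (EtFppf.a S).obj V) (s s' : F.obj (op V))
    (h : lanEl F V a s = lanEl F V a s') :
    ∃ (V'' : S.Etale) (d : W ⟶ (EtFppf.a S).obj V'') (p : V'' ⟶ V),
      d ≫ (EtFppf.a S).map p = a ∧ F.map p.op s = F.map p.op s' := by
  haveI := isFiltered_costructured (S := S) W
  haveI := forget_preservesColimit_lan F W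
  let i : CostructuredArrow (EtFppf.a S).op (op W) := CostructuredArrow.mk (Y := op V) a.op
  obtain ⟨k, u, u', he⟩ := (Types.FilteredColimit.isColimit_eq_iff _
    (isColimitOfPreserves (forget (Type (u + 1)))
      (Functor.isPointwiseLeftKanExtensionLeftKanExtensionUnit (EtFppf.a S).op F (op W)))
    (i := i) (j := i) (xi := s) (xj := s')).1 h
  let r := u ≫ IsFiltered.coeqHom u u'
  have he' : F.map r.left s = F.map r.left s' := by
    have hr : r = u' ≫ IsFiltered.coeqHom u u' := IsFiltered.coeq_condition u u'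
    calc F.map r.left s = F.map (IsFiltered.coeqHom u u').left (F.map u.left s) := Functor.map_comp_apply F _ _ s
      _ = F.map (IsFiltered.coeqHom u u').left (F.map u'.left s') := congrArg _ he
      _ = F.map (u' ≫ IsFiltered.coeqHom u u').left s' := (Functor.map_comp_apply F _ _ s').symm
      _ = F.map r.left s' := by rw [hr]
  exact ⟨(IsFiltered.coeq u u').left.unop, (IsFiltered.coeq u u').hom.unop, r.left.unop,
    congrArg Quiver.Hom.unop (CostructuredArrow.w r), he'⟩

variable {F}

/-- Pullbacks from the small étale site have germs. -/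
theorem hasGerms_of_locallyBijective (Q : Sheaf (QuotSh.J Scheme.etalePrecoverage S) (Type (u + 1))) (η : lanA F ⟶ Q.obj)
    [Presheaf.IsLocallyInjective (QuotSh.J Scheme.etalePrecoverage S) η]
    [Presheaf.IsLocallySurjective (QuotSh.J Scheme.etalePrecoverage S) η] :
    HasGerms (Q.obj) where
  sheaf := (isSheaf_iff_isSheaf_of_type _ _).1 Q.property
  exists_germ {T G} a hG x := by
    obtain ⟨l, hl⟩ := mem_of_isGeo hG (Presheaf.imageSieve_mem (QuotSh.J Scheme.etalePrecoverage S) η
      (U := op G) x)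
    rw [op_id, CategoryTheory.Functor.map_id] at hl
    obtain ⟨U, c, f, rfl⟩ := lanEl_surjective F G l
    let p : U ⟶ Scheme.Etale.mk (𝟙 S) := MorphismProperty.Over.homMk U.hom (Category.comp_id _) trivial
    obtain ⟨W, h, hh, q, -, hu⟩ := exists_fiber T (U := Scheme.Etale.mk (𝟙 S))
      (Over.homMk T.hom (Category.comp_id _)) p
    obtain ⟨e, he, heq⟩ := hu G a c (Over.OverMorphism.ext ((Over.w a).trans (Over.w c).symm))
    refine ⟨W, h, hh, e, η.app (op W) (lanEl F U q f), he, ?_⟩
    show Q.obj.map e.op (η.app (op W) (lanEl F U q f)) = x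
    rw [← NatTrans.naturality_apply, lanEl_map, heq, hl]
    rfl
  exists_eq {T G} a hG s t hst := by
    obtain ⟨y⟩ := hG.nonempty
    obtain ⟨W₁, h₁, hh₁, w, hw, ⟨⟨l, hl⟩, ⟨m, hm⟩⟩⟩ := exists_etale_of_mem
      ((QuotSh.J Scheme.etalePrecoverage S).intersection_covering
        (Presheaf.imageSieve_mem (QuotSh.J Scheme.etalePrecoverage S) η (U := op T) s)
        (Presheaf.imageSieve_mem (QuotSh.J Scheme.etalePrecoverage S) η (U := op T) t)) (a.left y)
    obtain ⟨b₁, hb₁, -⟩ := exists_lift h₁ a hG w fun y' => by rw [hG.subsingleton y' y]; exact hw.symm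
    obtain ⟨U₁, c₁, f₁, rfl⟩ := lanEl_surjective F W₁ l
    obtain ⟨U₂, c₂, f₂, rfl⟩ := lanEl_surjective F W₁ m
    obtain ⟨U, c, p₁, p₂, rfl, rfl⟩ := lanEl_common c₁ c₂
    rw [← lanEl_comp] at hl hm
    have hLR : η.app (op G) ((lanA F).map b₁.op (lanEl F U c (F.map p₁.op f₁))) =
        η.app (op G) ((lanA F).map b₁.op (lanEl F U c (F.map p₂.op f₂))) := by
      rw [NatTrans.naturality_apply, NatTrans.naturality_apply, hl, hm, ← Functor.map_comp_apply,
        ← Functor.map_comp_apply, ← op_comp, hb₁]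
      exact hst
    have h0 := mem_of_isGeo hG
      (Presheaf.equalizerSieve_mem (QuotSh.J Scheme.etalePrecoverage S) η (X := op G) _ _ hLR)
    rw [Presheaf.equalizerSieve_apply, op_id, CategoryTheory.Functor.map_id] at h0
    have h0' : lanEl F U (b₁ ≫ c) (F.map p₁.op f₁) = lanEl F U (b₁ ≫ c) (F.map p₂.op f₂) := by
      rw [← lanEl_map, ← lanEl_map]; exact h0
    obtain ⟨V, d, p, hd, he⟩ := lanEl_eq F _ _ _ h0'
    obtain ⟨W₂, h₂, hh₂, q, hq, hu⟩ := exists_fiber W₁ c p
    obtain ⟨b₂, hb₂, -⟩ := hu G b₁ d hd.symm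
    haveI := hh₁; haveI := hh₂
    refine ⟨W₂, h₂ ≫ h₁, by rw [Over.comp_left]; infer_instance, b₂, by rw [reassoc_of% hb₂, hb₁], ?_⟩
    show Q.obj.map (h₂ ≫ h₁).op s = Q.obj.map (h₂ ≫ h₁).op t
    rw [op_comp, Functor.map_comp_apply, Functor.map_comp_apply, ← hl, ← hm, ← NatTrans.naturality_apply,
      ← NatTrans.naturality_apply, lanEl_map, lanEl_map, hq, ← lanEl_comp, ← lanEl_comp, he]

variable (S)

/-- The pullback of a sheaf of sets from the small étale site has germs. -/
theorem hasGerms_pullType (F : Sheaf S.smallEtaleTopology (Type (u + 1))) :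
    HasGerms ((EtFppf.a S).sheafPullback (Type (u + 1)) S.smallEtaleTopology
      (QuotSh.J Scheme.etalePrecoverage S) |>.obj F).obj := by
  let Q := ((EtFppf.a S).sheafPullback (Type (u + 1)) S.smallEtaleTopology
      (QuotSh.J Scheme.etalePrecoverage S)).obj F
  let e := (Functor.sheafPullbackConstruction.sheafPullbackIso (EtFppf.a S) (Type (u + 1))
    S.smallEtaleTopology (QuotSh.J Scheme.etalePrecoverage S)).app F
  let η : lanA F.obj ⟶ Q.obj :=
    toSheafify (QuotSh.J Scheme.etalePrecoverage S) (lanA F.obj) ≫ e.inv.hom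
  haveI : IsIso e.inv.hom := inferInstanceAs (IsIso ((sheafToPresheaf _ _).map e.inv))
  haveI : Presheaf.IsLocallyInjective (QuotSh.J Scheme.etalePrecoverage S) η := inferInstanceAs
    (Presheaf.IsLocallyInjective _ (toSheafify (QuotSh.J Scheme.etalePrecoverage S) (lanA F.obj) ≫ e.inv.hom))
  haveI : Presheaf.IsLocallySurjective (QuotSh.J Scheme.etalePrecoverage S) η := inferInstanceAs
    (Presheaf.IsLocallySurjective _ (toSheafify (QuotSh.J Scheme.etalePrecoverage S) (lanA F.obj) ≫ e.inv.hom))
  exact hasGerms_of_locallyBijective Q η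

end EtProperH0Lib
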