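import Groth.Agent.EtProperH0Lib.BaseChange
import Groth.Agent.EtProperH0Lib.BigType
import Groth.Agent.EtShLib.FiniteBC0
import Groth.Agent.EtDescentLib.Fpqc
import Groth.Prelude.Def_EtBCD

/-!
# Proper base change for direct images of abelian sheaves and of sheaves of sets
-/

set_option autoImplicit false
set_option linter.style.haveILetI false
set_option linter.unusedSectionVars false
set_option backward.isDefEq.respectTransparency false
set_option backward.isDefEq.respectTransparency.types false
universe u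

open CategoryTheory CategoryTheory.Limits AlgebraicGeometry Opposite EtDescentLib Groth.Agent.EtShLib

namespace EtProperH0Lib

theorem hasGerms_ab (X : Scheme.{u}) (G : Sheaf X.smallEtaleTopology AddCommGrpCat.{u + 1}) :
    HasGerms (((pPull AddCommGrpCat.{u + 1} X).obj G).obj ⋙ forget AddCommGrpCat.{u + 1}) :=
  hasGerms_piEtPull X G

theorem hasGerms_type (X : Scheme.{u}) (G : Sheaf X.smallEtaleTopology (Type (u + 1))) :
    HasGerms (((pPull (Type (u + 1)) X).obj G).obj ⋙ forget (Type (u + 1))) :=
  hasGerms_pullType X G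

variable {X Y X' Y' : Scheme.{u}} {f : X ⟶ Y} {f' : X' ⟶ Y'} {g' : X' ⟶ X} {g : Y' ⟶ Y}
  (hc : IsPullback g' f' f g)

include hc

theorem isIso_baseChange0 [IsProper f] (F : EtCoh.Ab X) : IsIso (EtCoh.baseChange0 f g f' g' hc.w F) := by
  have e : bcMor (A := AddCommGrpCat.{u + 1}) hc F = EtCoh.baseChange0 f g f' g' hc.w F := bcHom_eq f g f' g' hc F
  rw [← e]
  exact isIso_bcMor hasGerms_ab hc F

theorem bcMor_eq_sh (F : EtDesc.Sh X) :
    bcMor (A := Type (u + 1)) hc F = EtBC.baseChange0Sh f g f' g' hc.w F := by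
  refine congrArg ((EtDesc.adjSh g).homEquiv _ _).symm (Sheaf.hom_ext (NatTrans.ext (funext fun W => ?_)))
  show ((EtDesc.adjSh g').unit.app F).hom.app (op ((EtCoh.bc f).obj W.unop)) ≫
    ((EtDesc.pullSh g').obj F).obj.map (sqHom hc W.unop).op = _
  rw [sqHom_eq f g f' g' hc, op_comp, op_comp, Functor.map_comp, Functor.map_comp]
  simp [EtDesc.pushCompSh, EtBC.pushCongrSh]

theorem isIso_baseChange0Sh [IsProper f] (F : EtDesc.Sh X) : IsIso (EtBC.baseChange0Sh f g f' g' hc.w F) := by
  rw [← bcMor_eq_sh hc F]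
  exact isIso_bcMor hasGerms_type hc F

omit hc

/-- The comparison as a natural isomorphism. -/
noncomputable def phiNatIso {T S : Scheme.{u}} (f : T ⟶ S) [IsProper f] :
    pushS (Type (u + 1)) f ⋙ pPull (Type (u + 1)) S ≅
      pPull (Type (u + 1)) T ⋙ BigSite.pushBig Scheme.etalePrecoverage f (Type (u + 1)) :=
  haveI : ∀ G : Sheaf T.smallEtaleTopology (Type (u + 1)), IsIso (phi f G) := fun G => isIso_phi hasGerms_type f G
  NatIso.ofComponents (fun G => asIso (phi f G)) fun g => phi_naturality f g

end EtProperH0Lib
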