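import Groth.Agent.EtProperH0Lib.ShFibres

/-!
# Connected fibres of strict localisations of base changes of flat morphisms of noetherian schemes
-/

set_option autoImplicit false
set_option linter.style.haveILetI false
set_option linter.unusedSectionVars false
set_option backward.isDefEq.respectTransparency false
set_option backward.isDefEq.respectTransparency.types false
universe u

open CategoryTheory CategoryTheory.Limits AlgebraicGeometry IsLocalRing TensorProduct AlgSpRegLib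

namespace EtProperH0Lib

/-- A finite set of elements of a tensor product comes from a finitely generated subalgebra of the second factor. -/
theorem exists_subalgebra_tensor {A A' R : Type u} [CommRing A] [CommRing A'] [CommRing R] [Algebra A A'] [Algebra A R]
    (s : Finset (A' ⊗[A] R)) :
    ∃ R₀ : Subalgebra A R, R₀.FG ∧
      ∀ x ∈ s, x ∈ Set.range (Algebra.TensorProduct.map (AlgHom.id A' A') R₀.val) := by
  classical
  choose S hS using fun x : A' ⊗[A] R => TensorProduct.exists_finset x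
  refine ⟨Algebra.adjoin A ((s.biUnion fun x => (S x).image Prod.snd : Finset R) : Set R),
    ⟨_, rfl⟩, fun x hx => ?_⟩
  refine ⟨∑ i ∈ (S x).attach, i.1.1 ⊗ₜ ⟨i.1.2, Algebra.subset_adjoin (Finset.mem_coe.2
    (Finset.mem_biUnion.2 ⟨x, hx, Finset.mem_image_of_mem _ i.2⟩))⟩, ?_⟩
  rw [map_sum]
  conv_rhs => rw [hS x, ← Finset.sum_attach (S x) (fun i => i.1 ⊗ₜ[A] i.2)]
  exact Finset.sum_congr rfl fun i _ => by simp

/-- Pushouts of an étale algebra descended to a base change. -/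
theorem isPushout_descent {A A' R₀ R B₀ : Type u} [CommRing A] [CommRing A'] [CommRing R₀] [CommRing R] [CommRing B₀]
    [Algebra A A'] [Algebra A R₀] [Algebra A R] [Algebra R₀ R] [IsScalarTower A R₀ R]
    [Algebra (A' ⊗[A] R₀) B₀] [Algebra (A' ⊗[A] R₀) (A' ⊗[A] R)]
    (hm : (algebraMap (A' ⊗[A] R₀) (A' ⊗[A] R)) =
      (Algebra.TensorProduct.map (AlgHom.id A' A') (IsScalarTower.toAlgHom A R₀ R)).toRingHom) :
    IsPushout (CommRingCat.ofHom (algebraMap R₀ R))
      (CommRingCat.ofHom ((algebraMap (A' ⊗[A] R₀) B₀).comp Algebra.TensorProduct.includeRight.toRingHom))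
      (CommRingCat.ofHom (((Algebra.TensorProduct.includeLeftRingHom :
        A' ⊗[A] R →+* (A' ⊗[A] R) ⊗[A' ⊗[A] R₀] B₀)).comp Algebra.TensorProduct.includeRight.toRingHom))
      (CommRingCat.ofHom (Algebra.TensorProduct.includeRight (R := A' ⊗[A] R₀) (A := A' ⊗[A] R) (B := B₀)).toRingHom) := by
  have h₁ := CommRingCat.isPushout_tensorProduct A R₀ A'
  have h₂ := CommRingCat.isPushout_tensorProduct A R A'
  have t₁ := CommRingCat.isPushout_tensorProduct A A' R₀
  have t₂ := CommRingCat.isPushout_tensorProduct A A' R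
  have t₃ := CommRingCat.isPushout_tensorProduct (A' ⊗[A] R₀) (A' ⊗[A] R) B₀
  have hleft : IsPushout (CommRingCat.ofHom (algebraMap R₀ R))
      (CommRingCat.ofHom (Algebra.TensorProduct.includeRight : R₀ →ₐ[A] A' ⊗[A] R₀).toRingHom)
      (CommRingCat.ofHom (Algebra.TensorProduct.includeRight : R →ₐ[A] A' ⊗[A] R).toRingHom)
      (CommRingCat.ofHom (algebraMap (A' ⊗[A] R₀) (A' ⊗[A] R))) := by
    refine IsPushout.of_left (h₁₁ := CommRingCat.ofHom (algebraMap A R₀))
      (v₁₁ := CommRingCat.ofHom (algebraMap A A'))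
      (h₂₁ := CommRingCat.ofHom (Algebra.TensorProduct.includeLeftRingHom : A' →+* A' ⊗[A] R₀)) ?_ ?_ t₁.flip
    · rw [← CommRingCat.ofHom_comp, ← CommRingCat.ofHom_comp, ← IsScalarTower.algebraMap_eq, hm,
        show (Algebra.TensorProduct.map (AlgHom.id A' A') (IsScalarTower.toAlgHom A R₀ R)).toRingHom.comp
          Algebra.TensorProduct.includeLeftRingHom = Algebra.TensorProduct.includeLeftRingHom from
          RingHom.ext fun a => by simp]
      exact t₂.flip
    · rw [← CommRingCat.ofHom_comp, ← CommRingCat.ofHom_comp, hm]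
      exact congrArg CommRingCat.ofHom (RingHom.ext fun r => by simp)
  have := hleft.paste_vert t₃
  rwa [← CommRingCat.ofHom_comp, ← CommRingCat.ofHom_comp] at this

/-- An étale algebra descends along an injective map whose image contains its coefficients. -/
theorem exists_etale_descent {A' C₀ C B : Type u} [CommRing A'] [CommRing C₀] [CommRing C] [CommRing B] [Algebra A' C₀]
    [Algebra A' C] [Algebra C₀ C] [IsScalarTower A' C₀ C] (hm : Function.Injective (algebraMap C₀ C)) [Algebra C B]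
    (A₀ : Subalgebra A' C) (hA₀ : A₀ ≤ (IsScalarTower.toAlgHom A' C₀ C).range) (B₀₀ : Type u) [CommRing B₀₀]
    [Algebra A₀ B₀₀] [Algebra.Etale A₀ B₀₀] (e : B ≃ₐ[C] C ⊗[A₀] B₀₀) :
    ∃ (B₀ : Type u) (_ : CommRing B₀) (_ : Algebra C₀ B₀) (_ : Algebra.Etale C₀ B₀),
      Nonempty (B ≃ₐ[C] C ⊗[C₀] B₀) := by
  let ι : A₀ →ₐ[A'] C₀ := ((AlgEquiv.ofInjective (IsScalarTower.toAlgHom A' C₀ C) hm).symm :
    (IsScalarTower.toAlgHom A' C₀ C).range →ₐ[A'] C₀).comp (Subalgebra.inclusion hA₀)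
  letI : Algebra A₀ C₀ := ι.toRingHom.toAlgebra
  haveI : IsScalarTower A₀ C₀ C := IsScalarTower.of_algebraMap_eq fun a => by
    show (a : C) = IsScalarTower.toAlgHom A' C₀ C
      ((AlgEquiv.ofInjective (IsScalarTower.toAlgHom A' C₀ C) hm).symm (Subalgebra.inclusion hA₀ a))
    exact (congrArg Subtype.val
      ((AlgEquiv.ofInjective (IsScalarTower.toAlgHom A' C₀ C) hm).apply_symm_apply (Subalgebra.inclusion hA₀ a))).symm
  exact ⟨C₀ ⊗[A₀] B₀₀, inferInstance, inferInstance, inferInstance,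
    ⟨e.trans (Algebra.TensorProduct.cancelBaseChange A₀ C₀ C C B₀₀).symm⟩⟩

/-- An étale algebra over a base change of a noetherian algebra descends to a noetherian level. -/
theorem exists_noeth_descent {A A' R B : Type u} [CommRing A] [CommRing A'] [CommRing R] [CommRing B]
    [IsNoetherianRing A] [IsNoetherianRing A'] [Algebra A A'] [Algebra A R] [Module.Flat A A']
    [GeometricallyReduced (Spec.map (CommRingCat.ofHom (algebraMap A A')))] [Algebra R (A' ⊗[A] R)]
    (hR : algebraMap R (A' ⊗[A] R) = (Algebra.TensorProduct.includeRight : R →ₐ[A] A' ⊗[A] R).toRingHom)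
    [Algebra (A' ⊗[A] R) B] [Algebra.Etale (A' ⊗[A] R) B] [Algebra R B] [IsScalarTower R (A' ⊗[A] R) B] :
    ∃ (R₀ B₀ B' : Type u) (_ : CommRing R₀) (_ : CommRing B₀) (_ : CommRing B') (_ : Algebra R B') (_ : Algebra R₀ R)
      (_ : Algebra R₀ B₀) (_ : Algebra B₀ B') (_ : Algebra R₀ B') (_ : IsScalarTower R₀ R B')
      (_ : IsScalarTower R₀ B₀ B') (_ : B ≃ₐ[R] B'),
      IsNoetherianRing R₀ ∧ IsNoetherianRing B₀ ∧ Module.Flat R₀ B₀ ∧
      GeometricallyReduced (Spec.map (CommRingCat.ofHom (algebraMap R₀ B₀))) ∧ Algebra.IsPushout R₀ R B₀ B' := by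
  classical
  obtain ⟨A₀, B₀₀, _, _, ⟨s, hs⟩, hB₀₀, ⟨e⟩⟩ := Algebra.Etale.exists_subalgebra_fg A' (A' ⊗[A] R) B
  haveI := hB₀₀
  obtain ⟨R₀, hR₀, hs₀⟩ := exists_subalgebra_tensor s
  haveI : Algebra.FiniteType A R₀ := (Subalgebra.fg_iff_finiteType R₀).1 hR₀
  haveI : IsNoetherianRing R₀ := Algebra.FiniteType.isNoetherianRing A R₀
  let m : A' ⊗[A] R₀ →ₐ[A'] A' ⊗[A] R := Algebra.TensorProduct.map (AlgHom.id A' A') R₀.val
  have hm : Function.Injective m :=
    Module.Flat.lTensor_preserves_injective_linearMap (M := A') R₀.val.toLinearMap Subtype.val_injective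
  haveI : IsNoetherianRing (A' ⊗[A] R₀) := Algebra.FiniteType.isNoetherianRing A' (A' ⊗[A] R₀)
  letI algm : Algebra (A' ⊗[A] R₀) (A' ⊗[A] R) := m.toRingHom.toAlgebra
  haveI : IsScalarTower A' (A' ⊗[A] R₀) (A' ⊗[A] R) := IsScalarTower.of_algebraMap_eq' m.comp_algebraMap.symm
  have hA₀ : A₀ ≤ (IsScalarTower.toAlgHom A' (A' ⊗[A] R₀) (A' ⊗[A] R)).range := by
    rw [← hs]
    exact Algebra.adjoin_le fun x hx => hs₀ x hx
  obtain ⟨B₀, _, _, _, ⟨ψ⟩⟩ := exists_etale_descent hm A₀ hA₀ B₀₀ e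
  haveI : IsNoetherianRing B₀ := Algebra.FiniteType.isNoetherianRing (A' ⊗[A] R₀) B₀
  letI algR₀B₀ : Algebra R₀ B₀ := ((algebraMap (A' ⊗[A] R₀) B₀).comp
    (Algebra.TensorProduct.includeRight : R₀ →ₐ[A] A' ⊗[A] R₀).toRingHom).toAlgebra
  letI algB₀B' : Algebra B₀ ((A' ⊗[A] R) ⊗[A' ⊗[A] R₀] B₀) :=
    (Algebra.TensorProduct.includeRight : B₀ →ₐ[A' ⊗[A] R₀] (A' ⊗[A] R) ⊗[A' ⊗[A] R₀] B₀).toRingHom.toAlgebra
  have hpo : IsPushout (CommRingCat.ofHom (algebraMap R₀ R)) (CommRingCat.ofHom (algebraMap R₀ B₀))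
      (CommRingCat.ofHom (algebraMap R ((A' ⊗[A] R) ⊗[A' ⊗[A] R₀] B₀)))
      (CommRingCat.ofHom (algebraMap B₀ ((A' ⊗[A] R) ⊗[A' ⊗[A] R₀] B₀))) :=
    (show CommRingCat.ofHom (algebraMap R ((A' ⊗[A] R) ⊗[A' ⊗[A] R₀] B₀)) = _ from
      congrArg CommRingCat.ofHom ((IsScalarTower.algebraMap_eq R (A' ⊗[A] R) _).trans
        (congrArg (RingHom.comp _) hR))) ▸ isPushout_descent rfl
  haveI : IsScalarTower R₀ B₀ ((A' ⊗[A] R) ⊗[A' ⊗[A] R₀] B₀) :=
    IsScalarTower.of_algebraMap_eq (R := R₀) (S := B₀) fun r => ConcreteCategory.congr_hom hpo.w r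
  letI : Algebra R₀ (A' ⊗[A] R₀) :=
    (Algebra.TensorProduct.includeRight : R₀ →ₐ[A] A' ⊗[A] R₀).toRingHom.toAlgebra
  haveI : IsScalarTower R₀ (A' ⊗[A] R₀) B₀ :=
    IsScalarTower.of_algebraMap_eq (R := R₀) (S := A' ⊗[A] R₀) (A := B₀) fun _ => rfl
  have sq := (isPullback_SpecMap_of_isPushout _ _ _ _ (CommRingCat.isPushout_tensorProduct A A' R₀))
  haveI : GeometricallyReduced (Spec.map (CommRingCat.ofHom (algebraMap R₀ (A' ⊗[A] R₀)))) :=
    MorphismProperty.of_isPullback (P := @GeometricallyReduced) sq ‹_›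
  haveI : Module.Flat R₀ (A' ⊗[A] R₀) := by
    haveI : Flat (Spec.map (CommRingCat.ofHom (algebraMap A A'))) :=
      (HasRingHomProperty.Spec_iff (P := @Flat)).2 (RingHom.flat_algebraMap_iff.2 inferInstance)
    have h1 : Flat (Spec.map (CommRingCat.ofHom (algebraMap R₀ (A' ⊗[A] R₀)))) :=
      MorphismProperty.of_isPullback (P := @Flat) sq ‹_›
    rw [HasRingHomProperty.Spec_iff (P := @Flat)] at h1
    exact RingHom.flat_algebraMap_iff.1 h1
  exact ⟨R₀, B₀, (A' ⊗[A] R) ⊗[A' ⊗[A] R₀] B₀, inferInstance, inferInstance, inferInstance, inferInstance,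
    inferInstance, algR₀B₀, algB₀B', inferInstance, inferInstance, inferInstance, ψ.restrictScalars R, inferInstance,
    inferInstance, Module.Flat.trans R₀ (A' ⊗[A] R₀) B₀, geometricallyReduced_trans R₀ (A' ⊗[A] R₀) B₀,
    CommRingCat.isPushout_iff_isPushout.1 hpo⟩

/-- Base change of a flat algebra with geometrically reduced fibres between noetherian rings. -/
theorem connected_fibre_of_noetherianBase {A A' R R' : Type u} [CommRing A] [CommRing A'] [IsNoetherianRing A]
    [IsNoetherianRing A'] [Algebra A A'] [Module.Flat A A']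
    [GeometricallyReduced (Spec.map (CommRingCat.ofHom (algebraMap A A')))] [CommRing R] [HenselianLocalRing R]
    [IsSepClosed (ResidueField R)] [Algebra A R] [CommRing R'] [HenselianLocalRing R']
    [IsSepClosed (ResidueField R')] [Algebra R R'] [IsLocalHom (algebraMap R R')] [Algebra R (A' ⊗[A] R)]
    (hR : algebraMap R (A' ⊗[A] R) = (Algebra.TensorProduct.includeRight : R →ₐ[A] A' ⊗[A] R).toRingHom)
    [Algebra (A' ⊗[A] R) R'] [IsScalarTower R (A' ⊗[A] R) R'] [Algebra.WeaklyEtale (A' ⊗[A] R) R']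
    [Module.Flat R (A' ⊗[A] R)] (K : Type u) [Field K] [Algebra R K] :
    ConnectedSpace (PrimeSpectrum (K ⊗[R] R')) := by
  haveI : Module.Flat R R' := Module.Flat.trans R (A' ⊗[A] R) R'
  haveI : Module.FaithfullyFlat R R' := Module.FaithfullyFlat.of_flat_of_isLocalHom
  refine Groth.Agent.SchFinLib.connectedSpace_iff_idempotent.2
    ⟨Module.FaithfullyFlat.rTensor_nontrivial R R' K,
      fun w hw => trivIdem_of_stages (A' ⊗[A] R) R' R K (fun B _ _ _ _ _ ξ z hz => ?_) w hw⟩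
  obtain ⟨R₀, B₀, B', _, _, _, _, _, _, _, _, _, _, e, h₁, h₂, h₃, h₄, h₅⟩ := exists_noeth_descent (B := B) hR
  haveI := h₁; haveI := h₂; haveI := h₃; haveI := h₄; haveI := h₅
  have key := idem_stage_noetherian R₀ B₀ ((ξ.restrictScalars R).comp e.symm.toAlgHom) K
    (Algebra.TensorProduct.map (AlgHom.id R K) e.toAlgHom z) (hz.map _)
  have he : ∀ y : K ⊗[R] B, Algebra.TensorProduct.map (AlgHom.id R K) ((ξ.restrictScalars R).comp e.symm.toAlgHom)
      (Algebra.TensorProduct.map (AlgHom.id R K) e.toAlgHom y) = stageMap (A' ⊗[A] R) R K ξ y := by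
    intro y
    induction y using TensorProduct.induction_on with
    | zero => simp
    | tmul a b => simp
    | add a b ha hb => simp only [map_add, ha, hb]
  rwa [he] at key

end EtProperH0Lib
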