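import Groth.Agent.EtProperH0Lib.Restrict
import Groth.Agent.EtH0Lib.Main
import Groth.Agent.ConnBC.Main
import Mathlib.RingTheory.Spectrum.Prime.Homeomorph
import Mathlib.FieldTheory.IsAlgClosed.AlgebraicClosure

/-!
# Sections on proper schemes over henselian local rings and over separably closed fields
-/

set_option autoImplicit false
set_option linter.style.haveILetI false
set_option backward.isDefEq.respectTransparency false
set_option backward.isDefEq.respectTransparency.types false
universe u

open CategoryTheory CategoryTheory.Limits AlgebraicGeometry Opposite EtDescentLib TensorProduct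

namespace EtProperH0Lib

variable {T : Scheme.{u}} {P : (Over T)ᵒᵖ ⥤ Type (u + 1)}

theorem geometricallyConnected_of_purelyInseparable (k L : Type u) [Field k] [Field L] [Algebra k L]
    [IsPurelyInseparable k L] : GeometricallyConnected (Spec.map (CommRingCat.ofHom (algebraMap k L))) := by
  refine ⟨geometrically_iff_of_isClosedUnderIsomorphisms.mpr fun F _ y => ?_⟩
  obtain ⟨φ, rfl⟩ := Spec.map_surjective y
  algebraize [φ.hom]
  haveI : Subsingleton (PrimeSpectrum (F ⊗[k] L)) :=
    (PrimeSpectrum.isHomeomorph_comap_of_isPurelyInseparable (k := k) (K := L) (R := F)).injective.subsingleton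
  haveI : Nontrivial (F ⊗[k] L) :=
    Algebra.TensorProduct.nontrivial_of_algebraMap_injective_of_flat_left (R := k) (A := F) (B := L)
      (algebraMap k L).injective
  haveI : ConnectedSpace (PrimeSpectrum (F ⊗[k] L)) := ⟨inferInstance⟩
  haveI : ConnectedSpace (PrimeSpectrum (L ⊗[k] F)) :=
    let e := PrimeSpectrum.homeomorphOfRingEquiv (Algebra.TensorProduct.comm k F L).toRingEquiv
    e.surjective.connectedSpace e.continuous
  exact (pullbackSpecIso k L F).hom.homeomorph.connectedSpace_iff.mpr ‹ConnectedSpace (PrimeSpectrum (L ⊗[k] F))›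

theorem geometricallyConnected_of_sepClosed (k K : Type u) [Field k] [IsSepClosed k] [Field K] [IsAlgClosed K]
    [Algebra k K] : GeometricallyConnected (Spec.map (CommRingCat.ofHom (algebraMap k K))) := by
  let ka := AlgebraicClosure k
  let σ : ka →ₐ[k] K := IsAlgClosed.lift
  letI : Algebra ka K := σ.toRingHom.toAlgebra
  have e : algebraMap k K = (algebraMap ka K).comp (algebraMap k ka) := σ.comp_algebraMap.symm
  rw [e, CommRingCat.ofHom_comp, Spec.map_comp]
  haveI := ConnBC.geometricallyConnected_specMap (k := ka) K
    (IntermediateField.eq_bot_of_isAlgClosed_of_isAlgebraic _)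
  haveI := geometricallyConnected_of_purelyInseparable k ka
  exact GeometricallyConnected.comp _ _

/-- Bijectivity of a restriction map can be checked on the restricted presheaf. -/
theorem bijective_map_of_restrict {X Z : Scheme.{u}} (p : X ⟶ T) (i : Z ⟶ X)
    (h : Function.Bijective (((Over.map p).op ⋙ P).map (Over.homMk i : Over.mk i ⟶ Over.mk (𝟙 X)).op)) :
    Function.Bijective (P.map (Over.homMk i : Over.mk (i ≫ p) ⟶ Over.mk p).op) := by
  let e₁ : Over.mk (i ≫ p) ≅ (Over.map p).obj (Over.mk i) := Over.isoMk (Iso.refl _)
  let e₂ : (Over.map p).obj (Over.mk (𝟙 X)) ≅ Over.mk p := Over.isoMk (Iso.refl _)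
  have he : (Over.homMk i : Over.mk (i ≫ p) ⟶ Over.mk p) =
      e₁.hom ≫ (Over.map p).map (Over.homMk i : Over.mk i ⟶ Over.mk (𝟙 X)) ≫ e₂.hom :=
    Over.OverMorphism.ext (((Category.id_comp _).trans (Category.comp_id i)).symm)
  show Function.Bijective (P.map (Over.homMk i : Over.mk (i ≫ p) ⟶ Over.mk p).op)
  rw [he, op_comp, op_comp, P.map_comp, P.map_comp, types_comp, types_comp]
  exact ((ConcreteCategory.isIso_iff_bijective (P.map e₁.hom.op)).1 inferInstance).comp
    (h.comp ((ConcreteCategory.isIso_iff_bijective (P.map e₂.hom.op)).1 inferInstance))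

/-- Sections do not change under extension of a separably closed base field. -/
theorem bijective_sepClosed_ext (hP : HasGerms P) {k K : Type u} [Field k] [IsSepClosed k] [Field K] [IsAlgClosed K]
    [Algebra k K] {X : Scheme.{u}} (p : X ⟶ T) (q : X ⟶ Spec (CommRingCat.of k)) :
    Function.Bijective (P.map (Over.homMk (pullback.fst q (Spec.map (CommRingCat.ofHom (algebraMap k K)))) :
      Over.mk (pullback.fst q (Spec.map (CommRingCat.ofHom (algebraMap k K))) ≫ p) ⟶ Over.mk p).op) := by
  let j := Spec.map (CommRingCat.ofHom (algebraMap k K))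
  let i := pullback.fst q j
  haveI : GeometricallyConnected j := geometricallyConnected_of_sepClosed k K
  haveI : UniversallyOpen j := inferInstance
  haveI : GeometricallyConnected i := inferInstance
  haveI : UniversallyOpen i := inferInstance
  have h := (hasGerms_restrict hP p).bijective_of_connected i
    (fun S' g => IsOpenMap.isQuotientMap (pullback.snd i g).isOpenMap (Scheme.Hom.continuous _)
      (pullback.snd i g).surjective)
    fun Ω _ _ s => GeometricallyConnected.connectedSpace_of_subsingleton (f := pullback.snd i s)
  exact bijective_map_of_restrict p i h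

/-- Sections on a proper scheme over a henselian local ring are the sections on the closed fibre. -/
theorem bijective_closedFibre (hP : HasGerms P) {R : Type u} [CommRing R] [HenselianLocalRing R] {X : Scheme.{u}}
    (p : X ⟶ T) (q : X ⟶ Spec (CommRingCat.of R)) [IsProper q] :
    Function.Bijective (P.map (Over.homMk (pullback.fst q (Spec.map (CommRingCat.ofHom (IsLocalRing.residue R)))) :
      Over.mk (pullback.fst q (Spec.map (CommRingCat.ofHom (IsLocalRing.residue R))) ≫ p) ⟶ Over.mk p).op) := by
  let j := Spec.map (CommRingCat.ofHom (IsLocalRing.residue R))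
  haveI : IsClosedImmersion j := IsClosedImmersion.spec_of_surjective _ IsLocalRing.residue_surjective
  let i := pullback.fst q j
  haveI : CompactSpace X := QuasiCompact.compactSpace_of_compactSpace q
  haveI : QuasiSeparatedSpace X := quasiSeparatedSpace_of_quasiSeparated q
  have h := EtH0Lib.bijective_map_of_bijOn (hasGerms_restrict hP p) i
    (EtH0Lib.bijOn_preimage_of_proper (IsLocalRing.maximalIdeal R) q i (Scheme.Pullback.range_fst q j))
  exact bijective_map_of_restrict p i h

end EtProperH0Lib
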