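import Groth.Agent.EtProperH0Lib.Connected
import Groth.Agent.EtProperH0Lib.FlatRedNoeth
import Groth.Agent.EtProperH0Lib.UnitIso

/-!
# Flat morphisms with separable fibres: strict localisations of all base changes are 0-acyclic
-/

set_option autoImplicit false
set_option linter.style.haveILetI false
set_option linter.unusedSectionVars false
set_option backward.isDefEq.respectTransparency false
set_option backward.isDefEq.respectTransparency.types false
universe u

open CategoryTheory CategoryTheory.Limits AlgebraicGeometry IsLocalRing TensorProduct AlgSpRegLib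

namespace EtProperH0Lib

/-- Connected geometric fibres for strict localisations of a base change of a flat morphism of noetherian schemes
with geometrically reduced fibres. -/
theorem connected_sh_fibre_baseChange {X Y X₁ Y₁ : Scheme.{u}} (g : X ⟶ Y) [Flat g] [GeometricallyReduced g]
    [IsLocallyNoetherian X] [IsLocallyNoetherian Y] (g₁ : X₁ ⟶ Y₁) (b' : X₁ ⟶ X) (b : Y₁ ⟶ Y)
    (H : IsPullback b' g₁ g b) (x : X₁) (RY : Type u)
    [CommRing RY] [IsLocalRing RY] [Algebra (Y₁.presheaf.stalk (g₁.base x)) RY]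
    [IsLocalHom (algebraMap (Y₁.presheaf.stalk (g₁.base x)) RY)]
    [hY : Hensel.IsStrictHenselization (Y₁.presheaf.stalk (g₁.base x)) RY]
    (RX : Type u) [CommRing RX] [IsLocalRing RX] [Algebra (X₁.presheaf.stalk x) RX]
    [IsLocalHom (algebraMap (X₁.presheaf.stalk x) RX)] [hX : Hensel.IsStrictHenselization (X₁.presheaf.stalk x) RX]
    (ψ : RY →+* RX) [IsLocalHom ψ]
    (hψ : ψ.comp (algebraMap (Y₁.presheaf.stalk (g₁.base x)) RY) =
      (algebraMap (X₁.presheaf.stalk x) RX).comp (g₁.stalkMap x).hom)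
    (Ω : Type u) [Field Ω] (η : Spec (CommRingCat.of Ω) ⟶ Spec (CommRingCat.of RY)) :
    ConnectedSpace ↥(pullback (Spec.map (CommRingCat.ofHom ψ)) η) := by
  haveI := hY.henselian
  haveI := hX.henselian
  haveI : IsSepClosed (ResidueField RY) := hY.isSepClosure.sep_closed
  haveI : IsSepClosed (ResidueField RX) := hX.isSepClosure.sep_closed
  obtain ⟨U, hU, hyU, -⟩ := exists_isAffineOpen_mem_and_subset (x := g.base (b'.base x)) (U := ⊤) trivial
  obtain ⟨V, hV, hxV, hVU⟩ := exists_isAffineOpen_mem_and_subset (x := b'.base x) (U := g ⁻¹ᵁ U) hyU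
  have hw : b.base (g₁.base x) = g.base (b'.base x) := by
    rw [← Scheme.Hom.comp_apply, ← H.w]
    rfl
  obtain ⟨U₁, hU₁, hyU₁, hU₁U⟩ :=
    exists_isAffineOpen_mem_and_subset (x := g₁.base x) (U := b ⁻¹ᵁ U) (show b.base (g₁.base x) ∈ U by rw [hw]; exact hyU)
  let V₁ := g₁ ⁻¹ᵁ U₁ ⊓ b' ⁻¹ᵁ V
  have hxV₁ : x ∈ V₁ := ⟨hyU₁, hxV⟩
  have hV₁ : IsAffineOpen V₁ := by
    have : IsAffine _ := hU
    have : IsAffine _ := hV
    have : IsAffine _ := hU₁
    exact .of_isIso (Scheme.Hom.isPullback_resLE H.flip hVU hU₁U (UY := V₁) rfl).isoPullback.hom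
  have hP := (isIso_pushoutSection_iff H.flip hVU hU₁U (UY := V₁) rfl).1
    (isIso_pushoutSection_of_isAffineOpen H.flip hVU hU₁U rfl hU hV hU₁)
  let A : Type u := Γ(Y, U)
  let A' : Type u := Γ(X, V)
  let A₁ : Type u := Γ(Y₁, U₁)
  let A₁' : Type u := Γ(X₁, V₁)
  haveI : IsNoetherianRing A := IsLocallyNoetherian.component_noetherian (X := Y) ⟨U, hU⟩
  haveI : IsNoetherianRing A' := IsLocallyNoetherian.component_noetherian (X := X) ⟨V, hV⟩
  letI : Algebra A A' := (g.appLE U V hVU).hom.toAlgebra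
  letI : Algebra A₁ A₁' := (g₁.appLE U₁ V₁ inf_le_left).hom.toAlgebra
  letI : Algebra A₁ RY :=
    ((algebraMap (Y₁.presheaf.stalk (g₁.base x)) RY).comp (Y₁.presheaf.germ U₁ _ hyU₁).hom).toAlgebra
  letI : Algebra A₁' RX := ((algebraMap (X₁.presheaf.stalk x) RX).comp (X₁.presheaf.germ V₁ x hxV₁).hom).toAlgebra
  haveI : Algebra.WeaklyEtale A₁ RY := weaklyEtale_sh_sections hU₁ (g₁.base x) hyU₁ RY
  haveI : Algebra.WeaklyEtale A₁' RX := weaklyEtale_sh_sections hV₁ x hxV₁ RX
  letI : Algebra A RY := ((algebraMap A₁ RY).comp (b.appLE U U₁ hU₁U).hom).toAlgebra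
  letI : Algebra RY RX := ψ.toAlgebra
  letI : Algebra A₁ RX := ((algebraMap A₁' RX).comp (algebraMap A₁ A₁')).toAlgebra
  haveI : IsScalarTower A₁ A₁' RX := IsScalarTower.of_algebraMap_eq fun _ => rfl
  haveI : IsScalarTower A₁ RY RX := IsScalarTower.of_algebraMap_eq fun a => by
    show algebraMap (X₁.presheaf.stalk x) RX (X₁.presheaf.germ V₁ x hxV₁ (g₁.appLE U₁ V₁ inf_le_left a)) =
      ψ (algebraMap (Y₁.presheaf.stalk (g₁.base x)) RY (Y₁.presheaf.germ U₁ _ hyU₁ a))
    rw [← RingHom.comp_apply ψ, hψ, RingHom.comp_apply, Scheme.Hom.germ_stalkMap_apply]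
    refine congrArg _ ?_
    show X₁.presheaf.germ V₁ x hxV₁ (X₁.presheaf.map (homOfLE inf_le_left).op (g₁.app U₁ a)) = _
    exact X₁.presheaf.germ_res_apply (homOfLE inf_le_left) x hxV₁ _
  let T : Type u := A₁' ⊗[A₁] RY
  let θ : T →ₐ[A₁'] RX := Algebra.TensorProduct.lift (Algebra.ofId A₁' RX) (IsScalarTower.toAlgHom A₁ RY RX)
    fun _ _ => Commute.all _ _
  letI : Algebra T RX := θ.toRingHom.toAlgebra
  haveI : IsScalarTower A₁' T RX := IsScalarTower.of_algebraMap_eq' θ.comp_algebraMap.symm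
  haveI : Algebra.WeaklyEtale T RX := Groth.Agent.S7127.result A₁' T RX
  have h₁ := hP.paste_horiz (CommRingCat.isPushout_tensorProduct A₁ A₁' RY).flip
  have h₂ : IsPushout (b.appLE U U₁ hU₁U ≫ CommRingCat.ofHom (algebraMap A₁ RY)) (g.appLE U V hVU)
      (CommRingCat.ofHom (Algebra.TensorProduct.includeRight : RY →ₐ[A] A' ⊗[A] RY).toRingHom)
      (CommRingCat.ofHom (Algebra.TensorProduct.includeLeftRingHom : A' →+* A' ⊗[A] RY)) :=
    (CommRingCat.isPushout_tensorProduct A A' RY).flip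
  let e := IsPushout.isoIsPushout _ _ h₂ h₁
  let A'' : Type u := A' ⊗[A] RY
  letI : Algebra RY A'' := (Algebra.TensorProduct.includeRight : RY →ₐ[A] A'').toRingHom.toAlgebra
  letI : Algebra A'' T := e.hom.hom.toAlgebra
  letI : Algebra A'' RX := (θ.toRingHom.comp e.hom.hom).toAlgebra
  haveI : IsScalarTower A'' T RX := IsScalarTower.of_algebraMap_eq fun _ => rfl
  haveI : IsScalarTower RY A'' RX := IsScalarTower.of_algebraMap_eq fun r => by
    have he := ConcreteCategory.congr_hom (IsPushout.inl_isoIsPushout_hom _ _ h₂ h₁) r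
    show ψ r = θ (e.hom.hom ((1 : A') ⊗ₜ r))
    refine Eq.trans ?_ (congrArg θ he).symm
    show ψ r = θ ((1 : A₁') ⊗ₜ r)
    simp only [θ]
    erw [Algebra.TensorProduct.lift_tmul]
    rw [map_one, one_mul]
    rfl
  haveI : Algebra.Etale A'' T :=
    Algebra.Etale.of_equiv (AlgEquiv.ofRingEquiv (f := e.commRingCatIsoToRingEquiv) fun _ => rfl :
      A'' ≃ₐ[A''] T)
  haveI : Algebra.WeaklyEtale A'' RX := Algebra.WeaklyEtale.trans A'' T RX
  haveI : Module.Flat A A' := RingHom.flat_algebraMap_iff.1 (g.flat_appLE hU hV hVU)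
  haveI : GeometricallyReduced (Spec.map (CommRingCat.ofHom (algebraMap A A'))) :=
    geometricallyReduced_appLE g hU hV hVU
  haveI : Module.Flat RY A'' := by
    haveI : Flat (Spec.map (CommRingCat.ofHom (algebraMap A A'))) :=
      (HasRingHomProperty.Spec_iff (P := @Flat)).2 (g.flat_appLE hU hV hVU)
    have h1 : Flat (Spec.map (CommRingCat.ofHom (algebraMap RY A''))) :=
      MorphismProperty.of_isPullback (P := @Flat)
        (isPullback_SpecMap_of_isPushout _ _ _ _ (CommRingCat.isPushout_tensorProduct A A' RY)) ‹_›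
    rw [HasRingHomProperty.Spec_iff (P := @Flat)] at h1
    exact RingHom.flat_algebraMap_iff.1 h1
  exact connectedSpace_pullback_spec
    (fun K _ _ => connected_fibre_of_noetherianBase (A := A) (A' := A') (R := RY) (R' := RX) rfl K) Ω η

end EtProperH0Lib

namespace EtProperH0Lib

/-- A morphism of strict localisations over a flat morphism with connected geometric fibres is 0-acyclic. -/
theorem isZeroAcyclic_sh {X S : Scheme.{u}} (f : X ⟶ S) [Flat f] (x : X) (RS : Type u)
    [CommRing RS] [IsLocalRing RS] [Algebra (S.presheaf.stalk (f.base x)) RS]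
    [IsLocalHom (algebraMap (S.presheaf.stalk (f.base x)) RS)]
    [Hensel.IsStrictHenselization (S.presheaf.stalk (f.base x)) RS]
    (RX : Type u) [CommRing RX] [IsLocalRing RX] [Algebra (X.presheaf.stalk x) RX]
    [IsLocalHom (algebraMap (X.presheaf.stalk x) RX)] [Hensel.IsStrictHenselization (X.presheaf.stalk x) RX]
    (ψ : RS →+* RX)
    (hψ : ψ.comp (algebraMap (S.presheaf.stalk (f.base x)) RS) =
      (algebraMap (X.presheaf.stalk x) RX).comp (f.stalkMap x).hom)
    (hconn : ∀ (Ω : Type u) [Field Ω] [IsAlgClosed Ω] (η : Spec (CommRingCat.of Ω) ⟶ Spec (CommRingCat.of RS)),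
      ConnectedSpace ↥(pullback (Spec.map (CommRingCat.ofHom ψ)) η)) :
    EtAcyc.IsZeroAcyclic (Spec.map (CommRingCat.ofHom ψ)) := by
  haveI : Algebra.WeaklyEtale (S.presheaf.stalk (f.base x)) RS :=
    Groth.Agent.S0736.result _ _ (Groth.Agent.S12237.result (S.presheaf.stalk (f.base x)) RS)
  haveI : Algebra.WeaklyEtale (X.presheaf.stalk x) RX :=
    Groth.Agent.S0736.result _ _ (Groth.Agent.S12237.result (X.presheaf.stalk x) RX)
  exact isZeroAcyclic_of_submConn _ ⟨fun S' a => quotientMap_of_flat ψ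
    (flat_of_weaklyEtale (f.stalkMap x).hom (Flat.stalkMap f x) ψ hψ) (surjective_of_conn _ hconn) S' a, hconn⟩

/-- Flat morphisms with separable fibres are universally locally 0-acyclic. -/
theorem isULocZeroAcyclic_of_flat_sep {X Y : Scheme.{u}} (g : X ⟶ Y) [Flat g] [GeometricallyReduced g]
    (h : (IsLocallyNoetherian X ∧ IsLocallyNoetherian Y) ∨ LocallyOfFinitePresentation g) :
    EtAcyc.IsULocZeroAcyclic g := by
  intro X₁ Y₁ g₁ b' b H
  haveI : Flat g₁ := MorphismProperty.of_isPullback (P := @Flat) H ‹_›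
  haveI : GeometricallyReduced g₁ := MorphismProperty.of_isPullback (P := @GeometricallyReduced) H ‹_›
  intro x RY RX _ _ _ _ _ _ _ _ _ _ _ _ hψ
  refine isZeroAcyclic_sh g₁ x RY RX (algebraMap RY RX) hψ fun Ω _ _ η => ?_
  rcases h with ⟨hX, hY⟩ | hfp
  · haveI := hX; haveI := hY
    exact connected_sh_fibre_baseChange g g₁ b' b H x RY RX (algebraMap RY RX) hψ Ω η
  · haveI := hfp
    haveI : LocallyOfFinitePresentation g₁ :=
      MorphismProperty.of_isPullback (P := @LocallyOfFinitePresentation) H ‹_›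
    exact connected_sh_fibre g₁ (Or.inr inferInstance) x RY RX (algebraMap RY RX) hψ Ω η

end EtProperH0Lib
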