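import Groth.Agent.EtProperH0Lib.Radicial
import Groth.Agent.EtProperH0Lib.SepFibres

/-!
# Morphisms to discrete schemes are universally locally 0-acyclic
-/

set_option autoImplicit false
set_option linter.style.haveILetI false
set_option linter.unusedSectionVars false
set_option backward.isDefEq.respectTransparency false
set_option backward.isDefEq.respectTransparency.types false
universe u

open CategoryTheory CategoryTheory.Limits AlgebraicGeometry IsLocalRing TensorProduct AlgSpRegLib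

namespace EtProperH0Lib

/-- The chart of a strict localisation of a base change over affine opens of the original morphism. -/
theorem exists_chart_baseChange {X Y X₁ Y₁ : Scheme.{u}} (g : X ⟶ Y) (g₁ : X₁ ⟶ Y₁) (b' : X₁ ⟶ X) (b : Y₁ ⟶ Y)
    (H : IsPullback b' g₁ g b) (x : X₁) (RY : Type u)
    [CommRing RY] [IsLocalRing RY] [Algebra (Y₁.presheaf.stalk (g₁.base x)) RY]
    [IsLocalHom (algebraMap (Y₁.presheaf.stalk (g₁.base x)) RY)]
    [hY : Hensel.IsStrictHenselization (Y₁.presheaf.stalk (g₁.base x)) RY]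
    (RX : Type u) [CommRing RX] [IsLocalRing RX] [Algebra (X₁.presheaf.stalk x) RX]
    [IsLocalHom (algebraMap (X₁.presheaf.stalk x) RX)] [hX : Hensel.IsStrictHenselization (X₁.presheaf.stalk x) RX]
    (ψ : RY →+* RX) [IsLocalHom ψ]
    (hψ : ψ.comp (algebraMap (Y₁.presheaf.stalk (g₁.base x)) RY) =
      (algebraMap (X₁.presheaf.stalk x) RX).comp (g₁.stalkMap x).hom)
    {U : Y.Opens} (hU : IsAffineOpen U) {V : X.Opens} (hV : IsAffineOpen V) (hVU : V ≤ g ⁻¹ᵁ U)
    (hxV : b'.base x ∈ V) :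
    ∃ (_ : Algebra Γ(X, V) RX) (_ : Algebra Γ(Y, U) RY),
      letI := (g.appLE U V hVU).hom.toAlgebra
      ∃ Θ : Γ(X, V) ⊗[Γ(Y, U)] RY →+* RX,
        (letI := Θ.toAlgebra; Algebra.WeaklyEtale (Γ(X, V) ⊗[Γ(Y, U)] RY) RX) ∧
        Θ.comp (Algebra.TensorProduct.includeRight : RY →ₐ[Γ(Y, U)] Γ(X, V) ⊗[Γ(Y, U)] RY).toRingHom = ψ := by
  haveI := hY.henselian
  haveI := hX.henselian
  have hyU : g.base (b'.base x) ∈ U := hVU hxV
  have hw : b.base (g₁.base x) = g.base (b'.base x) := by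
    rw [← Scheme.Hom.comp_apply, ← H.w]
    rfl
  obtain ⟨U₁, hU₁, hyU₁, hU₁U⟩ :=
    exists_isAffineOpen_mem_and_subset (x := g₁.base x) (U := b ⁻¹ᵁ U) (show b.base (g₁.base x) ∈ U by rw [hw]; exact hyU)
  let V₁ := g₁ ⁻¹ᵁ U₁ ⊓ b' ⁻¹ᵁ V
  have hxV₁ : x ∈ V₁ := ⟨hyU₁, hxV⟩
  have hV₁ : IsAffineOpen V₁ := by
    have : IsAffine _ := hU
    have : IsAffine _ := hV
    have : IsAffine _ := hU₁
    exact .of_isIso (Scheme.Hom.isPullback_resLE H.flip hVU hU₁U (UY := V₁) rfl).isoPullback.hom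
  have hP := (isIso_pushoutSection_iff H.flip hVU hU₁U (UY := V₁) rfl).1
    (isIso_pushoutSection_of_isAffineOpen H.flip hVU hU₁U rfl hU hV hU₁)
  let A : Type u := Γ(Y, U)
  let A' : Type u := Γ(X, V)
  let A₁ : Type u := Γ(Y₁, U₁)
  let A₁' : Type u := Γ(X₁, V₁)
  letI : Algebra A A' := (g.appLE U V hVU).hom.toAlgebra
  letI : Algebra A₁ A₁' := (g₁.appLE U₁ V₁ inf_le_left).hom.toAlgebra
  letI : Algebra A₁ RY :=
    ((algebraMap (Y₁.presheaf.stalk (g₁.base x)) RY).comp (Y₁.presheaf.germ U₁ _ hyU₁).hom).toAlgebra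
  letI : Algebra A₁' RX := ((algebraMap (X₁.presheaf.stalk x) RX).comp (X₁.presheaf.germ V₁ x hxV₁).hom).toAlgebra
  haveI : Algebra.WeaklyEtale A₁ RY := weaklyEtale_sh_sections hU₁ (g₁.base x) hyU₁ RY
  haveI : Algebra.WeaklyEtale A₁' RX := weaklyEtale_sh_sections hV₁ x hxV₁ RX
  letI : Algebra A RY := ((algebraMap A₁ RY).comp (b.appLE U U₁ hU₁U).hom).toAlgebra
  letI : Algebra RY RX := ψ.toAlgebra
  letI : Algebra A₁ RX := ((algebraMap A₁' RX).comp (algebraMap A₁ A₁')).toAlgebra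
  haveI : IsScalarTower A₁ A₁' RX := IsScalarTower.of_algebraMap_eq fun _ => rfl
  haveI : IsScalarTower A₁ RY RX := IsScalarTower.of_algebraMap_eq fun a => by
    show algebraMap (X₁.presheaf.stalk x) RX (X₁.presheaf.germ V₁ x hxV₁ (g₁.appLE U₁ V₁ inf_le_left a)) =
      ψ (algebraMap (Y₁.presheaf.stalk (g₁.base x)) RY (Y₁.presheaf.germ U₁ _ hyU₁ a))
    rw [← RingHom.comp_apply ψ, hψ, RingHom.comp_apply, Scheme.Hom.germ_stalkMap_apply]
    refine congrArg _ ?_
    show X₁.presheaf.germ V₁ x hxV₁ (X₁.presheaf.map (homOfLE inf_le_left).op (g₁.app U₁ a)) = _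
    exact X₁.presheaf.germ_res_apply (homOfLE inf_le_left) x hxV₁ _
  let T : Type u := A₁' ⊗[A₁] RY
  let θ : T →ₐ[A₁'] RX := Algebra.TensorProduct.lift (Algebra.ofId A₁' RX) (IsScalarTower.toAlgHom A₁ RY RX)
    fun _ _ => Commute.all _ _
  letI : Algebra T RX := θ.toRingHom.toAlgebra
  haveI : IsScalarTower A₁' T RX := IsScalarTower.of_algebraMap_eq' θ.comp_algebraMap.symm
  haveI : Algebra.WeaklyEtale T RX := Groth.Agent.S7127.result A₁' T RX
  have h₁ := hP.paste_horiz (CommRingCat.isPushout_tensorProduct A₁ A₁' RY).flip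
  have h₂ : IsPushout (b.appLE U U₁ hU₁U ≫ CommRingCat.ofHom (algebraMap A₁ RY)) (g.appLE U V hVU)
      (CommRingCat.ofHom (Algebra.TensorProduct.includeRight : RY →ₐ[A] A' ⊗[A] RY).toRingHom)
      (CommRingCat.ofHom (Algebra.TensorProduct.includeLeftRingHom : A' →+* A' ⊗[A] RY)) :=
    (CommRingCat.isPushout_tensorProduct A A' RY).flip
  let e := IsPushout.isoIsPushout _ _ h₂ h₁
  let A'' : Type u := A' ⊗[A] RY
  letI : Algebra RY A'' := (Algebra.TensorProduct.includeRight : RY →ₐ[A] A'').toRingHom.toAlgebra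
  letI : Algebra A'' T := e.hom.hom.toAlgebra
  letI : Algebra A'' RX := (θ.toRingHom.comp e.hom.hom).toAlgebra
  haveI : IsScalarTower A'' T RX := IsScalarTower.of_algebraMap_eq fun _ => rfl
  haveI : IsScalarTower RY A'' RX := IsScalarTower.of_algebraMap_eq fun r => by
    have he := ConcreteCategory.congr_hom (IsPushout.inl_isoIsPushout_hom _ _ h₂ h₁) r
    show ψ r = θ (e.hom.hom ((1 : A') ⊗ₜ r))
    refine Eq.trans ?_ (congrArg θ he).symm
    show ψ r = θ ((1 : A₁') ⊗ₜ r)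
    simp only [θ]
    erw [Algebra.TensorProduct.lift_tmul]
    rw [map_one, one_mul]
    rfl
  haveI : Algebra.Etale A'' T :=
    Algebra.Etale.of_equiv (AlgEquiv.ofRingEquiv (f := e.commRingCatIsoToRingEquiv) fun _ => rfl :
      A'' ≃ₐ[A''] T)
  haveI : Algebra.WeaklyEtale A'' RX := Algebra.WeaklyEtale.trans A'' T RX
  let A'' : Type u := A' ⊗[A] RY
  let Θ : A'' →+* RX := θ.toRingHom.comp e.hom.hom
  refine ⟨((algebraMap A₁' RX).comp (b'.appLE V V₁ inf_le_right).hom).toAlgebra, inferInstance, Θ, ?_, ?_⟩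
  · letI : Algebra A'' T := e.hom.hom.toAlgebra
    letI : Algebra A'' RX := Θ.toAlgebra
    haveI : IsScalarTower A'' T RX := IsScalarTower.of_algebraMap_eq fun _ => rfl
    haveI : Algebra.Etale A'' T :=
      Algebra.Etale.of_equiv (AlgEquiv.ofRingEquiv (f := e.commRingCatIsoToRingEquiv) fun _ => rfl : A'' ≃ₐ[A''] T)
    exact Algebra.WeaklyEtale.trans A'' T RX
  · refine RingHom.ext fun r => ?_
    have he := ConcreteCategory.congr_hom (IsPushout.inl_isoIsPushout_hom _ _ h₂ h₁) r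
    show θ (e.hom.hom ((1 : A') ⊗ₜ r)) = ψ r
    refine (congrArg θ he).trans ?_
    show θ ((1 : A₁') ⊗ₜ r) = ψ r
    exact lift_one_tmul _ _ r

/-- A morphism to a discrete scheme is universally locally 0-acyclic. -/
theorem isULocZeroAcyclic_of_discrete {X Y : Scheme.{u}} (g : X ⟶ Y) [DiscreteTopology Y] :
    EtAcyc.IsULocZeroAcyclic g := by
  intro X₁ Y₁ g₁ b' b H x RY RX _ _ _ _ _ _ hY _ _ hX _ _ hψ
  haveI := hY.henselian
  haveI := hX.henselian
  haveI : IsSepClosed (ResidueField RY) := hY.isSepClosure.sep_closed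
  haveI : IsSepClosed (ResidueField RX) := hX.isSepClosure.sep_closed
  obtain ⟨U, hU, hyU, hUy⟩ := exists_isAffineOpen_mem_and_subset (x := g.base (b'.base x))
    (U := ⟨{g.base (b'.base x)}, isOpen_discrete _⟩) rfl
  obtain ⟨V, hV, hxV, hVU⟩ := exists_isAffineOpen_mem_and_subset (x := b'.base x) (U := g ⁻¹ᵁ U) hyU
  have hsub : Subsingleton (PrimeSpectrum Γ(Y, U)) := ⟨fun p q => by
    have h : ∀ z : PrimeSpectrum Γ(Y, U), hU.fromSpec z = g.base (b'.base x) := fun z =>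
      hUy (hU.range_fromSpec.le ⟨z, rfl⟩)
    exact hU.fromSpec.isOpenEmbedding.injective ((h p).trans (h q).symm)⟩
  have hA : (nilradical Γ(Y, U)).IsMaximal := by
    let z : PrimeSpectrum Γ(Y, U) := hU.primeIdealOf ⟨_, hyU⟩
    haveI hz : z.asIdeal.IsMaximal := by
      obtain ⟨m, hm, hle⟩ := Ideal.exists_le_maximal _ z.isPrime.ne_top
      exact congrArg PrimeSpectrum.asIdeal (hsub.elim z ⟨m, hm.isPrime⟩) ▸ hm
    have : nilradical Γ(Y, U) = z.asIdeal := by
      refine le_antisymm (nilradical_le_prime _) fun a ha => ?_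
      rw [nilradical_eq_sInf]
      refine Submodule.mem_sInf.2 fun (p : Ideal Γ(Y, U)) (hp : p.IsPrime) => ?_
      have hzp : z.asIdeal = p := congrArg PrimeSpectrum.asIdeal (hsub.elim z ⟨p, hp⟩)
      rw [← hzp]
      exact ha
    exact this ▸ hz
  obtain ⟨_, _, Θ, hwe, hΘ⟩ := exists_chart_baseChange g g₁ b' b H x RY RX (algebraMap RY RX) hψ hU hV hVU hxV
  letI : Algebra Γ(Y, U) Γ(X, V) := (g.appLE U V hVU).hom.toAlgebra
  exact isZeroAcyclic_of_submConn _ (submConn_of_singlePoint hA Θ hwe (algebraMap RY RX) hΘ)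

end EtProperH0Lib
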