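import Groth.Agent.BigEtLib.Exact
import Groth.Agent.BigBCLib.Main
import Groth.Agent.EtShLib.FiniteBC

/-!
# Pullbacks to the big étale sites and inverse images on the small étale sites
-/

set_option autoImplicit false
set_option linter.style.haveILetI false
set_option linter.unusedSectionVars false
set_option backward.isDefEq.respectTransparency false
set_option backward.isDefEq.respectTransparency.types false
universe u

open CategoryTheory CategoryTheory.Limits AlgebraicGeometry Opposite

namespace EtProperH0Lib

noncomputable section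

variable {A : Type (u + 2)} [Category.{u + 1} A]
  [∀ X : Scheme.{u}, ((EtFppf.a X).sheafPushforwardContinuous A X.smallEtaleTopology
    (QuotSh.J Scheme.etalePrecoverage X)).IsRightAdjoint]
  [∀ {X Y : Scheme.{u}} (f : X ⟶ Y), ((EtCoh.bc f).sheafPushforwardContinuous A Y.smallEtaleTopology
    X.smallEtaleTopology).IsRightAdjoint]
  [∀ (X : Scheme.{u}) (P : X.Etaleᵒᵖ ⥤ A), (EtFppf.a X).op.HasPointwiseRightKanExtension P]

variable (A) in
/-- Pullback to the big étale site. -/
abbrev pPull (X : Scheme.{u}) : Sheaf X.smallEtaleTopology A ⥤ Sheaf (QuotSh.J Scheme.etalePrecoverage X) A :=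
  (EtFppf.a X).sheafPullback A X.smallEtaleTopology (QuotSh.J Scheme.etalePrecoverage X)

variable (A) in
/-- Restriction to the small étale site. -/
abbrev pRes (X : Scheme.{u}) : Sheaf (QuotSh.J Scheme.etalePrecoverage X) A ⥤ Sheaf X.smallEtaleTopology A :=
  (EtFppf.a X).sheafPushforwardContinuous A X.smallEtaleTopology (QuotSh.J Scheme.etalePrecoverage X)

variable (A) in
/-- The adjunction between the small and the big étale site. -/
abbrev pAdj (X : Scheme.{u}) : pPull A X ⊣ pRes A X :=
  (EtFppf.a X).sheafAdjunctionContinuous A X.smallEtaleTopology (QuotSh.J Scheme.etalePrecoverage X)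

variable {T S : Scheme.{u}} (f : T ⟶ S)

variable (A) in
/-- Direct image on the small étale sites. -/
abbrev pushS : Sheaf T.smallEtaleTopology A ⥤ Sheaf S.smallEtaleTopology A :=
  (EtCoh.bc f).sheafPushforwardContinuous A S.smallEtaleTopology T.smallEtaleTopology

variable (A) in
/-- Inverse image on the small étale sites. -/
abbrev pullS : Sheaf S.smallEtaleTopology A ⥤ Sheaf T.smallEtaleTopology A :=
  (EtCoh.bc f).sheafPullback A S.smallEtaleTopology T.smallEtaleTopology

variable (A) in
/-- The adjunction on the small étale sites. -/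
abbrev adjS : pullS A f ⊣ pushS A f :=
  (EtCoh.bc f).sheafAdjunctionContinuous A S.smallEtaleTopology T.smallEtaleTopology

variable (A) in
/-- Direct image commutes with restriction to the small sites. -/
def sigmaIso : BigSite.pushBig Scheme.etalePrecoverage f A ⋙ pRes A S ≅ pRes A T ⋙ pushS A f :=
  BigBCLib.pushIso A
    (show EtFppf.a S ⋙ Over.pullback f ≅ EtCoh.bc f ⋙ EtFppf.a T from Iso.refl _) _ _ (Iso.refl _) (Iso.refl _)

variable (A) in
/-- Pullback to the big sites commutes with inverse images. -/
def mIso : pPull A S ⋙ BigSite.pullBig Scheme.etalePrecoverage f A ≅ pullS A f ⋙ pPull A T :=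
  Adjunction.leftAdjointUniq
    (((pAdj A S).comp (BigSite.bigAdj Scheme.etalePrecoverage f A)).ofNatIsoRight (sigmaIso A f))
    ((adjS A f).comp (pAdj A T))

variable (F : Sheaf S.smallEtaleTopology A)

/-- Inverse images as restrictions of pullbacks to the big site. -/
def gamma : (pullS A f).obj F ⟶
    (pRes A T).obj ((BigSite.pullBig Scheme.etalePrecoverage f A).obj ((pPull A S).obj F)) :=
  (pAdj A T).unit.app ((pullS A f).obj F) ≫ (pRes A T).map ((mIso A f).inv.app F)

instance isIso_gamma : IsIso (gamma f F) := by
  haveI : IsIso (pAdj A T).unit := BigEtLib.isIso_piEtAdj_unit T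
  rw [gamma]
  infer_instance

theorem gamma_unit : (adjS A f).unit.app F ≫ (pushS A f).map (gamma f F) =
    ((pAdj A S).unit.app F ≫ (pRes A S).map
      ((BigSite.bigAdj Scheme.etalePrecoverage f A).unit.app ((pPull A S).obj F))) ≫
        (sigmaIso A f).hom.app _ := by
  let A₁ := ((pAdj A S).comp (BigSite.bigAdj Scheme.etalePrecoverage f A)).ofNatIsoRight (sigmaIso A f)
  let A₂ := (adjS A f).comp (pAdj A T)
  have key := Adjunction.unit_leftAdjointUniq_hom_app A₁ A₂ F
  have e1 : A₁.unit.app F = ((pAdj A S).unit.app F ≫ (pRes A S).map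
      ((BigSite.bigAdj Scheme.etalePrecoverage f A).unit.app ((pPull A S).obj F))) ≫
        (sigmaIso A f).hom.app _ := by
    simp [A₁, Adjunction.ofNatIsoRight]
  have e2 : A₂.unit.app F = (adjS A f).unit.app F ≫
      (pushS A f).map ((pAdj A T).unit.app ((pullS A f).obj F)) := by
    simp [A₂]
  rw [← e1, gamma, Functor.map_comp, ← Category.assoc, ← e2]
  rw [← key, Category.assoc]
  erw [← (pRes A T ⋙ pushS A f).map_comp]
  erw [Iso.hom_inv_id_app]
  erw [CategoryTheory.Functor.map_id, Category.comp_id]

theorem gamma_app (U : S.Etale) :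
    ((adjS A f).unit.app F).hom.app (op U) ≫ (gamma f F).hom.app (op ((EtCoh.bc f).obj U)) =
      ((pAdj A S).unit.app F).hom.app (op U) ≫
        ((pPull A S).obj F).obj.map ((Over.mapPullbackAdj f).counit.app ((EtFppf.a S).obj U)).op := by
  have h := congrArg (fun k => k.hom.app (op U)) (gamma_unit f F)
  refine h.trans ?_
  simp [sigmaIso, BigBCLib.pushIso, Adjunction.sheafPushforwardContinuous]
  refine congrArg (((pAdj A S).unit.app F).hom.app (op U) ≫ ·) ?_
  erw [Category.comp_id, CategoryTheory.Functor.map_id, Category.comp_id]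

variable (G : Sheaf T.smallEtaleTopology A)

/-- The comparison of direct images on the small and the big sites, before adjunction. -/
def psi : (pushS A f).obj G ⟶
    (pRes A S).obj ((BigSite.pushBig Scheme.etalePrecoverage f A).obj ((pPull A T).obj G)) :=
  (pushS A f).map ((pAdj A T).unit.app G) ≫ (sigmaIso A f).inv.app _

/-- The comparison of direct images on the small and the big sites. -/
def phi : (pPull A S).obj ((pushS A f).obj G) ⟶
    (BigSite.pushBig Scheme.etalePrecoverage f A).obj ((pPull A T).obj G) :=
  ((pAdj A S).homEquiv _ _).symm (psi f G)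

theorem phi_unit : (pAdj A S).unit.app ((pushS A f).obj G) ≫ (pRes A S).map (phi f G) = psi f G :=
  ((pAdj A S).homEquiv_unit _ _ _).symm.trans (((pAdj A S).homEquiv _ _).apply_symm_apply _)

theorem phi_app (U : S.Etale) :
    ((pAdj A S).unit.app ((pushS A f).obj G)).hom.app (op U) ≫ (phi f G).hom.app (op ((EtFppf.a S).obj U)) =
      ((pAdj A T).unit.app G).hom.app (op ((EtCoh.bc f).obj U)) := by
  have h := congrArg (fun k => k.hom.app (op U)) (phi_unit f G)
  refine h.trans ?_
  simp [psi, sigmaIso, BigBCLib.pushIso]
  erw [CategoryTheory.Functor.map_id, Category.comp_id]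

theorem phi_naturality {G G' : Sheaf T.smallEtaleTopology A} (g : G ⟶ G') :
    (pPull A S).map ((pushS A f).map g) ≫ phi f G' =
      phi f G ≫ (BigSite.pushBig Scheme.etalePrecoverage f A).map ((pPull A T).map g) := by
  rw [phi, phi, ← Adjunction.homEquiv_naturality_left_symm, ← Adjunction.homEquiv_naturality_right_symm]
  congr 1
  rw [psi, psi, Category.assoc, ← Functor.map_comp_assoc]
  erw [← (sigmaIso A f).inv.naturality ((pPull A T).map g)]
  rw [← Category.assoc]
  congr 1
  show (pushS A f).map _ = (pushS A f).map _ ≫ (pushS A f).map _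
  rw [← Functor.map_comp]
  exact congrArg (pushS A f).map ((pAdj A T).unit.naturality g)

end

end EtProperH0Lib
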