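import Groth.Agent.EtProperH0Lib.ProperGerms
import Groth.Agent.EtProperH0Lib.Compat
import Groth.Agent.EtFppfLib.Finite

/-!
# Proper base change for direct images of sheaves
-/

set_option autoImplicit false
set_option linter.style.haveILetI false
set_option linter.unusedSectionVars false
set_option backward.isDefEq.respectTransparency false
set_option backward.isDefEq.respectTransparency.types false
universe u

open CategoryTheory CategoryTheory.Limits AlgebraicGeometry Opposite EtDescentLib Groth.Agent.EtShLib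

namespace EtProperH0Lib

noncomputable section

variable {A : Type (u + 2)} [Category.{u + 1} A]
  [∀ X : Scheme.{u}, ((EtFppf.a X).sheafPushforwardContinuous A X.smallEtaleTopology
    (QuotSh.J Scheme.etalePrecoverage X)).IsRightAdjoint]
  [∀ {X Y : Scheme.{u}} (f : X ⟶ Y), ((EtCoh.bc f).sheafPushforwardContinuous A Y.smallEtaleTopology
    X.smallEtaleTopology).IsRightAdjoint]
  [∀ (X : Scheme.{u}) (P : X.Etaleᵒᵖ ⥤ A), (EtFppf.a X).op.HasPointwiseRightKanExtension P]
  {FA : A → A → Type*} {CA : A → Type (u + 1)} [∀ M N, FunLike (FA M N) (CA M) (CA N)]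
  [ConcreteCategory.{u + 1} A FA] [(forget A).ReflectsIsomorphisms]

/-- Comparison on a small étale object. -/
theorem phi_app_apply {T S : Scheme.{u}} (f : T ⟶ S) (G : Sheaf T.smallEtaleTopology A) (U : S.Etale)
    (t : ToType (((pushS A f).obj G).obj.obj (op U))) :
    (phi f G).hom.app (op ((EtFppf.a S).obj U))
        (((pAdj A S).unit.app ((pushS A f).obj G)).hom.app (op U) t) =
      ((pAdj A T).unit.app G).hom.app (op ((EtCoh.bc f).obj U)) t :=
  (ConcreteCategory.comp_apply (((pAdj A S).unit.app ((pushS A f).obj G)).hom.app (op U))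
    ((phi f G).hom.app (op ((EtFppf.a S).obj U))) t).symm.trans (ConcreteCategory.congr_hom (phi_app f G U) t)

theorem unit_app_bijective {X : Scheme.{u}} (H : Sheaf X.smallEtaleTopology A) (U : X.Etale) :
    Function.Bijective (((pAdj A X).unit.app H).hom.app (op U)) := by
  haveI : IsIso (pAdj A X).unit := BigEtLib.isIso_piEtAdj_unit X
  exact (isIso_iff_bijective ((forget A).map
    ((sheafToPresheaf _ A ⋙ (evaluation _ _).obj (op U)).map ((pAdj A X).unit.app H)))).1 inferInstance

variable (hA : ∀ (X : Scheme.{u}) (G : Sheaf X.smallEtaleTopology A),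
  HasGerms (((pPull A X).obj G).obj ⋙ forget A))

include hA

theorem phi_bijective_geo {T S : Scheme.{u}} (f : T ⟶ S) [IsProper f] (G : Sheaf T.smallEtaleTopology A)
    (H : Over S) (hH : IsGeo H.left) : Function.Bijective ((phi f G).hom.app (op H)) := by
  let PS := ((pPull A S).obj ((pushS A f).obj G)).obj
  let Q := (Over.pullback f).op ⋙ ((pPull A T).obj G).obj ⋙ forget A
  have hQ : HasGerms Q := hasGerms_push f (hA T G)
  have hPS : HasGerms (PS ⋙ forget A) := hA S _
  let p : H ⟶ Over.mk (𝟙 S) := Over.homMk H.hom (Category.comp_id _)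
  constructor
  · intro x x' hxx
    obtain ⟨W₁, h₁, hh₁, b₁, t₁, hb₁, ht₁⟩ := hPS.exists_germ p hH x
    obtain ⟨W₂, h₂, hh₂, b₂, t₂, hb₂, ht₂⟩ := hPS.exists_germ p hH x'
    have e₁ : h₁.left = W₁.hom := (Category.comp_id _).symm.trans (Over.w h₁)
    have e₂ : h₂.left = W₂.hom := (Category.comp_id _).symm.trans (Over.w h₂)
    haveI : Etale W₁.hom := e₁ ▸ hh₁
    haveI : Etale W₂.hom := e₂ ▸ hh₂
    let U : S.Etale := Scheme.Etale.mk (pullback.fst W₁.hom W₂.hom ≫ W₁.hom)
    let p₁ : (EtFppf.a S).obj U ⟶ W₁ := Over.homMk (pullback.fst W₁.hom W₂.hom) rfl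
    let p₂ : (EtFppf.a S).obj U ⟶ W₂ := Over.homMk (pullback.snd W₁.hom W₂.hom) pullback.condition.symm
    let b : H ⟶ (EtFppf.a S).obj U := Over.homMk (pullback.lift b₁.left b₂.left ((Over.w b₁).trans (Over.w b₂).symm))
      ((pullback.lift_fst_assoc _ _ _ _).trans (Over.w b₁))
    obtain ⟨f₁, hf₁⟩ := (unit_app_bijective ((pushS A f).obj G) U).2 (PS.map p₁.op t₁)
    obtain ⟨f₂, hf₂⟩ := (unit_app_bijective ((pushS A f).obj G) U).2 (PS.map p₂.op t₂)
    have hx₁ : PS.map b.op (PS.map p₁.op t₁) = x := by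
      rw [← Functor.map_comp_apply, ← op_comp,
        show b ≫ p₁ = b₁ from Over.OverMorphism.ext (pullback.lift_fst _ _ _)]
      exact ht₁
    have hx₂ : PS.map b.op (PS.map p₂.op t₂) = x' := by
      rw [← Functor.map_comp_apply, ← op_comp,
        show b ≫ p₂ = b₂ from Over.OverMorphism.ext (pullback.lift_snd _ _ _)]
      exact ht₂
    rw [← hx₁, ← hx₂, ← hf₁, ← hf₂, NatTrans.naturality_apply, NatTrans.naturality_apply, phi_app_apply,
      phi_app_apply] at hxx
    obtain ⟨W₄, h₄, hh₄, b₄, hb₄, he₄⟩ := hQ.exists_eq b hH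
      (((pAdj A T).unit.app G).hom.app _ f₁) (((pAdj A T).unit.app G).hom.app _ f₂) hxx
    haveI := hh₄
    haveI : Etale W₄.hom := by
      rw [← Over.w h₄]
      exact MorphismProperty.comp_mem (W := @Etale) _ _ hh₄ U.prop
    let U₄ : S.Etale := Scheme.Etale.mk W₄.hom
    let g : U₄ ⟶ U := MorphismProperty.Over.homMk h₄.left (Over.w h₄) trivial
    have key : ((pushS A f).obj G).obj.map g.op f₁ = ((pushS A f).obj G).obj.map g.op f₂ := by
      apply (unit_app_bijective G ((EtCoh.bc f).obj U₄)).1
      refine (NatTrans.naturality_apply ((pAdj A T).unit.app G).hom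
        ((EtCoh.bc f).map g).op f₁).trans (Eq.trans ?_ (NatTrans.naturality_apply
        ((pAdj A T).unit.app G).hom ((EtCoh.bc f).map g).op f₂).symm)
      exact he₄
    rw [← hx₁, ← hx₂, ← hf₁, ← hf₂]
    let k : H ⟶ (EtFppf.a S).obj U₄ := Over.homMk b₄.left (Over.w b₄)
    have hk : k ≫ (EtFppf.a S).map g = b := Over.OverMorphism.ext (congrArg CommaMorphism.left hb₄)
    rw [← hk, op_comp, Functor.map_comp_apply, Functor.map_comp_apply]
    congr 1
    have hn := fun w => NatTrans.naturality_apply ((pAdj A S).unit.app ((pushS A f).obj G)).hom g.op w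
    exact (hn f₁).symm.trans ((congrArg _ key).trans (hn f₂))
  · intro x
    obtain ⟨W, h, hh, b, t, hb, ht⟩ := hQ.exists_germ p hH x
    have e₁ : h.left = W.hom := (Category.comp_id _).symm.trans (Over.w h)
    haveI : Etale W.hom := e₁ ▸ hh
    let U : S.Etale := Scheme.Etale.mk W.hom
    obtain ⟨t', ht'⟩ := (unit_app_bijective G ((EtCoh.bc f).obj U)).2 t
    let a : H ⟶ (EtFppf.a S).obj U := Over.homMk b.left (Over.w b)
    refine ⟨PS.map a.op (((pAdj A S).unit.app ((pushS A f).obj G)).hom.app (op U) t'), ?_⟩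
    rw [NatTrans.naturality_apply, phi_app_apply, ht']
    exact ht

/-- Direct images along proper morphisms commute with the pullback to the big étale sites. -/
theorem isIso_phi {T S : Scheme.{u}} (f : T ⟶ S) [IsProper f] (G : Sheaf T.smallEtaleTopology A) :
    IsIso (phi f G) := by
  haveI : ∀ W, IsIso ((phi f G).hom.app W) := fun W => by
    haveI : IsIso ((forget A).map ((phi f G).hom.app W)) := (isIso_iff_bijective _).2
      (bijective_of_bijective_geo (Functor.whiskerRight (phi f G).hom (forget A)) (hA S _)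
        (hasGerms_push f (hA T G)).sheaf (fun a hG s t h => (hasGerms_push f (hA T G)).exists_eq a hG s t h)
        (phi_bijective_geo hA f G) W.unop)
    exact isIso_of_reflects_iso _ (forget A)
  haveI : IsIso (phi f G).hom := NatIso.isIso_of_isIso_app _
  haveI : IsIso ((sheafToPresheaf _ _).map (phi f G)) := ‹IsIso (phi f G).hom›
  exact isIso_of_reflects_iso _ (sheafToPresheaf _ _)

omit hA

variable {X Y X' Y' : Scheme.{u}} {f : X ⟶ Y} {f' : X' ⟶ Y'} {g' : X' ⟶ X} {g : Y' ⟶ Y}
  (hc : IsPullback g' f' f g) (F : Sheaf X.smallEtaleTopology A)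

/-- The transposed base change morphism. -/
def bcTr : (pushS A f).obj F ⟶ (pushS A g).obj ((pushS A f').obj ((pullS A g').obj F)) :=
  ObjectProperty.homMk
    { app := fun W => ((adjS A g').unit.app F).hom.app (op ((EtCoh.bc f).obj W.unop)) ≫
        ((pullS A g').obj F).obj.map (sqHom hc W.unop).op
      naturality := fun W W' a => by
        show F.obj.map ((EtCoh.bc f).map a.unop).op ≫ _ ≫ _ = (_ ≫ _) ≫ ((pullS A g').obj F).obj.map
          ((EtCoh.bc f').map ((EtCoh.bc g).map a.unop)).op
        rw [Category.assoc, ← Functor.map_comp, ← op_comp, sqHom_naturality, op_comp, Functor.map_comp,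
          ← Category.assoc, ← Category.assoc]
        exact congrArg (· ≫ _) (((adjS A g').unit.app F).hom.naturality ((EtCoh.bc f).map a.unop).op) }

/-- The base change morphism. -/
def bcMor : (pullS A g).obj ((pushS A f).obj F) ⟶ (pushS A f').obj ((pullS A g').obj F) :=
  ((adjS A g).homEquiv _ _).symm (bcTr hc F)

/-- The comparison of the two base changes. -/
def kappaIso : BigSite.pushBig Scheme.etalePrecoverage f A ⋙
      (BigSite.pullBig Scheme.etalePrecoverage g A ⋙ pRes A Y') ≅
    (BigSite.pullBig Scheme.etalePrecoverage g' A ⋙ pRes A X') ⋙ pushS A f' :=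
  BigBCLib.pushIso A
    (show EtFppf.a Y' ⋙ Over.map g ⋙ Over.pullback f ≅ EtCoh.bc f' ⋙ EtFppf.a X' ⋙ Over.map g' from
      Functor.isoWhiskerLeft _ (BigBCLib.mapPullbackIso hc)) _ _ (Iso.refl _) (Iso.refl _)

theorem bcMor_gamma : bcMor hc F ≫ (pushS A f').map (gamma g' F) =
    gamma g ((pushS A f).obj F) ≫
      (BigSite.pullBig Scheme.etalePrecoverage g A ⋙ pRes A Y').map (phi f F) ≫ (kappaIso hc).hom.app _ := by
  apply ((adjS A g).homEquiv _ _).injective
  rw [Adjunction.homEquiv_naturality_right, bcMor, Equiv.apply_symm_apply, Adjunction.homEquiv_unit,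
    Functor.map_comp, ← Category.assoc ((adjS A g).unit.app _)]
  refine Sheaf.hom_ext (NatTrans.ext (funext fun ⟨U⟩ => ?_))
  let P := ((pPull A X).obj F).obj
  let cX := (Over.mapPullbackAdj g').counit.app ((EtFppf.a X).obj ((EtCoh.bc f).obj U))
  let cY := (Over.mapPullbackAdj g).counit.app ((EtFppf.a Y).obj U)
  let ηX := ((pAdj A X).unit.app F).hom.app (op ((EtCoh.bc f).obj U))
  let mL := (Over.map g').map ((EtFppf.a X').map (sqHom hc U)) ≫ cX
  let mR := (BigBCLib.mapPullbackIso hc).inv.app ((EtFppf.a Y').obj ((EtCoh.bc g).obj U)) ≫ (Over.pullback f).map cY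
  have hL : (((adjS A g').unit.app F).hom.app (op ((EtCoh.bc f).obj U)) ≫
      ((pullS A g').obj F).obj.map (sqHom hc U).op) ≫
        (gamma g' F).hom.app (op ((EtCoh.bc f').obj ((EtCoh.bc g).obj U))) = ηX ≫ P.map mL.op := by
    rw [Category.assoc, (gamma g' F).hom.naturality (sqHom hc U).op]
    refine (Category.assoc _ _ _).symm.trans ((congrArg (· ≫ _) (gamma_app g' F ((EtCoh.bc f).obj U))).trans ?_)
    refine (Category.assoc _ _ _).trans ?_
    refine congrArg (ηX ≫ ·) ?_
    rw [op_comp, Functor.map_comp]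
    rfl
  have hR : (((adjS A g).unit.app ((pushS A f).obj F)).hom.app (op U) ≫
      (gamma g ((pushS A f).obj F)).hom.app (op ((EtCoh.bc g).obj U))) ≫
        (phi f F).hom.app (op ((Over.map g).obj ((EtFppf.a Y').obj ((EtCoh.bc g).obj U)))) ≫
          P.map ((BigBCLib.mapPullbackIso hc).inv.app ((EtFppf.a Y').obj ((EtCoh.bc g).obj U))).op =
      ηX ≫ P.map mR.op := by
    rw [gamma_app, Category.assoc, ← Category.assoc (((pPull A Y).obj ((pushS A f).obj F)).obj.map cY.op)]
    erw [(phi f F).hom.naturality cY.op]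
    rw [Category.assoc, ← Category.assoc (((pAdj A Y).unit.app _).hom.app _), op_comp, Functor.map_comp]
    erw [phi_app]
    rfl
  have hm : mL = mR := by
    refine Over.OverMorphism.ext (pullback.hom_ext ?_ ?_)
    · refine (show (sqLeft hc U ≫ bFst g' ((EtCoh.bc f).obj U)) ≫ bFst f U = _ from sq_fst_fst hc U).trans ?_
      simp only [mR, cY, Over.comp_left, Over.pullback_map_left, Category.assoc, pullback.lift_fst]
      simp [BigBCLib.mapPullbackIso]
      erw [pullback.lift_fst, IsPullback.isoPullback_hom_fst_assoc]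
      rfl
    · refine (show (sqLeft hc U ≫ bFst g' ((EtCoh.bc f).obj U)) ≫ bSnd f U = _ from sq_fst_snd hc U).trans ?_
      simp only [mR, cY, Over.comp_left, Over.pullback_map_left, Category.assoc, pullback.lift_snd]
      simp [BigBCLib.mapPullbackIso]
      erw [pullback.lift_snd, IsPullback.isoPullback_hom_snd]
      rfl
  refine hL.trans ((congrArg (fun m => ηX ≫ P.map m.op) hm).trans (hR.symm.trans ?_))
  simp [kappaIso, BigBCLib.pushIso]
  erw [Category.comp_id]

include hA in
/-- Proper base change for direct images. -/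
theorem isIso_bcMor [IsProper f] : IsIso (bcMor hc F) := by
  haveI := isIso_phi hA f F
  haveI : IsIso (bcMor hc F ≫ (pushS A f').map (gamma g' F)) := by
    rw [bcMor_gamma]
    infer_instance
  exact IsIso.of_isIso_comp_right (bcMor hc F) ((pushS A f').map (gamma g' F))

end

end EtProperH0Lib
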