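import Groth.Agent.EtProperH0Lib.StrictPair
import Groth.Agent.EtProperH0Lib.BaseChange

/-!
# Base change in degree zero, tested on strict localisations
-/

set_option autoImplicit false
set_option linter.style.haveILetI false
set_option linter.unusedSectionVars false
set_option backward.isDefEq.respectTransparency false
set_option backward.isDefEq.respectTransparency.types false
universe u v

open CategoryTheory CategoryTheory.Limits AlgebraicGeometry Opposite EtDescentLib AlgSpRegLib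

namespace EtProperH0Lib

noncomputable section

/-- Sections on the base changes to compatible strict localisations agree. -/
def StrictBij {T S : Scheme.{u}} (f : T ⟶ S) (P : (Over T)ᵒᵖ ⥤ Type v) {A A' : CommRingCat.{u}}
    (g : Spec A ⟶ S) (g' : Spec A' ⟶ S) (κ : A ⟶ A') : Prop :=
  ∀ (p : Ideal A) [p.IsPrime] (p' : Ideal A') [p'.IsPrime] (ψ : ShAt p →+* ShAt p'), IsLocalHom ψ →
    ψ.comp (shι p) = (shι p').comp κ.hom → ∀ m : shObj g' p' ⟶ shObj g p, m.left = Spec.map (CommRingCat.ofHom ψ) →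
      Function.Bijective (P.map ((Over.pullback f).map m).op)

/-- The condition on an object of the big site. -/
def StrictBijOn {T S : Scheme.{u}} (f : T ⟶ S) (P : (Over T)ᵒᵖ ⥤ Type v) (W : Over S) : Prop :=
  ∀ (A A' : CommRingCat.{u}) (g : Spec A ⟶ S) (_ : Etale g) (j : Spec A' ⟶ W.left) (_ : Etale j) (κ : A ⟶ A'),
    Spec.map κ ≫ g = j ≫ W.hom → StrictBij f P g (j ≫ W.hom) κ

theorem StrictBijOn.of_etale {T S : Scheme.{u}} {f : T ⟶ S} {P : (Over T)ᵒᵖ ⥤ Type v} {W : Over S}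
    (hW : StrictBijOn f P W) {V : Over S} (h : V ⟶ W) [Etale h.left] : StrictBijOn f P V := by
  intro A A' g hg j hj κ e
  haveI := hj
  have e' : (j ≫ h.left) ≫ W.hom = j ≫ V.hom := by rw [Category.assoc, Over.w h]
  have := hW A A' g hg (j ≫ h.left) inferInstance κ (e.trans e'.symm)
  rwa [e'] at this

/-- Affine étale neighbourhoods of geometric points. -/
theorem exists_affine_nhd {S : Scheme.{u}} {W G : Over S} (a : G ⟶ W) (hG : IsGeo G.left) :
    ∃ (A' : CommRingCat.{u}) (j : Spec A' ⟶ W.left) (_ : Etale j) (b : G ⟶ Over.mk (j ≫ W.hom)),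
      b ≫ (Over.homMk j rfl : Over.mk (j ≫ W.hom) ⟶ W) = a := by
  obtain ⟨y₀⟩ := hG.nonempty
  obtain ⟨O, hO, hy, -⟩ := exists_isAffineOpen_mem_and_subset (X := W.left) (U := ⊤) (x := a.left y₀) trivial
  let h₀ : Over.mk (hO.fromSpec ≫ W.hom) ⟶ W := Over.homMk hO.fromSpec rfl
  haveI : Etale h₀.left := inferInstanceAs (Etale hO.fromSpec)
  obtain ⟨w, hw⟩ := hO.range_fromSpec.ge hy
  obtain ⟨a', ha', -⟩ := exists_lift h₀ a hG w fun y => (congrArg a.left (hG.subsingleton y y₀)).trans hw.symm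
  exact ⟨Γ(W.left, O), hO.fromSpec, inferInstanceAs (Etale hO.fromSpec), a', ha'⟩

theorem map_sq_eq {C : Type*} [Category C] (Q : Cᵒᵖ ⥤ Type v) {a b c d e k : C} {s : a ⟶ b} {v : b ⟶ c}
    {m₁ : a ⟶ d} {s₁ : d ⟶ c} {w : b ⟶ k} {m : d ⟶ e} {π : e ⟶ k} (h₁ : m₁ ≫ s₁ = s ≫ v) (h₂ : s ≫ w = m₁ ≫ m ≫ π)
    (x : Q.obj (op c)) (t : Q.obj (op k)) (hy : Q.map m.op (Q.map π.op t) = Q.map s₁.op x) :
    Q.map s.op (Q.map v.op x) = Q.map s.op (Q.map w.op t) := by
  rw [← FunctorToTypes.map_comp_apply, ← FunctorToTypes.map_comp_apply, ← op_comp, ← op_comp, ← h₁, h₂]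
  simp only [op_comp, FunctorToTypes.map_comp_apply, hy]

theorem map_sq_eq' {C : Type*} [Category C] (Q : Cᵒᵖ ⥤ Type v) {a b c d k : C} (h : a ⟶ b) (v : b ⟶ c) (u : c ⟶ d)
    (w : b ⟶ k) (x : Q.obj (op d)) (t : Q.obj (op k))
    (he : Q.map h.op (Q.map v.op (Q.map u.op x)) = Q.map h.op (Q.map w.op t)) :
    Q.map (h ≫ w).op t = Q.map (h ≫ v ≫ u).op x := by
  simp only [op_comp, FunctorToTypes.map_comp_apply]
  exact he.symm

variable {A : Type (u + 2)} [Category.{u + 1} A]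
  [∀ X : Scheme.{u}, ((EtFppf.a X).sheafPushforwardContinuous A X.smallEtaleTopology
    (QuotSh.J Scheme.etalePrecoverage X)).IsRightAdjoint]
  [∀ {X Y : Scheme.{u}} (f : X ⟶ Y), ((EtCoh.bc f).sheafPushforwardContinuous A Y.smallEtaleTopology
    X.smallEtaleTopology).IsRightAdjoint]
  [∀ (X : Scheme.{u}) (P : X.Etaleᵒᵖ ⥤ A), (EtFppf.a X).op.HasPointwiseRightKanExtension P]
  {FA : A → A → Type*} {CA : A → Type (u + 1)} [∀ M N, FunLike (FA M N) (CA M) (CA N)]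
  [ConcreteCategory.{u + 1} A FA] [(forget A).ReflectsIsomorphisms]
  (hA : ∀ (X : Scheme.{u}) (G : Sheaf X.smallEtaleTopology A), HasGerms (((pPull A X).obj G).obj ⋙ forget A))

include hA

variable {T S : Scheme.{u}} (f : T ⟶ S) (G : Sheaf T.smallEtaleTopology A)

/-- Sections of the pullback to the big site are locally inverse images of sections on affine étale schemes. -/
theorem exists_rep {W G₀ : Over S} (a : G₀ ⟶ W) (hG : IsGeo G₀.left) (U₀ : S.Etale)
    (c₀ : W ⟶ (EtFppf.a S).obj U₀) (H : Sheaf S.smallEtaleTopology A) (s : ToType (((pPull A S).obj H).obj.obj (op W))) :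
    ∃ (B : CommRingCat.{u}) (g : Spec B ⟶ S) (_ : Etale g) (p : Scheme.Etale.mk g ⟶ U₀) (W₁ : Over S) (h : W₁ ⟶ W)
      (_ : Etale h.left) (b : G₀ ⟶ W₁) (c : W₁ ⟶ (EtFppf.a S).obj (Scheme.Etale.mk g))
      (t : ToType (H.obj.obj (op (Scheme.Etale.mk g)))),
      b ≫ h = a ∧ h ≫ c₀ = c ≫ (EtFppf.a S).map p ∧
      ((pPull A S).obj H).obj.map h.op s =
        ((pPull A S).obj H).obj.map c.op (((pAdj A S).unit.app H).hom.app (op (Scheme.Etale.mk g)) t) := by
  have hPS := hA S H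
  let PS := ((pPull A S).obj H).obj
  obtain ⟨V, v, hv, b₀, t₀, hb₀, ht₀⟩ := hPS.exists_germ (a ≫ c₀) hG (PS.map a.op s)
  haveI := hv
  obtain ⟨B, j, hj, b₁, hb₁⟩ := exists_affine_nhd b₀ hG
  haveI := hj
  haveI : Etale U₀.hom := U₀.prop
  let g := j ≫ V.hom
  haveI hg : Etale g := by
    show Etale (j ≫ V.hom)
    rw [← Over.w v]
    exact MorphismProperty.comp_mem (W := @Etale) _ _ hj (MorphismProperty.comp_mem (W := @Etale) _ _ hv U₀.prop)
  let v₁ : Over.mk g ⟶ V := Over.homMk j rfl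
  let p : Scheme.Etale.mk g ⟶ U₀ :=
    MorphismProperty.Over.homMk (v₁ ≫ v).left (Over.w (v₁ ≫ v)) trivial
  obtain ⟨t, ht⟩ := (unit_app_bijective H (Scheme.Etale.mk g)).2 (PS.map v₁.op t₀)
  haveI : Etale (v₁ ≫ v).left := by
    rw [Over.comp_left]
    exact MorphismProperty.comp_mem (W := @Etale) _ _ hj hv
  let W' : Over S := pb c₀ (v₁ ≫ v)
  haveI : Etale (pbFst c₀ (v₁ ≫ v)).left := MorphismProperty.pullback_fst (P := @Etale) _ _ inferInstance
  let b' : G₀ ⟶ W' := pbLift a b₁ (by rw [← Category.assoc b₁, hb₁, hb₀])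
  obtain ⟨W₁, h₁, hh₁, b, hb, he⟩ := hPS.exists_eq b' hG (PS.map (pbFst c₀ (v₁ ≫ v)).op s)
    (PS.map (pbSnd c₀ (v₁ ≫ v)).op (PS.map v₁.op t₀)) (by
      refine (map_comp_apply' (P := PS ⋙ forget A) _ _ _).symm.trans (Eq.trans ?_
        (map_comp_apply' (P := PS ⋙ forget A) _ _ _))
      rw [pbLift_fst, pbLift_snd]
      refine ht₀.symm.trans (Eq.trans ?_ (map_comp_apply' (P := PS ⋙ forget A) _ _ _))
      rw [hb₁])
  haveI := hh₁
  refine ⟨B, g, hg, p, W₁, h₁ ≫ pbFst c₀ (v₁ ≫ v), ?_, b, h₁ ≫ pbSnd c₀ (v₁ ≫ v), t, ?_, ?_, ?_⟩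
  · rw [Over.comp_left]
    infer_instance
  · rw [← Category.assoc, hb, pbLift_fst]
  · rw [Category.assoc, pb_condition, Category.assoc]
    rfl
  · rw [ht]
    exact (map_comp_apply' (P := PS ⋙ forget A) _ _ _).trans
      (he.trans (map_comp_apply' (P := PS ⋙ forget A) _ _ _).symm)

variable [QuasiCompact f] [QuasiSeparated f]

/-- Injectivity of the comparison. -/
theorem phi_injective_of_strict (W : Over S)
    (hW : StrictBijOn f (((pPull A T).obj G).obj ⋙ forget A) W) :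
    Function.Injective ((phi f G).hom.app (op W)) := by
  intro s s' hss
  let P := ((pPull A T).obj G).obj ⋙ forget A
  let H := (pushS A f).obj G
  let PS := ((pPull A S).obj H).obj
  have hPS : HasGerms (PS ⋙ forget A) := hA S H
  refine hPS.ext fun G₀ a hG => ?_
  let top : W ⟶ (EtFppf.a S).obj (EtCoh.top S) := Over.homMk W.hom (Category.comp_id _)
  obtain ⟨B₁, g₁, hg₁, p₁, W₁, h₁, hh₁, b₁, c₁, t₁, hb₁, -, hs₁⟩ := exists_rep hA a hG (EtCoh.top S) top H s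
  obtain ⟨B, g, hg, q, W₂, h₂, hh₂, b₂, c₂, t₂, hb₂, hq, hs₂⟩ :=
    exists_rep hA b₁ hG _ c₁ H (PS.map h₁.op s')
  haveI := hh₁; haveI := hh₂; haveI := hg
  obtain ⟨B', j, hj, b, hb⟩ := exists_affine_nhd b₂ hG
  haveI := hj
  let v : Over.mk (j ≫ W₂.hom) ⟶ W₂ := Over.homMk j rfl
  let h : Over.mk (j ≫ W₂.hom) ⟶ W := v ≫ h₂ ≫ h₁
  let c : Over.mk (j ≫ W₂.hom) ⟶ Over.mk g := v ≫ c₂
  haveI : Etale h.left := by
    show Etale (j ≫ h₂.left ≫ h₁.left)
    exact MorphismProperty.comp_mem (W := @Etale) _ _ hj (MorphismProperty.comp_mem (W := @Etale) _ _ hh₂ hh₁)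
  have hbh : b ≫ h = a := by rw [← hb₁, ← hb₂, ← hb, Category.assoc, Category.assoc]
  let f₁ : ToType (H.obj.obj (op (Scheme.Etale.mk g))) := H.obj.map q.op t₁
  let η := fun w => ((pAdj A S).unit.app H).hom.app (op (Scheme.Etale.mk g)) w
  have hn : η f₁ = PS.map ((EtFppf.a S).map q).op (((pAdj A S).unit.app H).hom.app (op (Scheme.Etale.mk g₁)) t₁) :=
    NatTrans.naturality_apply ((pAdj A S).unit.app H).hom q.op t₁
  have e₁ : PS.map h.op s = PS.map c.op (η f₁) := by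
    rw [hn]
    refine Eq.trans ?_ (map_comp_apply' (P := PS ⋙ forget A) _ _ _)
    rw [show c ≫ (EtFppf.a S).map q = (v ≫ h₂) ≫ c₁ from by rw [Category.assoc, Category.assoc, hq],
      show h = (v ≫ h₂) ≫ h₁ from (Category.assoc _ _ _).symm]
    exact (map_comp_apply' (P := PS ⋙ forget A) _ _ _).trans ((congrArg (PS.map (v ≫ h₂).op) hs₁).trans
      (map_comp_apply' (P := PS ⋙ forget A) _ _ _).symm)
  have e₂ : PS.map h.op s' = PS.map c.op (η t₂) :=
    (map_comp_apply' (P := PS ⋙ forget A) v (h₂ ≫ h₁) s').trans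
      ((congrArg (PS.map v.op) ((map_comp_apply' (P := PS ⋙ forget A) h₂ h₁ s').trans hs₂)).trans
        (map_comp_apply' (P := PS ⋙ forget A) v c₂ _).symm)
  let τ := fun w => ((pAdj A T).unit.app G).hom.app (op ((EtCoh.bc f).obj (Scheme.Etale.mk g))) w
  have key : P.map ((Over.pullback f).map c).op (τ f₁) = P.map ((Over.pullback f).map c).op (τ t₂) := by
    have k : ∀ w, P.map ((Over.pullback f).map c).op (τ w) =
        (phi f G).hom.app (op (Over.mk (j ≫ W₂.hom))) (PS.map c.op (η w)) := fun w => by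
      refine Eq.trans ?_ (NatTrans.naturality_apply (phi f G).hom c.op (η w)).symm
      exact congrArg (P.map ((Over.pullback f).map c).op) (phi_app_apply f G (Scheme.Etale.mk g) w).symm
    rw [k, k, ← e₁, ← e₂, NatTrans.naturality_apply, NatTrans.naturality_apply, hss]
  obtain ⟨κ, hκ⟩ := Spec.map_surjective c.left
  have hκ' : Spec.map κ ≫ g = j ≫ W₂.hom := by rw [hκ]; exact Over.w c
  obtain ⟨Ω, _, _, e, p', _, φ', aR', hker', hr', haR', haR'in⟩ := exists_shPt _ b hG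
  obtain ⟨p, _, φ, ψ, m, -, hψl, hψ, -, hml, hm⟩ := exists_shPair g _ κ hκ' e φ' hker' hr' aR' haR'
  haveI : Etale (h₂ ≫ h₁).left := MorphismProperty.comp_mem (W := @Etale) _ _ hh₂ hh₁
  have hbij : Function.Bijective (P.map ((Over.pullback f).map m).op) :=
    hW.of_etale (h₂ ≫ h₁) B B' g hg j hj κ hκ' p p' ψ hψl hψ m hml
  have hc : (Over.homMk (Spec.map κ) hκ' : Over.mk (j ≫ W₂.hom) ⟶ Over.mk g) = c := Over.OverMorphism.ext hκ
  have heq : P.map ((Over.pullback f).map (shIn g p)).op (τ f₁) =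
      P.map ((Over.pullback f).map (shIn g p)).op (τ t₂) := by
    apply hbij.1
    rw [← map_comp_apply', ← map_comp_apply', ← Functor.map_comp, hm, hc, Functor.map_comp, map_comp_apply',
      map_comp_apply', key]
  obtain ⟨I, _, _, DS, cS, hpt, ⟨hlim⟩, hDS⟩ := exists_sh_system p
  obtain ⟨cpt, cπ⟩ := cS
  subst hpt
  obtain ⟨W₄, h₄, hh₄, -, π, hπ, he⟩ := exists_eq_strict f g _ DS cπ hlim hDS (hA T G) _ _ heq
  haveI := hh₄
  haveI : Etale W₄.hom := by
    rw [← Over.w h₄]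
    exact MorphismProperty.comp_mem (W := @Etale) _ _ hh₄ hg
  let U₄ : S.Etale := Scheme.Etale.mk W₄.hom
  let r : U₄ ⟶ Scheme.Etale.mk g := MorphismProperty.Over.homMk h₄.left (Over.w h₄) trivial
  have hr4 : H.obj.map r.op f₁ = H.obj.map r.op t₂ := by
    apply (unit_app_bijective G ((EtCoh.bc f).obj U₄)).1
    refine (NatTrans.naturality_apply ((pAdj A T).unit.app G).hom ((EtCoh.bc f).map r).op f₁).trans
      (Eq.trans ?_ (NatTrans.naturality_apply ((pAdj A T).unit.app G).hom ((EtCoh.bc f).map r).op t₂).symm)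
    exact he
  let k : G₀ ⟶ (EtFppf.a S).obj U₄ := Over.homMk (aR' ≫ m ≫ π).left (Over.w (aR' ≫ m ≫ π))
  have hk : k ≫ (EtFppf.a S).map r = b ≫ c := by
    refine Over.OverMorphism.ext ?_
    show ((aR' ≫ m ≫ π) ≫ h₄).left = (b ≫ c).left
    rw [Category.assoc, Category.assoc, hπ, hm, hc, ← Category.assoc aR', haR'in]
  have hn2 : ∀ w, PS.map (b ≫ c).op (η w) =
      PS.map k.op (((pAdj A S).unit.app H).hom.app (op U₄) (H.obj.map r.op w)) := fun w => by
    rw [← hk]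
    exact (map_comp_apply' (P := PS ⋙ forget A) _ _ _).trans
      (congrArg (PS.map k.op) (NatTrans.naturality_apply ((pAdj A S).unit.app H).hom r.op w).symm)
  have hl : ∀ (x : ToType (PS.obj (op W))) w, PS.map h.op x = PS.map c.op (η w) →
      PS.map a.op x = PS.map (b ≫ c).op (η w) := fun x w hx => by
    rw [← hbh]
    exact (map_comp_apply' (P := PS ⋙ forget A) _ _ _).trans ((congrArg (PS.map b.op) hx).trans
      (map_comp_apply' (P := PS ⋙ forget A) _ _ _).symm)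
  show PS.map a.op s = PS.map a.op s'
  rw [hl s f₁ e₁, hl s' t₂ e₂, hn2, hn2, hr4]

/-- Sections of the inverse image are locally in the image of the comparison. -/
theorem exists_local_preimage (W : Over S) (hW : StrictBijOn f (((pPull A T).obj G).obj ⋙ forget A) W) (z : W.left)
    (x : ((Over.pullback f).op ⋙ ((pPull A T).obj G).obj ⋙ forget A).obj (op W)) :
    ∃ (U : Over S) (u : U ⟶ W) (_ : Etale u.left) (σ : ToType (((pPull A S).obj ((pushS A f).obj G)).obj.obj (op U))),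
      z ∈ Set.range u.left.base ∧
        (phi f G).hom.app (op U) σ = ((Over.pullback f).op ⋙ ((pPull A T).obj G).obj ⋙ forget A).map u.op x := by
  let P := ((pPull A T).obj G).obj ⋙ forget A
  have hP : HasGerms P := hA T G
  let PS := ((pPull A S).obj ((pushS A f).obj G)).obj
  let Q := (Over.pullback f).op ⋙ P
  obtain ⟨G₀, a, hG, ha⟩ := exists_geo_at W z
  obtain ⟨y₀⟩ := hG.nonempty
  obtain ⟨O, hO, hy, -⟩ := exists_isAffineOpen_mem_and_subset (X := S) (U := ⊤) (x := W.hom (a.left y₀)) trivial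
  let g := hO.fromSpec
  haveI : Etale g := inferInstanceAs (Etale hO.fromSpec)
  let WO : Over S := Over.mk ((W.hom ⁻¹ᵁ O).ι ≫ W.hom)
  let vO : WO ⟶ W := Over.homMk (W.hom ⁻¹ᵁ O).ι rfl
  haveI hvO : Etale vO.left := inferInstanceAs (Etale (W.hom ⁻¹ᵁ O).ι)
  obtain ⟨aO, haO, -⟩ := exists_lift vO a hG ⟨a.left y₀, hy⟩ fun y => congrArg a.left (hG.subsingleton y y₀)
  obtain ⟨B', j₁, hj₁, b, hb⟩ := exists_affine_nhd aO hG
  haveI := hj₁
  let W₁ : Over S := Over.mk (j₁ ≫ WO.hom)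
  let u₁ : W₁ ⟶ W := (Over.homMk j₁ rfl : W₁ ⟶ WO) ≫ vO
  haveI hu₁ : Etale u₁.left := MorphismProperty.comp_mem (W := @Etale) _ _ hj₁ hvO
  have hr : Set.range W₁.hom ⊆ Set.range g := by
    rw [hO.range_fromSpec]
    rintro _ ⟨w, rfl⟩
    show W.hom ((W.hom ⁻¹ᵁ O).ι (j₁ w)) ∈ O
    exact (j₁ w).2
  obtain ⟨κ, hκ⟩ := Spec.map_surjective (IsOpenImmersion.lift g W₁.hom hr)
  have hκ' : Spec.map κ ≫ g = W₁.hom := by rw [hκ, IsOpenImmersion.lift_fac]
  obtain ⟨Ω, _, _, e, p', _, φ', aR', hker', hr', haR', haR'in⟩ := exists_shPt W₁.hom b hG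
  obtain ⟨p, _, φ, ψ, m, -, hψl, hψ, -, hml, hm⟩ := exists_shPair g W₁.hom κ hκ' e φ' hker' hr' aR' haR'
  have hbij : Function.Bijective (P.map ((Over.pullback f).map m).op) :=
    (hW.of_etale vO) Γ(S, O) B' g ‹_› j₁ hj₁ κ hκ' p p' ψ hψl hψ m hml
  let x₁ : Q.obj (op W₁) := Q.map u₁.op x
  obtain ⟨y, hy'⟩ := hbij.2 (Q.map (shIn W₁.hom p').op x₁)
  obtain ⟨I, _, _, DS, cS, hpt, ⟨hlim⟩, hDS⟩ := exists_sh_system p
  obtain ⟨cpt, cπ⟩ := cS
  subst hpt
  obtain ⟨W₄, h₄, hh₄, haff₄, π, t, hπ, ht⟩ := exists_germ_strict f g _ DS cπ hlim hDS hP y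
  haveI := hh₄; haveI := haff₄
  let cκ : W₁ ⟶ Over.mk g := Over.homMk (Spec.map κ) hκ'
  let W₂ : Over S := pb cκ h₄
  haveI : Etale (pbFst cκ h₄).left := MorphismProperty.pullback_fst (P := @Etale) _ _ hh₄
  let b₂ : G₀ ⟶ W₂ := pbLift b (aR' ≫ m ≫ π) (by
    rw [Category.assoc, Category.assoc, hπ, hm, ← Category.assoc aR', haR'in])
  obtain ⟨B'', j₂, hj₂, b₃, hb₃⟩ := exists_affine_nhd b₂ hG
  haveI := hj₂
  let W₃ : Over S := Over.mk (j₂ ≫ W₂.hom)
  let v₂ : W₃ ⟶ W₁ := (Over.homMk j₂ rfl : W₃ ⟶ W₂) ≫ pbFst cκ h₄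
  let w₂ : W₃ ⟶ W₄ := (Over.homMk j₂ rfl : W₃ ⟶ W₂) ≫ pbSnd cκ h₄
  haveI hv₂ : Etale v₂.left := MorphismProperty.comp_mem (W := @Etale) _ _ hj₂ ‹Etale (pbFst cκ h₄).left›
  have hbv : b₃ ≫ v₂ = b := by rw [← Category.assoc, hb₃, pbLift_fst]
  have hbw : b₃ ≫ w₂ = aR' ≫ m ≫ π := by rw [← Category.assoc, hb₃, pbLift_snd]
  have hvw : v₂ ≫ cκ = w₂ ≫ h₄ := by rw [Category.assoc, pb_condition, Category.assoc]
  obtain ⟨κ₂, hκ₂⟩ := Spec.map_surjective v₂.left
  have hκ₂' : Spec.map κ₂ ≫ W₁.hom = W₃.hom := by rw [hκ₂]; exact Over.w v₂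
  have hv₂' : (Over.homMk (Spec.map κ₂) hκ₂' : W₃ ⟶ W₁) = v₂ := Over.OverMorphism.ext hκ₂
  obtain ⟨p'', _, aR'', m₁, hcl, haR''in, hm₁, haR''m⟩ :=
    exists_shLift W₁.hom W₃.hom κ₂ hκ₂' e φ' hker' aR' haR' b₃ (by rw [hv₂', hbv, haR'in])
  rw [hv₂'] at hm₁
  have hu : shIn W₃.hom p'' ≫ w₂ = m₁ ≫ m ≫ π := by
    refine hom_ext_strict h₄ (Iso.refl _) aR'' y₀ (hcl y₀) _ _ ?_ ?_
    · rw [Category.assoc, ← hvw, ← Category.assoc, ← hm₁, Category.assoc, ← hm, Category.assoc, Category.assoc,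
        hπ]
    · rw [← Category.assoc, haR''in, hbw, ← Category.assoc aR'', haR''m]
  have hQeq : Q.map (shIn W₃.hom p'').op (Q.map v₂.op x₁) = Q.map (shIn W₃.hom p'').op (Q.map w₂.op t) :=
    map_sq_eq Q hm₁ hu x₁ t ((congrArg (Q.map m.op) ht).trans hy')
  obtain ⟨I₂, _, _, DS₂, cS₂, hpt₂, ⟨hlim₂⟩, hDS₂⟩ := exists_sh_system p''
  obtain ⟨cpt₂, cπ₂⟩ := cS₂
  subst hpt₂
  obtain ⟨W₅, h₅, hh₅, -, π₅, hπ₅, he₅⟩ := exists_eq_strict f W₃.hom _ DS₂ cπ₂ hlim₂ hDS₂ hP _ _ hQeq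
  haveI := hh₅
  haveI : Etale W₄.hom := by
    rw [← Over.w h₄]
    exact MorphismProperty.comp_mem (W := @Etale) _ _ hh₄ ‹Etale g›
  let U₄ : S.Etale := Scheme.Etale.mk W₄.hom
  obtain ⟨t', ht'⟩ := (unit_app_bijective G ((EtCoh.bc f).obj U₄)).2 t
  let w₅ : W₅ ⟶ (EtFppf.a S).obj U₄ := h₅ ≫ w₂
  refine ⟨W₅, h₅ ≫ v₂ ≫ u₁, ?_,
    PS.map w₅.op (((pAdj A S).unit.app ((pushS A f).obj G)).hom.app (op U₄) t'), ?_, ?_⟩
  · exact MorphismProperty.comp_mem (W := @Etale) _ _ hh₅ (MorphismProperty.comp_mem (W := @Etale) _ _ hv₂ hu₁)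
  · refine ⟨(aR'' ≫ π₅).left y₀, ?_⟩
    show ((aR'' ≫ π₅) ≫ h₅ ≫ v₂ ≫ u₁).left y₀ = z
    rw [Category.assoc, ← Category.assoc π₅, hπ₅, ← Category.assoc aR'', haR''in, ← Category.assoc b₃, hbv,
      show b ≫ u₁ = a from by rw [← Category.assoc, hb, haO]]
    exact ha y₀
  · refine (NatTrans.naturality_apply (phi f G).hom w₅.op _).trans ?_
    refine (congrArg (Q.map w₅.op) ((phi_app_apply f G U₄ t').trans ht')).trans ?_
    exact map_sq_eq' Q h₅ v₂ u₁ w₂ x t he₅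

/-- Bijectivity of the comparison. -/
theorem phi_bijective_of_strict (W : Over S)
    (hW : StrictBijOn f (((pPull A T).obj G).obj ⋙ forget A) W) :
    Function.Bijective ((phi f G).hom.app (op W)) := by
  refine ⟨phi_injective_of_strict hA f G W hW, fun x => ?_⟩
  let P := ((pPull A T).obj G).obj ⋙ forget A
  let PS := ((pPull A S).obj ((pushS A f).obj G)).obj
  let Q := (Over.pullback f).op ⋙ P
  have hQ : Presieve.IsSheaf (QuotSh.J Scheme.etalePrecoverage S) Q :=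
    (Over.pullback f).op_comp_isSheaf_of_isSheaf_type (J := QuotSh.J Scheme.etalePrecoverage S)
      (K := QuotSh.J Scheme.etalePrecoverage T) (hA T G).sheaf
  choose U u hu σ hz hσ using fun z => exists_local_preimage hA f G W hW z x
  haveI := hu
  obtain ⟨s, hs⟩ := (hA S ((pushS A f).obj G)).exists_glue U u hu (fun z => ⟨z, hz z⟩) σ
    fun z z' G₀ a b hG hab => by
    let V := pb (u z) (u z')
    haveI : Etale (pbFst (u z) (u z')).left := MorphismProperty.pullback_fst (P := @Etale) _ _ (hu z')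
    let d : G₀ ⟶ V := pbLift a b hab
    haveI : Etale (pbFst (u z) (u z') ≫ u z).left :=
      MorphismProperty.comp_mem (W := @Etale) _ _ ‹Etale (pbFst (u z) (u z')).left› (hu z)
    have h0 : PS.map (pbFst (u z) (u z')).op (σ z) = PS.map (pbSnd (u z) (u z')).op (σ z') := by
      refine phi_injective_of_strict hA f G V (hW.of_etale (pbFst (u z) (u z') ≫ u z)) ?_
      rw [NatTrans.naturality_apply, NatTrans.naturality_apply, hσ, hσ]
      refine (map_comp_apply' (P := Q) _ _ x).symm.trans (Eq.trans ?_ (map_comp_apply' (P := Q) _ _ x))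
      rw [pb_condition]
    have h1 := congrArg ((PS ⋙ forget A).map d.op) h0
    refine Eq.trans ?_ (h1.trans ?_)
    · exact (congrArg (fun r => (PS ⋙ forget A).map r.op (σ z)) (pbLift_fst a b hab).symm).trans
        (map_comp_apply' _ _ _)
    · exact (map_comp_apply' _ _ _).symm.trans
        (congrArg (fun r => (PS ⋙ forget A).map r.op (σ z')) (pbLift_snd a b hab))
  refine ⟨s, ((Presieve.isSheafFor_iff_generate _).2 (hQ _ (ofArrows_mem U u hu fun z => ⟨z, hz z⟩))).isSeparatedFor.ext ?_⟩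
  rintro _ _ ⟨z⟩
  refine (NatTrans.naturality_apply (phi f G).hom (u z).op s).symm.trans ?_
  exact (congrArg _ (hs z)).trans (hσ z)

end

end EtProperH0Lib
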