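import Groth.Agent.EtProperH0Lib.Henselian
import Groth.Agent.EtProperH0Lib.StrictBC
import Groth.Agent.S0526

/-!
# Sections over strictly henselian local rings and their closed geometric fibres
-/

set_option autoImplicit false
set_option linter.style.haveILetI false
set_option backward.isDefEq.respectTransparency false
set_option backward.isDefEq.respectTransparency.types false
universe u

open CategoryTheory CategoryTheory.Limits AlgebraicGeometry Opposite EtDescentLib AlgSpRegLib

namespace EtProperH0Lib

variable {T : Scheme.{u}} {P : (Over T)ᵒᵖ ⥤ Type (u + 1)}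

/-- Clopen subsets of finite covers of an integral scheme over a henselian local ring. -/
theorem bijOn_closedFibre_of_integral {R : Type u} [CommRing R] [HenselianLocalRing R] {X : Scheme.{u}}
    (q : X ⟶ Spec (CommRingCat.of R)) [IsIntegralHom q] (X' : Scheme.{u}) (π : X' ⟶ X) [IsFinite π] :
    EtH0Lib.BijOn (X := X'.carrier)
      (π ⁻¹' Set.range (pullback.fst q (Spec.map (CommRingCat.ofHom (IsLocalRing.residue R))))) := by
  haveI : IsAffine X := isAffine_of_isAffineHom q
  let A := Γ(X, ⊤)
  obtain ⟨φ, hφ⟩ := Spec.map_surjective (X.isoSpec.inv ≫ q)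
  have hq : X.toSpecΓ ≫ Spec.map φ = q := by
    rw [hφ, ← Category.assoc, show X.toSpecΓ ≫ X.isoSpec.inv = 𝟙 X from X.toSpecΓ_isoSpec_inv, Category.id_comp]
  have hint : φ.hom.IsIntegral := by
    rw [← IsIntegralHom.SpecMap_iff, hφ]
    infer_instance
  letI : Algebra R A := φ.hom.toAlgebra
  haveI : Algebra.IsIntegral R A := ⟨hint⟩
  let m := IsLocalRing.maximalIdeal R
  haveI : HenselianRing A (m.map (algebraMap R A)) := Groth.Agent.S0526.result R m A
  let i := pullback.fst q (Spec.map (CommRingCat.ofHom (IsLocalRing.residue R)))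
  refine EtH0Lib.bijOn_preimage_of_proper (m.map (algebraMap R A)) X.toSpecΓ i ?_ X' π
  rw [Scheme.Pullback.range_fst]
  show q ⁻¹' Set.range (PrimeSpectrum.comap (IsLocalRing.residue R)) =
    X.toSpecΓ ⁻¹' Set.range (PrimeSpectrum.comap (Ideal.Quotient.mk (m.map (algebraMap R A))))
  rw [range_comap_of_surjective _ _ IsLocalRing.residue_surjective,
    range_comap_of_surjective _ _ Ideal.Quotient.mk_surjective, Ideal.mk_ker,
    IsLocalRing.ker_residue, ← hq]
  show X.toSpecΓ ⁻¹' (PrimeSpectrum.comap φ.hom ⁻¹' PrimeSpectrum.zeroLocus _) = _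
  rw [PrimeSpectrum.preimage_comap_zeroLocus, Ideal.map, PrimeSpectrum.zeroLocus_span]
  rfl

/-- Sections on an integral scheme over a henselian local ring are the sections on the closed fibre. -/
theorem bijective_closedFibre_integral (hP : HasGerms P) {R : Type u} [CommRing R] [HenselianLocalRing R]
    {X : Scheme.{u}} (p : X ⟶ T) (q : X ⟶ Spec (CommRingCat.of R)) [IsIntegralHom q] :
    Function.Bijective (P.map (Over.homMk (pullback.fst q (Spec.map (CommRingCat.ofHom (IsLocalRing.residue R)))) :
      Over.mk (pullback.fst q (Spec.map (CommRingCat.ofHom (IsLocalRing.residue R))) ≫ p) ⟶ Over.mk p).op) := by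
  let j := Spec.map (CommRingCat.ofHom (IsLocalRing.residue R))
  haveI : IsClosedImmersion j := IsClosedImmersion.spec_of_surjective _ IsLocalRing.residue_surjective
  let i := pullback.fst q j
  haveI : IsAffine X := isAffine_of_isAffineHom q
  have h := EtH0Lib.bijective_map_of_bijOn (hasGerms_restrict hP p) i (bijOn_closedFibre_of_integral q)
  exact bijective_map_of_restrict p i h

/-- Bijectivity of restriction maps is inherited along isomorphic arrows. -/
theorem bijective_map_of_iso {A A' B : Over T} (e : A ≅ A') {a : A ⟶ B} (a' : A' ⟶ B) (h : e.hom ≫ a' = a)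
    (ha : Function.Bijective (P.map a'.op)) : Function.Bijective (P.map a.op) := by
  have hc := ((ConcreteCategory.isIso_iff_bijective (P.map e.hom.op)).1 inferInstance).comp ha
  refine (show P.map a.op = P.map a'.op ≫ P.map e.hom.op from by rw [← P.map_comp, ← op_comp, h]) ▸ ?_
  rw [types_comp]
  exact hc

/-- Sections are those on the geometric closed fibre, if they are those on the closed fibre. -/
theorem bijective_geoFibre (hP : HasGerms P) {R : Type u} [CommRing R] [IsLocalRing R]
    [IsSepClosed (IsLocalRing.ResidueField R)] {X : Scheme.{u}} (p : X ⟶ T) (q : X ⟶ Spec (CommRingCat.of R))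
    (hcl : Function.Bijective (P.map (Over.homMk
      (pullback.fst q (Spec.map (CommRingCat.ofHom (IsLocalRing.residue R)))) :
      Over.mk (pullback.fst q (Spec.map (CommRingCat.ofHom (IsLocalRing.residue R))) ≫ p) ⟶ Over.mk p).op))
    {K : Type u} [Field K] [IsAlgClosed K] (χ : R →+* K) (hker : RingHom.ker χ = IsLocalRing.maximalIdeal R) :
    Function.Bijective (P.map (Over.homMk (pullback.fst q (Spec.map (CommRingCat.ofHom χ))) :
      Over.mk (pullback.fst q (Spec.map (CommRingCat.ofHom χ)) ≫ p) ⟶ Over.mk p).op) := by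
  haveI : IsLocalHom χ := ⟨fun x hx => IsLocalRing.notMem_maximalIdeal.1 fun hm => hx.ne_zero (hker.ge hm)⟩
  let σ : IsLocalRing.ResidueField R →+* K := IsLocalRing.ResidueField.lift χ
  letI : Algebra (IsLocalRing.ResidueField R) K := σ.toAlgebra
  let j := Spec.map (CommRingCat.ofHom (IsLocalRing.residue R))
  let k := Spec.map (CommRingCat.ofHom (algebraMap (IsLocalRing.ResidueField R) K))
  have hk : k ≫ j = Spec.map (CommRingCat.ofHom χ) := by
    rw [← Spec.map_comp, ← CommRingCat.ofHom_comp]
    rfl
  have h2 := bijective_sepClosed_ext (K := K) hP (pullback.fst q j ≫ p) (pullback.snd q j)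
  let ι := (pullback.congrHom (f₁ := q) rfl hk).symm ≪≫ (pullbackLeftPullbackSndIso q j k).symm
  have hι : ι.hom ≫ pullback.fst (pullback.snd q j) k ≫ pullback.fst q j =
      pullback.fst q (Spec.map (CommRingCat.ofHom χ)) := by
    simp [ι]
  let e : Over.mk (pullback.fst q (Spec.map (CommRingCat.ofHom χ)) ≫ p) ≅
      Over.mk (pullback.fst (pullback.snd q j) k ≫ pullback.fst q j ≫ p) :=
    Over.isoMk ι (by simp [reassoc_of% hι])
  let a₁ : Over.mk (pullback.fst (pullback.snd q j) k ≫ pullback.fst q j ≫ p) ⟶ Over.mk (pullback.fst q j ≫ p) :=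
    Over.homMk (pullback.fst (pullback.snd q j) k)
  let a₂ : Over.mk (pullback.fst q j ≫ p) ⟶ Over.mk p := Over.homMk (pullback.fst q j)
  refine bijective_map_of_iso e (a₁ ≫ a₂) (Over.OverMorphism.ext hι) ?_
  rw [op_comp, P.map_comp, types_comp]
  exact Function.Bijective.comp h2 hcl

/-- The condition that sections on base changes to strictly henselian local rings are those on the closed fibres. -/
def ClosedFibreBij {S : Scheme.{u}} (f : T ⟶ S) (P : (Over T)ᵒᵖ ⥤ Type (u + 1)) : Prop :=
  ∀ (R : Type u) [CommRing R] [HenselianLocalRing R] [IsSepClosed (IsLocalRing.ResidueField R)]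
    (h : Spec (CommRingCat.of R) ⟶ S), Function.Bijective (P.map (Over.homMk
      (pullback.fst (pullback.fst h f) (Spec.map (CommRingCat.ofHom (IsLocalRing.residue R)))) :
      Over.mk (pullback.fst (pullback.fst h f) (Spec.map (CommRingCat.ofHom (IsLocalRing.residue R))) ≫
        pullback.snd h f) ⟶ Over.mk (pullback.snd h f)).op)

theorem bijective_geoFibre' {S : Scheme.{u}} {f : T ⟶ S} (hP : HasGerms P) (hf : ClosedFibreBij f P) {R : Type u}
    [CommRing R] [HenselianLocalRing R] [IsSepClosed (IsLocalRing.ResidueField R)]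
    (h : Spec (CommRingCat.of R) ⟶ S) {K : Type u} [Field K] [IsAlgClosed K] (χ : R →+* K)
    (hker : RingHom.ker χ = IsLocalRing.maximalIdeal R) :
    Function.Bijective (P.map ((Over.pullback f).map
      (Over.homMk (Spec.map (CommRingCat.ofHom χ)) rfl :
        Over.mk (Spec.map (CommRingCat.ofHom χ) ≫ h) ⟶ Over.mk h)).op) := by
  let c := Spec.map (CommRingCat.ofHom χ)
  have hb := bijective_geoFibre hP (pullback.snd h f) (pullback.fst h f) (hf R h) χ hker
  let ι : pullback (c ≫ h) f ≅ pullback (pullback.fst h f) c :=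
    (pullbackRightPullbackFstIso h f c).symm ≪≫ pullbackSymmetry _ _
  have h₁ : ι.hom ≫ pullback.fst (pullback.fst h f) c =
      pullback.lift (pullback.fst (c ≫ h) f ≫ c) (pullback.snd _ _) (by simp [pullback.condition]) := by
    apply pullback.hom_ext <;> simp [ι, pullback.condition]
  let e : (Over.pullback f).obj (Over.mk (c ≫ h)) ≅
      Over.mk (pullback.fst (pullback.fst h f) c ≫ pullback.snd h f) :=
    Over.isoMk ι (by
      show ι.hom ≫ pullback.fst (pullback.fst h f) c ≫ pullback.snd h f = pullback.snd (c ≫ h) f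
      rw [reassoc_of% h₁, pullback.lift_snd])
  exact bijective_map_of_iso e
    (Over.homMk (pullback.fst (pullback.fst h f) c) :
      Over.mk (pullback.fst (pullback.fst h f) c ≫ pullback.snd h f) ⟶ Over.mk (pullback.snd h f))
    (Over.OverMorphism.ext h₁) hb

/-- Comparison of strict localisations from closed fibres. -/
theorem strictBij_of_closedFibre {S : Scheme.{u}} {f : T ⟶ S} (hP : HasGerms P) (hf : ClosedFibreBij f P)
    {A A' : CommRingCat.{u}} (g : Spec A ⟶ S) (g' : Spec A' ⟶ S) (κ : A ⟶ A') : StrictBij f P g g' κ := by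
  intro p _ p' _ ψ hψ _ m hm
  have hR : HenselianLocalRing (ShAt p) :=
    Hensel.IsStrictHenselization.henselian (R := Localization.AtPrime p)
  have hR' : HenselianLocalRing (ShAt p') :=
    Hensel.IsStrictHenselization.henselian (R := Localization.AtPrime p')
  haveI : IsSepClosed (IsLocalRing.ResidueField (ShAt p)) :=
    (Hensel.IsStrictHenselization.isSepClosure (R := Localization.AtPrime p) (S := ShAt p)).sep_closed
  haveI : IsSepClosed (IsLocalRing.ResidueField (ShAt p')) :=
    (Hensel.IsStrictHenselization.isSepClosure (R := Localization.AtPrime p') (S := ShAt p')).sep_closed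
  let K := AlgebraicClosure (IsLocalRing.ResidueField (ShAt p'))
  let χ' : ShAt p' →+* K := (algebraMap _ K).comp (IsLocalRing.residue _)
  have hker' : RingHom.ker χ' = IsLocalRing.maximalIdeal (ShAt p') := by
    rw [← RingHom.comap_ker,
      (RingHom.injective_iff_ker_eq_bot _).1 (algebraMap (IsLocalRing.ResidueField (ShAt p')) K).injective,
      ← RingHom.ker_eq_comap_bot, IsLocalRing.ker_residue]
  have hker : RingHom.ker (χ'.comp ψ) = IsLocalRing.maximalIdeal (ShAt p) := by
    rw [← RingHom.comap_ker, hker']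
    exact IsLocalRing.maximalIdeal_comap ψ
  have h' := bijective_geoFibre' hP hf (shObj g' p').hom χ' hker'
  have h := bijective_geoFibre' hP hf (shObj g p).hom (χ'.comp ψ) hker
  let e : Over.mk (Spec.map (CommRingCat.ofHom χ') ≫ (shObj g' p').hom) ≅
      Over.mk (Spec.map (CommRingCat.ofHom (χ'.comp ψ)) ≫ (shObj g p).hom) :=
    Over.isoMk (Iso.refl _) (by
      show 𝟙 _ ≫ Spec.map (CommRingCat.ofHom (χ'.comp ψ)) ≫ (shObj g p).hom = _
      rw [Category.id_comp, CommRingCat.ofHom_comp, Spec.map_comp, Category.assoc, ← hm]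
      exact congrArg (_ ≫ ·) (Over.w m))
  let n' : Over.mk (Spec.map (CommRingCat.ofHom χ') ≫ (shObj g' p').hom) ⟶ shObj g' p' :=
    Over.homMk (Spec.map (CommRingCat.ofHom χ')) rfl
  let n : Over.mk (Spec.map (CommRingCat.ofHom (χ'.comp ψ)) ≫ (shObj g p).hom) ⟶ shObj g p :=
    Over.homMk (Spec.map (CommRingCat.ofHom (χ'.comp ψ))) rfl
  have hnm : e.hom ≫ n = n' ≫ m := Over.OverMorphism.ext (by
    show 𝟙 _ ≫ Spec.map (CommRingCat.ofHom (χ'.comp ψ)) = Spec.map (CommRingCat.ofHom χ') ≫ m.left
    rw [Category.id_comp, CommRingCat.ofHom_comp, Spec.map_comp, hm])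
  have hc : Function.Bijective (P.map ((Over.pullback f).map (e.hom ≫ n)).op) :=
    bijective_map_of_iso ((Over.pullback f).mapIso e) _ ((Over.pullback f).map_comp e.hom n).symm h
  rw [hnm, Functor.map_comp, op_comp, P.map_comp, types_comp] at hc
  exact (Function.Bijective.of_comp_iff' h' _).1 hc

theorem closedFibreBij_of_integral {S : Scheme.{u}} {f : T ⟶ S} [IsIntegralHom f] (hP : HasGerms P) :
    ClosedFibreBij f P := fun R _ _ _ h => bijective_closedFibre_integral hP (pullback.snd h f) (pullback.fst h f)

theorem closedFibreBij_of_proper {S : Scheme.{u}} {f : T ⟶ S} [IsProper f] (hP : HasGerms P) :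
    ClosedFibreBij f P := fun R _ _ _ h => bijective_closedFibre hP (pullback.snd h f) (pullback.fst h f)

end EtProperH0Lib
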