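import Groth.Agent.EtProperH0Lib.StrictBC
import Groth.Agent.EtProperH0Lib.Main

/-!
# The base change morphism in degree zero, tested on strict localisations
-/

set_option autoImplicit false
set_option linter.style.haveILetI false
set_option linter.unusedSectionVars false
set_option backward.isDefEq.respectTransparency false
set_option backward.isDefEq.respectTransparency.types false
universe u

open CategoryTheory CategoryTheory.Limits AlgebraicGeometry Opposite EtDescentLib Groth.Agent.EtShLib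

namespace EtProperH0Lib

noncomputable section

variable {A : Type (u + 2)} [Category.{u + 1} A]
  [∀ X : Scheme.{u}, ((EtFppf.a X).sheafPushforwardContinuous A X.smallEtaleTopology
    (QuotSh.J Scheme.etalePrecoverage X)).IsRightAdjoint]
  [∀ {X Y : Scheme.{u}} (f : X ⟶ Y), ((EtCoh.bc f).sheafPushforwardContinuous A Y.smallEtaleTopology
    X.smallEtaleTopology).IsRightAdjoint]
  [∀ (X : Scheme.{u}) (P : X.Etaleᵒᵖ ⥤ A), (EtFppf.a X).op.HasPointwiseRightKanExtension P]
  {FA : A → A → Type*} {CA : A → Type (u + 1)} [∀ M N, FunLike (FA M N) (CA M) (CA N)]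
  [ConcreteCategory.{u + 1} A FA] [(forget A).ReflectsIsomorphisms]
  (hA : ∀ (X : Scheme.{u}) (G : Sheaf X.smallEtaleTopology A), HasGerms (((pPull A X).obj G).obj ⋙ forget A))
  {X Y X' Y' : Scheme.{u}} {f : X ⟶ Y} {f' : X' ⟶ Y'} {g' : X' ⟶ X} {g : Y' ⟶ Y}
  (hc : IsPullback g' f' f g) (F : Sheaf X.smallEtaleTopology A)

include hA in
/-- The base change morphism is an isomorphism if strict localisations see the same sections. -/
theorem isIso_bcMor_of_strict [QuasiCompact f] [QuasiSeparated f]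
    (hb : ∀ (B B' : CommRingCat.{u}) (gB : Spec B ⟶ Y) (_ : Etale gB) (gB' : Spec B' ⟶ Y') (_ : Etale gB')
      (κ : B ⟶ B'), Spec.map κ ≫ gB = gB' ≫ g →
      StrictBij f (((pPull A X).obj F).obj ⋙ forget A) gB (gB' ≫ g) κ) :
    IsIso (bcMor hc F) := by
  let Φ := (BigSite.pullBig Scheme.etalePrecoverage g A ⋙ pRes A Y').map (phi f F)
  haveI : ∀ V, IsIso (Φ.hom.app V) := fun V => by
    have hV : StrictBijOn f (((pPull A X).obj F).obj ⋙ forget A) ((Over.map g).obj ((EtFppf.a Y').obj V.unop)) := by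
      intro B B' gB hgB j hj κ e
      haveI : Etale V.unop.hom := V.unop.prop
      haveI := hj
      have e' : j ≫ ((Over.map g).obj ((EtFppf.a Y').obj V.unop)).hom = (j ≫ V.unop.hom) ≫ g :=
        (Category.assoc j V.unop.hom g).symm
      rw [e'] at e ⊢
      exact hb B B' gB hgB _ (MorphismProperty.comp_mem (W := @Etale) _ _ hj V.unop.prop) κ e
    haveI : IsIso ((forget A).map ((phi f F).hom.app (op ((Over.map g).obj ((EtFppf.a Y').obj V.unop))))) :=
      (isIso_iff_bijective _).2 (phi_bijective_of_strict hA f F _ hV)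
    exact isIso_of_reflects_iso ((phi f F).hom.app (op ((Over.map g).obj ((EtFppf.a Y').obj V.unop)))) (forget A)
  haveI : IsIso Φ.hom := NatIso.isIso_of_isIso_app _
  haveI : IsIso ((sheafToPresheaf _ _).map Φ) := ‹IsIso Φ.hom›
  haveI : IsIso Φ := isIso_of_reflects_iso _ (sheafToPresheaf _ _)
  haveI : IsIso ((BigSite.pullBig Scheme.etalePrecoverage g A ⋙ pRes A Y').map (phi f F)) := ‹IsIso Φ›
  haveI : IsIso (bcMor hc F ≫ (pushS A f').map (gamma g' F)) := by
    rw [bcMor_gamma]
    infer_instance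
  exact IsIso.of_isIso_comp_right (bcMor hc F) ((pushS A f').map (gamma g' F))

end

section

variable {X Y X' Y' : Scheme.{u}} {f : X ⟶ Y} {f' : X' ⟶ Y'} {g' : X' ⟶ X} {g : Y' ⟶ Y}
  (hc : IsPullback g' f' f g)

include hc

theorem isIso_baseChange0_of_strict [QuasiCompact f] [QuasiSeparated f] (F : EtCoh.Ab X)
    (hb : ∀ (B B' : CommRingCat.{u}) (gB : Spec B ⟶ Y) (_ : Etale gB) (gB' : Spec B' ⟶ Y') (_ : Etale gB')
      (κ : B ⟶ B'), Spec.map κ ≫ gB = gB' ≫ g → ∀ P : (Over X)ᵒᵖ ⥤ Type (u + 1), HasGerms P →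
      StrictBij f P gB (gB' ≫ g) κ) :
    IsIso (EtCoh.baseChange0 f g f' g' hc.w F) := by
  have e : bcMor (A := AddCommGrpCat.{u + 1}) hc F = EtCoh.baseChange0 f g f' g' hc.w F := bcHom_eq f g f' g' hc F
  rw [← e]
  exact isIso_bcMor_of_strict hasGerms_ab hc F fun B B' gB h gB' h' κ e => hb B B' gB h gB' h' κ e _ (hasGerms_ab X F)

theorem isIso_baseChange0Sh_of_strict [QuasiCompact f] [QuasiSeparated f] (F : EtDesc.Sh X)
    (hb : ∀ (B B' : CommRingCat.{u}) (gB : Spec B ⟶ Y) (_ : Etale gB) (gB' : Spec B' ⟶ Y') (_ : Etale gB')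
      (κ : B ⟶ B'), Spec.map κ ≫ gB = gB' ≫ g → ∀ P : (Over X)ᵒᵖ ⥤ Type (u + 1), HasGerms P →
      StrictBij f P gB (gB' ≫ g) κ) :
    IsIso (EtBC.baseChange0Sh f g f' g' hc.w F) := by
  rw [← bcMor_eq_sh hc F]
  exact isIso_bcMor_of_strict hasGerms_type hc F fun B B' gB h gB' h' κ e =>
    hb B B' gB h gB' h' κ e _ (hasGerms_type X F)

end

end EtProperH0Lib
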