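import Groth.Agent.EtProperH0Lib.StrictStalk
import Groth.Agent.EtProperH0Lib.Fibre
import Groth.Agent.EtProperH0Lib.StrictMain
import Mathlib.FieldTheory.IsAlgClosed.AlgebraicClosure

/-!
# Strict localisations with connected geometric fibres
-/

set_option autoImplicit false
set_option linter.style.haveILetI false
set_option backward.isDefEq.respectTransparency false
set_option backward.isDefEq.respectTransparency.types false
universe u

open CategoryTheory CategoryTheory.Limits AlgebraicGeometry Opposite EtDescentLib AlgSpRegLib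

namespace EtProperH0Lib

variable {T S : Scheme.{u}} {f : T ⟶ S} {P : (Over T)ᵒᵖ ⥤ Type (u + 1)}

/-- Submersive base change with connected geometric fibres does not change sections. -/
theorem bijective_of_conn (hP : HasGerms P) {R R' : CommRingCat.{u}} (c : Spec R' ⟶ Spec R)
    (hsub : ∀ (S' : Scheme.{u}) (g : S' ⟶ Spec R), Topology.IsQuotientMap (pullback.snd c g).base)
    (hconn : ∀ (Ω : Type u) [Field Ω] [IsAlgClosed Ω] (η : Spec (CommRingCat.of Ω) ⟶ Spec R),
      ConnectedSpace ↥(pullback c η))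
    (h : Spec R ⟶ S) :
    Function.Bijective (P.map ((Over.pullback f).map (Over.homMk c rfl : Over.mk (c ≫ h) ⟶ Over.mk h)).op) := by
  let q := pullback.fst h f
  let i := pullback.fst q c
  have hb := bijective_map_of_restrict (pullback.snd h f) i
    ((hasGerms_restrict hP (pullback.snd h f)).bijective_of_connected i
      (fun S' g => by
        let κ : pullback i g ≅ pullback c (g ≫ q) :=
          pullbackSymmetry _ _ ≪≫ pullbackRightPullbackFstIso q c g ≪≫ pullbackSymmetry _ _
        have hκ : κ.hom ≫ pullback.snd c (g ≫ q) = pullback.snd i g := by simp [κ, i]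
        rw [← hκ]
        exact (hsub S' (g ≫ q)).comp κ.hom.homeomorph.isQuotientMap)
      fun Ω _ _ s => by
        let κ : pullback i s ≅ pullback c (s ≫ q) :=
          pullbackSymmetry _ _ ≪≫ pullbackRightPullbackFstIso q c s ≪≫ pullbackSymmetry _ _
        haveI := hconn Ω (s ≫ q)
        exact κ.hom.homeomorph.connectedSpace_iff.mpr inferInstance)
  let ι : pullback (c ≫ h) f ≅ pullback (pullback.fst h f) c :=
    (pullbackRightPullbackFstIso h f c).symm ≪≫ pullbackSymmetry _ _
  have h₁ : ι.hom ≫ pullback.fst (pullback.fst h f) c =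
      pullback.lift (pullback.fst (c ≫ h) f ≫ c) (pullback.snd _ _) (by simp [pullback.condition]) := by
    apply pullback.hom_ext <;> simp [ι, pullback.condition]
  let e : (Over.pullback f).obj (Over.mk (c ≫ h)) ≅
      Over.mk (pullback.fst (pullback.fst h f) c ≫ pullback.snd h f) :=
    Over.isoMk ι (by
      show ι.hom ≫ pullback.fst (pullback.fst h f) c ≫ pullback.snd h f = pullback.snd (c ≫ h) f
      rw [reassoc_of% h₁, pullback.lift_snd])
  exact bijective_map_of_iso e
    (Over.homMk (pullback.fst (pullback.fst h f) c) :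
      Over.mk (pullback.fst (pullback.fst h f) c ≫ pullback.snd h f) ⟶ Over.mk (pullback.snd h f))
    (Over.OverMorphism.ext h₁) hb

theorem surjective_of_conn {Z X : Scheme.{u}} (c : Z ⟶ X)
    (hconn : ∀ (Ω : Type u) [Field Ω] [IsAlgClosed Ω] (η : Spec (CommRingCat.of Ω) ⟶ X),
      ConnectedSpace ↥(pullback c η)) : Surjective c := by
  refine ⟨fun x => ?_⟩
  let Ω := AlgebraicClosure (X.residueField x)
  let η : Spec (CommRingCat.of Ω) ⟶ X :=
    Spec.map (CommRingCat.ofHom (algebraMap (X.residueField x) Ω)) ≫ X.fromSpecResidueField x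
  obtain ⟨w⟩ := (hconn Ω η).toNonempty
  refine ⟨pullback.fst c η w, ?_⟩
  rw [← Scheme.Hom.comp_apply, pullback.condition]
  exact Scheme.fromSpecResidueField_apply x _

/-- Faithfully flat strict localisations with connected geometric fibres see the same sections. -/
theorem strictBij_of_conn (hP : HasGerms P) {A A' : CommRingCat.{u}} (g : Spec A ⟶ S) (g' : Spec A' ⟶ S) (κ : A ⟶ A')
    (H : ∀ (p : Ideal A) [p.IsPrime] (p' : Ideal A') [p'.IsPrime] (ψ : ShAt p →+* ShAt p'), IsLocalHom ψ →
      ψ.comp (shι p) = (shι p').comp κ.hom →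
      (∀ (S' : Scheme.{u}) (a : S' ⟶ Spec (CommRingCat.of (ShAt p))),
        Topology.IsQuotientMap (pullback.snd (Spec.map (CommRingCat.ofHom ψ)) a).base) ∧
      (∀ (Ω : Type u) [Field Ω] [IsAlgClosed Ω] (η : Spec (CommRingCat.of Ω) ⟶ Spec (CommRingCat.of (ShAt p))),
        ConnectedSpace ↥(pullback (Spec.map (CommRingCat.ofHom ψ)) η))) :
    StrictBij f P g g' κ := by
  intro p _ p' _ ψ hψl hψ m hm
  obtain ⟨h1, h2⟩ := H p p' ψ hψl hψ
  have hb := bijective_of_conn (f := f) hP (Spec.map (CommRingCat.ofHom ψ)) h1 h2 (shObj g p).hom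
  let e : shObj g' p' ≅ Over.mk (Spec.map (CommRingCat.ofHom ψ) ≫ (shObj g p).hom) :=
    Over.isoMk (Iso.refl _) (by
      show 𝟙 _ ≫ Spec.map (CommRingCat.ofHom ψ) ≫ (shObj g p).hom = (shObj g' p').hom
      rw [Category.id_comp, ← hm]
      exact Over.w m)
  refine bijective_map_of_iso ((Over.pullback f).mapIso e) _ ?_ hb
  rw [Functor.mapIso_hom, ← Functor.map_comp]
  congr 1
  exact Over.OverMorphism.ext ((Category.id_comp _).trans hm.symm)

theorem quotientMap_of_flat {R R' : Type u} [CommRing R] [CommRing R'] (ψ : R →+* R') (hψ : ψ.Flat)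
    (hs : Surjective (Spec.map (CommRingCat.ofHom ψ))) (S' : Scheme.{u}) (a : S' ⟶ Spec (CommRingCat.of R)) :
    Topology.IsQuotientMap (pullback.snd (Spec.map (CommRingCat.ofHom ψ)) a).base := by
  haveI : Flat (Spec.map (CommRingCat.ofHom ψ)) := by
    rw [HasRingHomProperty.Spec_iff (P := @Flat)]
    exact hψ
  haveI := hs
  exact Flat.isQuotientMap_of_surjective _

/-- The data of local rings attached to compatible strict localisations of étale charts. -/
theorem exists_stalk_data {X S : Scheme.{u}} (f : X ⟶ S) {A A' : CommRingCat.{u}} (g : Spec A ⟶ S) [Etale g]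
    (g' : Spec A' ⟶ X) [Etale g'] (κ : A ⟶ A') (e : Spec.map κ ≫ g = g' ≫ f) (p : Ideal A) [p.IsPrime]
    (p' : Ideal A') [p'.IsPrime] (ψ : ShAt p →+* ShAt p') (hψl : IsLocalHom ψ)
    (hψ : ψ.comp (shι p) = (shι p').comp κ.hom) :
    ∃ (x : X) (_ : Algebra (S.presheaf.stalk (f.base x)) (ShAt p))
      (_ : IsLocalHom (algebraMap (S.presheaf.stalk (f.base x)) (ShAt p)))
      (_ : Algebra.WeaklyEtale (S.presheaf.stalk (f.base x)) (ShAt p))
      (_ : Hensel.IsStrictHenselization (S.presheaf.stalk (f.base x)) (ShAt p))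
      (_ : Algebra (X.presheaf.stalk x) (ShAt p')) (_ : IsLocalHom (algebraMap (X.presheaf.stalk x) (ShAt p')))
      (_ : Algebra.WeaklyEtale (X.presheaf.stalk x) (ShAt p'))
      (_ : Hensel.IsStrictHenselization (X.presheaf.stalk x) (ShAt p')),
      ψ.comp (algebraMap (S.presheaf.stalk (f.base x)) (ShAt p)) =
        (algebraMap (X.presheaf.stalk x) (ShAt p')).comp (f.stalkMap x).hom := by
  let q' : Spec A' := (⟨p', ‹_›⟩ : PrimeSpectrum A')
  have hq : Spec.map κ q' = (⟨p, ‹_›⟩ : PrimeSpectrum A) := by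
    refine PrimeSpectrum.ext ?_
    show p'.comap κ.hom = p
    conv_lhs => rw [← comap_shι p']
    rw [Ideal.comap_comap, ← hψ, ← Ideal.comap_comap, IsLocalRing.maximalIdeal_comap ψ, comap_shι]
  have hs : g (⟨p, ‹_›⟩ : PrimeSpectrum A) = f.base (g' q') := by
    rw [← hq, ← Scheme.Hom.comp_apply, e]
    rfl
  obtain ⟨aS, lS, wS, shS, eS⟩ := exists_shStalk g p (f.base (g' q')) hs
  obtain ⟨aX, lX, wX, shX, eX⟩ := exists_shStalk g' p' (g' q') rfl
  refine ⟨g' q', aS, lS, wS, shS, aX, lX, wX, shX, ?_⟩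
  have h1 : Spec.map (CommRingCat.ofHom (ψ.comp (algebraMap (S.presheaf.stalk (f.base (g' q'))) (ShAt p)))) ≫
      S.fromSpecStalk (f.base (g' q')) =
      Spec.map (f.stalkMap (g' q') ≫ CommRingCat.ofHom (algebraMap (X.presheaf.stalk (g' q')) (ShAt p'))) ≫
        S.fromSpecStalk (f.base (g' q')) := by
    rw [CommRingCat.ofHom_comp, Spec.map_comp, Spec.map_comp, Category.assoc, Category.assoc, eS,
      Scheme.SpecMap_stalkMap_fromSpecStalk, reassoc_of% eX, ← Category.assoc, ← Spec.map_comp,
      ← CommRingCat.ofHom_comp, hψ, CommRingCat.ofHom_comp, Spec.map_comp, Category.assoc]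
    exact congrArg (_ ≫ ·) e
  exact congrArg CommRingCat.Hom.hom (Spec.map_injective ((cancel_mono _).1 h1))

/-- A map of strict henselizations over a flat map of local rings is flat. -/
theorem flat_of_weaklyEtale {O O' R R' : Type u} [CommRing O] [CommRing O'] [CommRing R] [CommRing R'] [Algebra O R]
    [Algebra.WeaklyEtale O R] [Algebra O' R'] [Module.Flat O' R'] (φ : O →+* O') (hφ : φ.Flat) (ψ : R →+* R')
    (h : ψ.comp (algebraMap O R) = (algebraMap O' R').comp φ) : ψ.Flat := by
  letI : Algebra O O' := φ.toAlgebra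
  haveI : Module.Flat O O' := hφ
  letI : Algebra R R' := ψ.toAlgebra
  letI : Algebra O R' := ((algebraMap O' R').comp φ).toAlgebra
  haveI : IsScalarTower O O' R' := IsScalarTower.of_algebraMap_eq fun _ => rfl
  haveI : IsScalarTower O R R' := IsScalarTower.of_algebraMap_eq' h.symm
  haveI : Module.Flat O R' := Module.Flat.trans O O' R'
  exact _root_.Groth.Agent.AbsFlat.flat_of_flat_mul (Algebra.WeaklyEtale.flat_lmul' O R) R'

/-- Sections under base change along a flat morphism with connected fibres of strict localisations. -/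
theorem strictBij_of_shConnected {X S : Scheme.{u}} {t : T ⟶ S} (hP : HasGerms P) (f : X ⟶ S) [Flat f]
    (hconn : ∀ (x : X) (RS : Type u) [CommRing RS] [IsLocalRing RS] [Algebra (S.presheaf.stalk (f.base x)) RS]
      [IsLocalHom (algebraMap (S.presheaf.stalk (f.base x)) RS)]
      [Hensel.IsStrictHenselization (S.presheaf.stalk (f.base x)) RS]
      (RX : Type u) [CommRing RX] [IsLocalRing RX] [Algebra (X.presheaf.stalk x) RX]
      [IsLocalHom (algebraMap (X.presheaf.stalk x) RX)] [Hensel.IsStrictHenselization (X.presheaf.stalk x) RX]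
      (ψ : RS →+* RX) [IsLocalHom ψ],
      ψ.comp (algebraMap (S.presheaf.stalk (f.base x)) RS) = (algebraMap (X.presheaf.stalk x) RX).comp (f.stalkMap x).hom →
      ∀ (Ω : Type u) [Field Ω] [IsAlgClosed Ω] (η : Spec (CommRingCat.of Ω) ⟶ Spec (CommRingCat.of RS)),
        ConnectedSpace ↥(pullback (Spec.map (CommRingCat.ofHom ψ)) η))
    {A A' : CommRingCat.{u}} (g : Spec A ⟶ S) [Etale g] (g' : Spec A' ⟶ X) [Etale g'] (κ : A ⟶ A')
    (e : Spec.map κ ≫ g = g' ≫ f) : StrictBij t P g (g' ≫ f) κ := by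
  refine strictBij_of_conn hP g (g' ≫ f) κ fun p _ p' _ ψ hψl hψ => ?_
  obtain ⟨x, aS, lS, wS, shS, aX, lX, wX, shX, hc⟩ := exists_stalk_data f g g' κ e p p' ψ hψl hψ
  have hc' := fun Ω [Field Ω] [IsAlgClosed Ω] η =>
    hconn x (ShAt p) (ShAt p') (ψ := ψ) hc Ω η
  haveI : Module.Flat (X.presheaf.stalk x) (ShAt p') := Algebra.WeaklyEtale.flat
  exact ⟨fun S' a => quotientMap_of_flat ψ (flat_of_weaklyEtale (f.stalkMap x).hom (Flat.stalkMap f x) ψ hc)
    (surjective_of_conn _ hc') S' a, hc'⟩

end EtProperH0Lib
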