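import Groth.Agent.EtProperH0Lib.UnitIso
import Groth.Agent.EtProperH0Lib.Connected

/-!
# The degree-zero base change morphism is local for the étale topology
-/

set_option autoImplicit false
set_option linter.style.haveILetI false
set_option linter.unusedSectionVars false
set_option backward.isDefEq.respectTransparency false
set_option backward.isDefEq.respectTransparency.types false
universe u

open CategoryTheory CategoryTheory.Limits AlgebraicGeometry Opposite EtDescentLib Groth.Agent.EtShLib

namespace EtProperH0Lib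

noncomputable section

/-- Big étale sheaves of sets. -/
abbrev BigT (S : Scheme.{u}) := Sheaf (QuotSh.J Scheme.etalePrecoverage S) (Type (u + 1))

theorem bijective_app_of_isIso {S : Scheme.{u}} {F G : BigT S} (θ : F ⟶ G) [IsIso θ] (W : (Over S)ᵒᵖ) :
    Function.Bijective (θ.hom.app W) :=
  haveI : IsIso (θ.hom.app W) := inferInstanceAs (IsIso ((sheafToPresheaf _ _ ⋙ (evaluation _ _).obj W).map θ))
  (isIso_iff_bijective _).1 inferInstance

/-- Pullbacks from the small site are fixed by the comparison counit. -/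
instance isIso_counit_pull {S : Scheme.{u}} (H : EtDesc.Sh S) :
    IsIso ((pAdj (Type (u + 1)) S).counit.app ((pPull (Type (u + 1)) S).obj H)) := by
  haveI : IsIso (pAdj (Type (u + 1)) S).unit := BigEtLib.isIso_piEtAdj_unit S
  haveI : IsIso ((pPull (Type (u + 1)) S).map ((pAdj (Type (u + 1)) S).unit.app H) ≫
      (pAdj (Type (u + 1)) S).counit.app ((pPull (Type (u + 1)) S).obj H)) :=
    (congrArg (fun k => IsIso k) ((pAdj (Type (u + 1)) S).left_triangle_components H)).mpr
      (inferInstanceAs (IsIso (𝟙 ((pPull (Type (u + 1)) S).obj H))))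
  exact IsIso.of_isIso_comp_left ((pPull (Type (u + 1)) S).map ((pAdj (Type (u + 1)) S).unit.app H)) _

theorem isIso_counit_of_iso {S : Scheme.{u}} {X Y : BigT S} (e : X ≅ Y)
    [IsIso ((pAdj (Type (u + 1)) S).counit.app Y)] : IsIso ((pAdj (Type (u + 1)) S).counit.app X) := by
  have h := (pAdj (Type (u + 1)) S).counit.naturality e.hom
  haveI : IsIso ((pAdj (Type (u + 1)) S).counit.app X ≫ e.hom) := by
    rw [show (pAdj (Type (u + 1)) S).counit.app X ≫ e.hom = _ from h.symm]
    infer_instance
  exact IsIso.of_isIso_comp_right _ e.hom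

/-- A map which is bijective on the small site is bijective where the target is determined by the small site. -/
theorem bijective_app_iff_counit {S : Scheme.{u}} {X Y : BigT S} (θ : X ⟶ Y)
    [IsIso ((pAdj (Type (u + 1)) S).counit.app X)] [IsIso ((pRes (Type (u + 1)) S).map θ)] (W : (Over S)ᵒᵖ) :
    Function.Bijective (θ.hom.app W) ↔ Function.Bijective (((pAdj (Type (u + 1)) S).counit.app Y).hom.app W) := by
  have h := congrArg (fun k : (pPull (Type (u + 1)) S).obj ((pRes (Type (u + 1)) S).obj X) ⟶ Y =>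
    ⇑(ConcreteCategory.hom (k.hom.app W))) ((pAdj (Type (u + 1)) S).counit.naturality θ)
  haveI : IsIso ((pRes (Type (u + 1)) S ⋙ pPull (Type (u + 1)) S).map θ) :=
    inferInstanceAs (IsIso ((pPull (Type (u + 1)) S).map ((pRes (Type (u + 1)) S).map θ)))
  have hL := bijective_app_of_isIso ((pRes (Type (u + 1)) S ⋙ pPull (Type (u + 1)) S).map θ) W
  have hE := bijective_app_of_isIso ((pAdj (Type (u + 1)) S).counit.app X) W
  have h' : ⇑(((pAdj (Type (u + 1)) S).counit.app Y).hom.app W) ∘
      ⇑(((pRes (Type (u + 1)) S ⋙ pPull (Type (u + 1)) S).map θ).hom.app W) =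
      ⇑(θ.hom.app W) ∘ ⇑(((pAdj (Type (u + 1)) S).counit.app X).hom.app W) := h
  rw [← Function.Bijective.of_comp_iff _ hE, ← h', Function.Bijective.of_comp_iff _ hL]

theorem bijective_counit_congr {S : Scheme.{u}} {X Y : BigT S} (e : X ≅ Y) (W : (Over S)ᵒᵖ) :
    Function.Bijective (((pAdj (Type (u + 1)) S).counit.app X).hom.app W) ↔
      Function.Bijective (((pAdj (Type (u + 1)) S).counit.app Y).hom.app W) := by
  have h : ⇑(((pAdj (Type (u + 1)) S).counit.app Y).hom.app W) ∘
      ⇑(((pRes (Type (u + 1)) S ⋙ pPull (Type (u + 1)) S).map e.hom).hom.app W) =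
      ⇑(e.hom.hom.app W) ∘ ⇑(((pAdj (Type (u + 1)) S).counit.app X).hom.app W) :=
    congrArg (fun k : (pPull (Type (u + 1)) S).obj ((pRes (Type (u + 1)) S).obj X) ⟶ Y =>
      ⇑(ConcreteCategory.hom (k.hom.app W))) ((pAdj (Type (u + 1)) S).counit.naturality e.hom)
  rw [← Function.Bijective.of_comp_iff' (bijective_app_of_isIso e.hom W), ← h,
    Function.Bijective.of_comp_iff _ (bijective_app_of_isIso ((pRes (Type (u + 1)) S ⋙ pPull (Type (u + 1)) S).map e.hom) W)]

/-- Direct images commute with restriction along a base change. -/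
def pushPullIso {X Y X' Y' : Scheme.{u}} {f : X ⟶ Y} {f' : X' ⟶ Y'} {g' : X' ⟶ X} {g : Y' ⟶ Y}
    (hc : IsPullback g' f' f g) :
    BigSite.pushBig Scheme.etalePrecoverage f (Type (u + 1)) ⋙ BigSite.pullBig Scheme.etalePrecoverage g (Type (u + 1)) ≅
      BigSite.pullBig Scheme.etalePrecoverage g' (Type (u + 1)) ⋙
        BigSite.pushBig Scheme.etalePrecoverage f' (Type (u + 1)) :=
  BigBCLib.pushIso (Type (u + 1)) (BigBCLib.mapPullbackIso hc) _ _ (Iso.refl _) (Iso.refl _)

theorem isIso_res_phi {T S : Scheme.{u}} (g : T ⟶ S) (F : EtDesc.Sh T) :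
    IsIso ((pRes (Type (u + 1)) S).map (phi g F)) := by
  haveI : ∀ U : (S.Etale)ᵒᵖ, IsIso (((pRes (Type (u + 1)) S).map (phi g F)).hom.app U) := fun U => by
    obtain ⟨U⟩ := U
    haveI : IsIso (((pAdj (Type (u + 1)) S).unit.app ((pushS (Type (u + 1)) g).obj F)).hom.app (op U)) :=
      (isIso_iff_bijective _).2 (unit_app_bijective _ U)
    haveI : IsIso (((pAdj (Type (u + 1)) S).unit.app ((pushS (Type (u + 1)) g).obj F)).hom.app (op U) ≫
        (phi g F).hom.app (op ((EtFppf.a S).obj U))) := by
      rw [phi_app]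
      exact (isIso_iff_bijective _).2 (unit_app_bijective F ((EtCoh.bc g).obj U))
    exact IsIso.of_isIso_comp_left (((pAdj (Type (u + 1)) S).unit.app ((pushS (Type (u + 1)) g).obj F)).hom.app (op U))
      ((phi g F).hom.app (op ((EtFppf.a S).obj U)))
  haveI : IsIso ((pRes (Type (u + 1)) S).map (phi g F)).hom := NatIso.isIso_of_isIso_app _
  haveI : IsIso ((sheafToPresheaf _ _).map ((pRes (Type (u + 1)) S).map (phi g F))) :=
    ‹IsIso ((pRes (Type (u + 1)) S).map (phi g F)).hom›
  exact isIso_of_reflects_iso _ (sheafToPresheaf _ _)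

theorem isIso_res_pullBig {S V : Scheme.{u}} (v : V ⟶ S) [Etale v] {X Y : BigT S} (θ : X ⟶ Y)
    [IsIso ((pRes (Type (u + 1)) S).map θ)] :
    IsIso ((pRes (Type (u + 1)) V).map ((BigSite.pullBig Scheme.etalePrecoverage v (Type (u + 1))).map θ)) := by
  let θ' := (pRes (Type (u + 1)) V).map ((BigSite.pullBig Scheme.etalePrecoverage v (Type (u + 1))).map θ)
  haveI : ∀ U : (V.Etale)ᵒᵖ, IsIso (θ'.hom.app U) := fun U => by
    haveI : Etale U.unop.hom := U.unop.prop
    let U₀ : S.Etale := Scheme.Etale.mk (U.unop.hom ≫ v)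
    have := (inferInstance : IsIso ((sheafToPresheaf _ _ ⋙ (evaluation _ _).obj (op U₀)).map
      ((pRes (Type (u + 1)) S).map θ)))
    exact this
  haveI : IsIso θ'.hom := NatIso.isIso_of_isIso_app _
  haveI : IsIso ((sheafToPresheaf _ _).map θ') := ‹IsIso θ'.hom›
  exact isIso_of_reflects_iso θ' (sheafToPresheaf _ _)

/-- The comparison of direct images is compatible with étale localisation on the base. -/
theorem phi_bijective_local {T S V T' : Scheme.{u}} (g : T ⟶ S) (v : V ⟶ S) [Etale v] {g' : T' ⟶ V} {t : T' ⟶ T}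
    (hc : IsPullback t g' g v) (F : EtDesc.Sh T) (W : Over V) :
    Function.Bijective ((phi g F).hom.app (op ((Over.map v).obj W))) ↔
      Function.Bijective ((phi g' ((pullS (Type (u + 1)) t).obj F)).hom.app (op W)) := by
  let A := Type (u + 1)
  let θ := (BigSite.pullBig Scheme.etalePrecoverage v A).map (phi g F)
  haveI := isIso_res_phi g F
  haveI := isIso_res_phi g' ((pullS A t).obj F)
  haveI : IsIso ((pRes A V).map θ) := isIso_res_pullBig v (phi g F)
  haveI : IsIso ((pAdj A V).counit.app ((BigSite.pullBig Scheme.etalePrecoverage v A).obj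
      ((pPull A S).obj ((pushS A g).obj F)))) :=
    haveI : IsIso ((pAdj A V).counit.app ((pullS A v ⋙ pPull A V).obj ((pushS A g).obj F))) :=
      isIso_counit_pull ((pullS A v).obj ((pushS A g).obj F))
    isIso_counit_of_iso ((mIso A v).app ((pushS A g).obj F))
  let e : (BigSite.pullBig Scheme.etalePrecoverage v A).obj
      ((BigSite.pushBig Scheme.etalePrecoverage g A).obj ((pPull A T).obj F)) ≅
      (BigSite.pushBig Scheme.etalePrecoverage g' A).obj ((pPull A T').obj ((pullS A t).obj F)) :=
    (pushPullIso hc).app _ ≪≫ (BigSite.pushBig Scheme.etalePrecoverage g' A).mapIso ((mIso A t).app F)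
  exact ((bijective_app_iff_counit θ (op W)).trans (bijective_counit_congr e _)).trans
    (bijective_app_iff_counit (phi g' ((pullS A t).obj F)) (op W)).symm

/-- The base change morphism is an isomorphism iff the comparison of direct images is bijective on étale schemes
over the new base. -/
theorem isIso_bcMor_iff {X Y X' Y' : Scheme.{u}} {f : X ⟶ Y} {f' : X' ⟶ Y'} {g' : X' ⟶ X} {g : Y' ⟶ Y}
    (hc : IsPullback g' f' f g) (F : EtDesc.Sh X) :
    IsIso (bcMor hc F) ↔
      ∀ V : Y'.Etale, Function.Bijective ((phi f F).hom.app (op ((Over.map g).obj ((EtFppf.a Y').obj V)))) := by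
  let A := Type (u + 1)
  let Φ := (BigSite.pullBig Scheme.etalePrecoverage g A ⋙ pRes A Y').map (phi f F)
  constructor
  · intro h V
    haveI := h
    haveI : IsIso (gamma g ((pushS A f).obj F) ≫ Φ ≫ (kappaIso hc).hom.app _) := by
      rw [← bcMor_gamma]
      infer_instance
    haveI : IsIso (Φ ≫ (kappaIso hc).hom.app _) := IsIso.of_isIso_comp_left (gamma g ((pushS A f).obj F)) _
    haveI : IsIso Φ := IsIso.of_isIso_comp_right Φ ((kappaIso hc).hom.app _)
    haveI : IsIso (Φ.hom.app (op V)) :=
      inferInstanceAs (IsIso ((sheafToPresheaf _ _ ⋙ (evaluation _ _).obj (op V)).map Φ))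
    exact (isIso_iff_bijective (Φ.hom.app (op V))).1 inferInstance
  · intro h
    haveI : ∀ V, IsIso (Φ.hom.app V) := fun V => (isIso_iff_bijective _).2 (h V.unop)
    haveI : IsIso Φ.hom := NatIso.isIso_of_isIso_app _
    haveI : IsIso ((sheafToPresheaf _ _).map Φ) := ‹IsIso Φ.hom›
    haveI : IsIso Φ := isIso_of_reflects_iso _ (sheafToPresheaf _ _)
    haveI : IsIso (bcMor hc F ≫ (pushS A f').map (gamma g' F)) := by
      rw [bcMor_gamma]
      haveI : IsIso ((BigSite.pullBig Scheme.etalePrecoverage g A ⋙ pRes A Y').map (phi f F)) := ‹IsIso Φ›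
      infer_instance
    exact IsIso.of_isIso_comp_right (bcMor hc F) ((pushS A f').map (gamma g' F))

/-- Bijectivity of a map of sheaves is local for jointly surjective étale families. -/
theorem bijective_app_of_cover {S : Scheme.{u}} {X Y : BigT S} (θ : X ⟶ Y) {W : Over S} {ι : Type u}
    (Z : ι → Over S) (m : ∀ i, Z i ⟶ W) (het : ∀ i, Etale (m i).left) (hs : ∀ w : W.left, ∃ i z, (m i).left z = w)
    (hb : ∀ i, Function.Bijective (θ.hom.app (op (Z i))))
    (hinj : ∀ i j, Function.Injective
      (θ.hom.app (op (Over.mk (pullback.fst (m i).left (m j).left ≫ (Z i).hom))))) :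
    Function.Bijective (θ.hom.app (op W)) := by
  have hX := (Presieve.isSheafFor_arrows_iff X.obj m).1 ((Presieve.isSheafFor_iff_generate _).2
    ((isSheaf_iff_isSheaf_of_type _ _).1 X.property _ (ofArrows_mem Z m het hs)))
  have hXs := ((Presieve.isSheafFor_iff_generate _).2
    ((isSheaf_iff_isSheaf_of_type _ _).1 X.property _ (ofArrows_mem Z m het hs))).isSeparatedFor
  have hYs := ((Presieve.isSheafFor_iff_generate _).2
    ((isSheaf_iff_isSheaf_of_type _ _).1 Y.property _ (ofArrows_mem Z m het hs))).isSeparatedFor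
  constructor
  · intro x x' hxx
    refine hXs.ext ?_
    rintro _ _ ⟨i⟩
    refine (hb i).1 ?_
    rw [NatTrans.naturality_apply, NatTrans.naturality_apply, hxx]
  · intro y
    choose σ hσ using fun i => (hb i).2 (Y.obj.map (m i).op y)
    obtain ⟨x, hx, -⟩ := hX σ fun i j R gi gj hij => by
      let ρ : Over S := Over.mk (pullback.fst (m i).left (m j).left ≫ (Z i).hom)
      let p₁ : ρ ⟶ Z i := Over.homMk (pullback.fst _ _) rfl
      let p₂ : ρ ⟶ Z j := Over.homMk (pullback.snd _ _) (by
        show pullback.snd _ _ ≫ (Z j).hom = pullback.fst _ _ ≫ (Z i).hom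
        rw [← Over.w (m i), ← Over.w (m j), pullback.condition_assoc])
      let l : R ⟶ ρ := Over.homMk (pullback.lift gi.left gj.left (congrArg CommaMorphism.left hij))
        ((pullback.lift_fst_assoc _ _ _ _).trans (Over.w gi))
      have h1 : l ≫ p₁ = gi := Over.OverMorphism.ext (pullback.lift_fst _ _ _)
      have h2 : l ≫ p₂ = gj := Over.OverMorphism.ext (pullback.lift_snd _ _ _)
      have hp : X.obj.map p₁.op (σ i) = X.obj.map p₂.op (σ j) := hinj i j (by
        rw [NatTrans.naturality_apply, NatTrans.naturality_apply, hσ, hσ, ← FunctorToTypes.map_comp_apply,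
          ← FunctorToTypes.map_comp_apply, ← op_comp, ← op_comp]
        exact congrArg (fun k => Y.obj.map (Quiver.Hom.op k) y) (Over.OverMorphism.ext pullback.condition))
      rw [← h1, ← h2, op_comp, op_comp, FunctorToTypes.map_comp_apply, FunctorToTypes.map_comp_apply, hp]
    refine ⟨x, hYs.ext ?_⟩
    rintro _ _ ⟨i⟩
    rw [← NatTrans.naturality_apply, hx, hσ]

end

end EtProperH0Lib
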