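import Groth.Agent.EtProperH0Lib.ULocFibres

/-!
# Degree-zero base change along universally locally 0-acyclic morphisms
-/

set_option autoImplicit false
set_option linter.style.haveILetI false
set_option linter.unusedSectionVars false
set_option backward.isDefEq.respectTransparency false
set_option backward.isDefEq.respectTransparency.types false
universe u

open CategoryTheory CategoryTheory.Limits AlgebraicGeometry IsLocalRing TensorProduct AlgSpRegLib EtDescentLib

namespace EtProperH0Lib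

theorem comap_le_of_prime {A R : Type u} [CommRing A] [CommRing R] [IsLocalRing R] (ι : A →+* R) {z : Ideal A}
    (hz : (maximalIdeal R).comap ι = z) (P : PrimeSpectrum R) : P.asIdeal.comap ι ≤ z :=
  hz ▸ Ideal.comap_mono (IsLocalRing.le_maximalIdeal P.isPrime.ne_top)

theorem comap_fac {A B R R' : Type u} [CommRing A] [CommRing B] [CommRing R] [CommRing R'] (κ : A →+* B) (ι : A →+* R)
    (ι' : B →+* R') (ψ : R →+* R') (h : ψ.comp ι = ι'.comp κ) (P : PrimeSpectrum R') {Q : Ideal R}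
    (hQ : P.asIdeal.comap ψ = Q) {z : Ideal A} (hz : z = Q.comap ι) : (P.asIdeal.comap ι').comap κ = z := by
  rw [hz, ← hQ, Ideal.comap_comap, Ideal.comap_comap, h]

/-- Universally locally 0-acyclic morphisms are generalizing. -/
theorem generalizingMap_of_uloc {X Y : Scheme.{u}} {g : X ⟶ Y} (hg : EtAcyc.IsULocZeroAcyclic g) :
    GeneralizingMap g.base := by
  intro x y hy
  obtain ⟨U, hU, hxU, -⟩ := exists_isAffineOpen_mem_and_subset (x := g.base x) (U := ⊤) trivial
  obtain ⟨V, hV, hxV, hVU⟩ := exists_isAffineOpen_mem_and_subset (x := x) (U := g ⁻¹ᵁ U) hxU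
  let κ := g.appLE U V hVU
  let zx : PrimeSpectrum Γ(X, V) := hV.primeIdealOf ⟨x, hxV⟩
  let zs : PrimeSpectrum Γ(Y, U) := PrimeSpectrum.comap κ.hom zx
  have hκ : ∀ z : PrimeSpectrum Γ(X, V), g.base (hV.fromSpec z) = hU.fromSpec (PrimeSpectrum.comap κ.hom z) :=
    fun z => (congrArg (fun k : Spec Γ(X, V) ⟶ Y => k.base z) (hU.SpecMap_appLE_fromSpec g hV hVU)).symm
  have hzs : hU.fromSpec zs = g.base x := by rw [← hκ, hV.fromSpec_primeIdealOf]
  have hyU : y ∈ U := hy.mem_open U.2 hxU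
  let zy : PrimeSpectrum Γ(Y, U) := hU.primeIdealOf ⟨y, hyU⟩
  have hle : zy.asIdeal ≤ zs.asIdeal := by
    refine (PrimeSpectrum.le_iff_specializes zy zs).2 (hU.fromSpec.isOpenEmbedding.isInducing.specializes_iff.1 ?_)
    rwa [hzs, hU.fromSpec_primeIdealOf]
  haveI : zs.asIdeal.IsPrime := zs.isPrime
  haveI : zx.asIdeal.IsPrime := zx.isPrime
  haveI : IsSepClosed (ResidueField (ShAt zx.asIdeal)) :=
    (inferInstance : Hensel.IsStrictHenselization (Localization.AtPrime zx.asIdeal) (ShAt zx.asIdeal)).isSepClosure.sep_closed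
  obtain ⟨ψ, hψl, hψ⟩ := exists_shMap (R := ShAt zx.asIdeal) ((shι zx.asIdeal).comp κ.hom) zs.asIdeal
    (by rw [← Ideal.comap_comap, comap_shι]; rfl)
  haveI : Etale hU.fromSpec := inferInstance
  obtain ⟨x₁, aS, lS, wS, shS, aX, lX, wX, shX, hc⟩ := exists_stalk_data g hU.fromSpec hV.fromSpec κ
    (hU.SpecMap_appLE_fromSpec g hV hVU) zs.asIdeal zx.asIdeal ψ hψl hψ
  haveI := hψl
  haveI hsurj : Surjective (Spec.map (CommRingCat.ofHom ψ)) := surjective_of_conn _ fun Ω _ _ η =>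
    connected_sh_fibre_uloc hg x₁ (ShAt zs.asIdeal) (ShAt zx.asIdeal) ψ hc Ω η
  letI : Algebra Γ(Y, U) (ShAt zs.asIdeal) := (shι zs.asIdeal).toAlgebra
  haveI : Algebra.WeaklyEtale Γ(Y, U) (ShAt zs.asIdeal) := weaklyEtale_shι zs.asIdeal
  haveI : Module.Flat Γ(Y, U) (ShAt zs.asIdeal) := Algebra.WeaklyEtale.flat
  haveI : zy.asIdeal.IsPrime := zy.isPrime
  haveI : (maximalIdeal (ShAt zs.asIdeal)).LiesOver zs.asIdeal := ⟨(comap_shι zs.asIdeal).symm⟩
  obtain ⟨Q, -, hQp, hQ⟩ := Ideal.exists_ideal_le_liesOver_of_le (S := ShAt zs.asIdeal)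
    (maximalIdeal (ShAt zs.asIdeal)) hle
  obtain ⟨Q', hQ'⟩ := hsurj.surj ⟨Q, hQp⟩
  let z' : PrimeSpectrum Γ(X, V) := PrimeSpectrum.comap (shι zx.asIdeal) Q'
  refine ⟨hV.fromSpec z', ?_, ?_⟩
  · show hV.fromSpec z' ⤳ x
    suffices h : hV.fromSpec z' ⤳ hV.fromSpec zx by rwa [hV.fromSpec_primeIdealOf] at h
    refine ((PrimeSpectrum.le_iff_specializes z' zx).1 ?_).map hV.fromSpec.continuous
    exact comap_le_of_prime (shι zx.asIdeal) (comap_shι zx.asIdeal) Q'
  · rw [hκ]
    refine Eq.trans ?_ (hU.fromSpec_primeIdealOf ⟨y, hyU⟩)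
    congr 1
    refine PrimeSpectrum.ext ?_
    exact comap_fac κ.hom (shι zs.asIdeal) (shι zx.asIdeal) ψ hψ Q' (congrArg PrimeSpectrum.asIdeal hQ') hQ.over

/-- A surjective universally generalizing morphism between affine schemes is universally submersive. -/
theorem isQuotientMap_of_generalizing {Z V : Scheme.{u}} [IsAffine Z] [IsAffine V] (c : Z ⟶ V) [Surjective c]
    (hgen : ∀ (C : CommRingCat.{u}) (a : Spec C ⟶ V), GeneralizingMap (pullback.snd c a).base) (S' : Scheme.{u})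
    (a : S' ⟶ V) : Topology.IsQuotientMap (pullback.snd c a).base := by
  have haff : ∀ (C : CommRingCat.{u}) (a : Spec C ⟶ V), Topology.IsQuotientMap (pullback.snd c a).base := by
    intro C a
    let W := pullback c a
    let φ := Spec.preimage (W.isoSpec.inv ≫ pullback.snd c a)
    have hφ : Spec.map φ = W.isoSpec.inv ≫ pullback.snd c a := Spec.map_preimage _
    have h2 : GeneralizingMap (Spec.map φ).base := by
      rw [hφ]
      exact (Flat.generalizingMap W.isoSpec.inv).comp (hgen C a)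
    have h1 : Function.Surjective (Spec.map φ).base := by
      rw [hφ]
      exact (pullback.snd c a).surjective.comp W.isoSpec.inv.surjective
    have h3 : Topology.IsQuotientMap (Spec.map φ).base := PrimeSpectrum.isQuotientMap_of_generalizingMap h1 h2
    have h4 : W.isoSpec.hom ≫ Spec.map φ = pullback.snd c a := by rw [hφ, Iso.hom_inv_id_assoc]
    rw [← h4]
    exact h3.comp W.isoSpec.hom.homeomorph.isQuotientMap
  refine ⟨⟨TopologicalSpace.ext_iff.2 fun E => ⟨fun hE => hE.preimage (pullback.snd c a).continuous, fun hE => ?_⟩⟩,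
    (pullback.snd c a).surjective⟩
  refine isOpen_iff_forall_mem_open.2 fun s hs => ?_
  obtain ⟨W, hW, hsW, -⟩ := exists_isAffineOpen_mem_and_subset (x := s) (U := ⊤) trivial
  let ι := hW.fromSpec
  let Φ : pullback c (ι ≫ a) ⟶ pullback c a := pullback.map _ _ _ _ (𝟙 _) ι (𝟙 _) (by simp) (by simp)
  have h1 : IsOpen (ι.base ⁻¹' E) := by
    rw [← (haff _ (ι ≫ a)).isOpen_preimage]
    have h2 : (pullback.snd c (ι ≫ a)).base ⁻¹' (ι.base ⁻¹' E) = Φ.base ⁻¹' ((pullback.snd c a).base ⁻¹' E) := by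
      ext w
      show ι.base ((pullback.snd c (ι ≫ a)).base w) ∈ E ↔ (pullback.snd c a).base (Φ.base w) ∈ E
      rw [← Scheme.Hom.comp_apply, ← Scheme.Hom.comp_apply]
      simp [Φ]
    rw [h2]
    exact hE.preimage Φ.continuous
  exact ⟨ι.base '' (ι.base ⁻¹' E), Set.image_preimage_subset _ _, ι.isOpenMap _ h1,
    ⟨hW.primeIdealOf ⟨s, hsW⟩, by
      show ι.base (hW.primeIdealOf ⟨s, hsW⟩) ∈ E
      rw [hW.fromSpec_primeIdealOf]
      exact hs, hW.fromSpec_primeIdealOf _⟩⟩

/-- Strict localisations of universally locally 0-acyclic morphisms are universally submersive with connected fibres. -/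
theorem submConn_sh_uloc {X Y : Scheme.{u}} {g : X ⟶ Y} (hg : EtAcyc.IsULocZeroAcyclic g) (x : X) (RY : Type u)
    [CommRing RY] [IsLocalRing RY] [Algebra (Y.presheaf.stalk (g.base x)) RY]
    [IsLocalHom (algebraMap (Y.presheaf.stalk (g.base x)) RY)]
    [hY : Hensel.IsStrictHenselization (Y.presheaf.stalk (g.base x)) RY]
    (RX : Type u) [CommRing RX] [IsLocalRing RX] [Algebra (X.presheaf.stalk x) RX]
    [IsLocalHom (algebraMap (X.presheaf.stalk x) RX)] [hX : Hensel.IsStrictHenselization (X.presheaf.stalk x) RX]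
    (ψ : RY →+* RX) [IsLocalHom ψ]
    (hψ : ψ.comp (algebraMap (Y.presheaf.stalk (g.base x)) RY) =
      (algebraMap (X.presheaf.stalk x) RX).comp (g.stalkMap x).hom) :
    SubmConn (Spec.map (CommRingCat.ofHom ψ)) := by
  have hconn := fun Ω [Field Ω] [IsAlgClosed Ω] η => connected_sh_fibre_uloc hg x RY RX ψ hψ Ω η
  refine ⟨?_, hconn⟩
  haveI := surjective_of_conn _ hconn
  obtain ⟨U, hU, hxU, -⟩ := exists_isAffineOpen_mem_and_subset (x := g.base x) (U := ⊤) trivial
  obtain ⟨V, hV, hxV, hVU⟩ := exists_isAffineOpen_mem_and_subset (x := x) (U := g ⁻¹ᵁ U) hxU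
  obtain ⟨_, _, Θ, hwe, hΘ⟩ := exists_chart_baseChange g g (𝟙 X) (𝟙 Y)
    (IsPullback.of_horiz_isIso ⟨by simp⟩) x RY RX ψ hψ hU hV hVU hxV
  letI : Algebra Γ(Y, U) Γ(X, V) := (g.appLE U V hVU).hom.toAlgebra
  obtain ⟨j, hj, -, hj₂⟩ := exists_affine_chart g hU hV hVU RY
  haveI := hj
  haveI hw0 : AlgebraicGeometry.WeaklyEtale (Spec.map (CommRingCat.ofHom Θ)) :=
    letI := Θ.toAlgebra
    haveI : Algebra.WeaklyEtale (Γ(X, V) ⊗[Γ(Y, U)] RY) RX := hwe
    weaklyEtale_spec (Γ(X, V) ⊗[Γ(Y, U)] RY) RX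
  haveI : Flat (Spec.map (CommRingCat.ofHom Θ)) := hw0.flat
  let t := Spec.map (CommRingCat.ofHom (algebraMap Γ(Y, U) RY)) ≫ hU.fromSpec
  let f₀ : Spec (CommRingCat.of RX) ⟶ pullback g t := Spec.map (CommRingCat.ofHom Θ) ≫ j
  haveI : Flat f₀ := inferInstance
  have hf₀ : f₀ ≫ pullback.snd g t = Spec.map (CommRingCat.ofHom ψ) := by
    rw [Category.assoc, hj₂, ← Spec.map_comp, ← CommRingCat.ofHom_comp, hΘ]
  refine isQuotientMap_of_generalizing _ fun C a => ?_
  rw [← hf₀]
  have sq := (IsPullback.of_hasPullback f₀ (pullback.fst (pullback.snd g t) a)).paste_vert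
    (IsPullback.of_hasPullback (pullback.snd g t) a)
  rw [← sq.isoPullback_inv_snd]
  have A2 : GeneralizingMap (pullback.snd (pullback.snd g t) a).base :=
    generalizingMap_of_uloc (isULocZeroAcyclic_of_isPullback
      (isULocZeroAcyclic_of_isPullback hg (IsPullback.of_hasPullback g t)) (IsPullback.of_hasPullback (pullback.snd g t) a))
  have A1 : GeneralizingMap
      (pullback.snd f₀ (pullback.fst (pullback.snd g t) a) ≫ pullback.snd (pullback.snd g t) a).base :=
    GeneralizingMap.comp (f := ⇑(pullback.snd f₀ (pullback.fst (pullback.snd g t) a)))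
      (g := ⇑(pullback.snd (pullback.snd g t) a))
      (Flat.generalizingMap (pullback.snd f₀ (pullback.fst (pullback.snd g t) a))) A2
  exact GeneralizingMap.comp (f := ⇑sq.isoPullback.inv) (Flat.generalizingMap sq.isoPullback.inv) A1

/-- Sections see no difference along a universally locally 0-acyclic morphism. -/
theorem strictBij_of_uloc {T X S : Scheme.{u}} {t : T ⟶ S} {P : (Over T)ᵒᵖ ⥤ Type (u + 1)} (hP : HasGerms P)
    (f : X ⟶ S) (hf : EtAcyc.IsULocZeroAcyclic f)
    {A A' : CommRingCat.{u}} (g : Spec A ⟶ S) [Etale g] (g' : Spec A' ⟶ X) [Etale g'] (κ : A ⟶ A')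
    (e : Spec.map κ ≫ g = g' ≫ f) : StrictBij t P g (g' ≫ f) κ := by
  refine strictBij_of_conn hP g (g' ≫ f) κ fun p _ p' _ ψ hψl hψ => ?_
  obtain ⟨x, aS, lS, wS, shS, aX, lX, wX, shX, hc⟩ := exists_stalk_data f g g' κ e p p' ψ hψl hψ
  haveI := hψl
  exact submConn_sh_uloc hf x (ShAt p) (ShAt p') ψ hc

/-- Base change for sheaves of sets along a universally locally 0-acyclic morphism. -/
theorem isIso_baseChange0Sh_of_uloc {X Y X' Y' : Scheme.{u}} {f : X ⟶ Y} {g : Y' ⟶ Y} {f' : X' ⟶ Y'} {g' : X' ⟶ X}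
    (h : IsPullback g' f' f g) [QuasiCompact f] [QuasiSeparated f] (hg : EtAcyc.IsULocZeroAcyclic g) (F : EtDesc.Sh X) :
    IsIso (EtBC.baseChange0Sh f g f' g' h.w F) :=
  isIso_baseChange0Sh_of_strict h F fun B B' gB hgB gB' hgB' κ e P hP => by
    haveI := hgB
    haveI := hgB'
    exact strictBij_of_uloc hP g hg gB gB' κ e

end EtProperH0Lib
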