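import Groth.Agent.EtProperH0Lib.EffGerm
import Groth.Agent.EtProperH0Lib.LocalCrit
import Groth.Agent.EtProperH0Lib.Fibre
import Groth.Agent.EtProperH0Lib.StrictMain
import Groth.Agent.EtProperH0Lib.ULocMain
import Groth.Agent.EtProperH0Lib.DiscreteBase

/-!
# Effective descent of étale sheaves of sets: applications
-/

set_option autoImplicit false
set_option linter.style.haveILetI false
set_option linter.unusedSectionVars false
set_option backward.isDefEq.respectTransparency false
set_option backward.isDefEq.respectTransparency.types false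
universe u

open CategoryTheory CategoryTheory.Limits AlgebraicGeometry Opposite EtDescentLib Groth.Agent.EtShLib

namespace EtProperH0Lib

noncomputable section

/-- Base change along a morphism makes the comparison of direct images bijective over it. -/
theorem phi_bijective_of_bc {X Y T : Scheme.{u}} (f : X ⟶ Y) (g : T ⟶ Y) (F : EtDesc.Sh X)
    (h : IsIso (EtBC.baseChange0Sh f g (pullback.snd f g) (pullback.fst f g) (IsPullback.of_hasPullback f g).w F))
    (V : T.Etale) : Function.Bijective ((phi f F).hom.app (op ((Over.map g).obj ((EtFppf.a T).obj V)))) :=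
  (isIso_bcMor_iff (IsPullback.of_hasPullback f g) F).1
    (by rw [bcMor_eq_sh (IsPullback.of_hasPullback f g) F]; exact h) V

theorem isIso_baseChange0Sh_of_integral {X Y X' Y' : Scheme.{u}} {f : X ⟶ Y} {g : Y' ⟶ Y} {f' : X' ⟶ Y'} {g' : X' ⟶ X}
    (h : IsPullback g' f' f g) [IsIntegralHom f] (F : EtDesc.Sh X) :
    IsIso (EtBC.baseChange0Sh f g f' g' h.w F) :=
  isIso_baseChange0Sh_of_strict h F fun B B' gB _ gB' _ κ _ P hP =>
    strictBij_of_closedFibre hP (closedFibreBij_of_integral hP) gB (gB' ≫ g) κ

theorem univSubmersive_of_universallyClosed {T S : Scheme.{u}} (h : T ⟶ S) [UniversallyClosed h] [Surjective h] :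
    EtDesc.IsUnivSubmersive h := fun Y g =>
  ⟨(pullback.snd h g).surjective,
    (pullback.snd h g).isClosedMap.isQuotientMap (pullback.snd h g).continuous (pullback.snd h g).surjective⟩

theorem univSubmersive_of_universallyOpen {T S : Scheme.{u}} (h : T ⟶ S) [UniversallyOpen h] [Surjective h] :
    EtDesc.IsUnivSubmersive h := fun Y g =>
  ⟨(pullback.snd h g).surjective,
    (pullback.snd h g).isOpenMap.isQuotientMap (pullback.snd h g).continuous (pullback.snd h g).surjective⟩

theorem isIntegral_tSq {T S : Scheme.{u}} (h : T ⟶ S) [IsIntegralHom h] : IsIntegralHom (tSq h) := by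
  haveI : IsIntegralHom (pullback.fst h h) := MorphismProperty.pullback_fst _ _ ‹_›
  infer_instance

theorem isProper_tSq {T S : Scheme.{u}} (h : T ⟶ S) [IsProper h] : IsProper (tSq h) := by
  haveI : IsProper (pullback.fst h h) := MorphismProperty.pullback_fst _ _ ‹_›
  infer_instance

variable {X' X : Scheme.{u}} {f : X' ⟶ X} {F' : EtDesc.Sh X'}
  {φ : (EtDesc.pullSh (pullback.fst f f)).obj F' ≅ (EtDesc.pullSh (pullback.snd f f)).obj F'}

theorem isEffective_of_proper [IsProper f] [Surjective f] (hφ : EtDesc.IsCocycle F' φ) :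
    EtDesc.IsEffective f F' φ := by
  haveI := isProper_tSq f
  have hf := univSubmersive_of_universallyClosed f
  refine isEffective_of_multisections hf hφ fun y => ⟨X, X', 𝟙 X, inferInstance, f, 𝟙 X', by simp, ⟨y, rfl⟩, hf,
    fun G V => (phi_bijective_of_bc f f G (isIso_baseChange0Sh (IsPullback.of_hasPullback f f) G) V).2,
    fun G V => (phi_bijective_of_bc (tSq f) f G (isIso_baseChange0Sh (IsPullback.of_hasPullback (tSq f) f) G) V).1⟩

theorem isEffective_of_integral [IsIntegralHom f] [Surjective f] (hφ : EtDesc.IsCocycle F' φ) :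
    EtDesc.IsEffective f F' φ := by
  haveI := isIntegral_tSq f
  have hf := univSubmersive_of_universallyClosed f
  refine isEffective_of_multisections hf hφ fun y => ⟨X, X', 𝟙 X, inferInstance, f, 𝟙 X', by simp, ⟨y, rfl⟩, hf,
    fun G V => (phi_bijective_of_bc f f G (isIso_baseChange0Sh_of_integral (IsPullback.of_hasPullback f f) G) V).2,
    fun G V => (phi_bijective_of_bc (tSq f) f G
      (isIso_baseChange0Sh_of_integral (IsPullback.of_hasPullback (tSq f) f) G) V).1⟩

/-- A criterion through finite multisections. -/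
theorem isEffective_of_finite_multisections (hf : EtDesc.IsUnivSubmersive f) (hφ : EtDesc.IsCocycle F' φ)
    (hloc : ∀ y : X, ∃ (U0 T : Scheme.{u}) (u₀ : U0 ⟶ X) (_ : Etale u₀) (h : T ⟶ U0) (g : T ⟶ X')
      (_ : IsIntegralHom h) (_ : Surjective h), g ≫ f = h ≫ u₀ ∧ y ∈ Set.range u₀.base) :
    EtDesc.IsEffective f F' φ := by
  refine isEffective_of_multisections hf hφ fun y => ?_
  obtain ⟨U0, T, u₀, hu, h, g, hh, hs, w, hy⟩ := hloc y
  haveI := hh; haveI := hs
  haveI := isIntegral_tSq h
  exact ⟨U0, T, u₀, hu, h, g, w, hy, univSubmersive_of_universallyClosed h,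
    fun G V => (phi_bijective_of_bc h h G (isIso_baseChange0Sh_of_integral (IsPullback.of_hasPullback h h) G) V).2,
    fun G V => (phi_bijective_of_bc (tSq h) h G
      (isIso_baseChange0Sh_of_integral (IsPullback.of_hasPullback (tSq h) h) G) V).1⟩

theorem univSubmersive_of_point {Z Y0 : Scheme.{u}} {K : Type u} [Field K]
    (i : Spec (CommRingCat.of K) ⟶ Y0) [Surjective i] [IsClosedImmersion i] (g' : Z ⟶ Spec (CommRingCat.of K))
    [Surjective g'] : EtDesc.IsUnivSubmersive (g' ≫ i) := by
  intro Y a
  have hi := univSubmersive_of_universallyClosed i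
  have hg' := univSubmersive_of_universallyOpen g'
  have sq := (IsPullback.of_hasPullback g' (pullback.fst i a)).paste_vert (IsPullback.of_hasPullback i a)
  have h1 := isQuotientMap_of_isPullback hg' (IsPullback.of_hasPullback g' (pullback.fst i a))
  have h2 := isQuotientMap_of_isPullback hi (IsPullback.of_hasPullback i a)
  rw [← sq.isoPullback_inv_snd]
  exact ⟨(h2.1.comp h1.1).comp sq.isoPullback.inv.surjective,
    (h2.2.comp h1.2).comp sq.isoPullback.inv.homeomorph.isQuotientMap⟩

end

end EtProperH0Lib
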