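import Groth.Agent.EtDescentLib.Core

/-!
# Restriction of sheaves with étale germs to schemes over the base
-/

set_option autoImplicit false
set_option linter.style.haveILetI false
set_option backward.isDefEq.respectTransparency false
set_option backward.isDefEq.respectTransparency.types false
universe u v

open CategoryTheory CategoryTheory.Limits AlgebraicGeometry Opposite EtDescentLib

namespace EtProperH0Lib

theorem hasGerms_restrict {T X : Scheme.{u}} {P : (Over T)ᵒᵖ ⥤ Type v} (hP : HasGerms P) (p : X ⟶ T) :
    HasGerms ((Over.map p).op ⋙ P) where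
  sheaf := (Over.map p).op_comp_isSheaf_of_isSheaf_type (J := QuotSh.J Scheme.etalePrecoverage X)
    (K := QuotSh.J Scheme.etalePrecoverage T) hP.sheaf
  exists_germ {M G} a hG x := by
    obtain ⟨W, h, hh, b, t, hb, ht⟩ := hP.exists_germ ((Over.map p).map a) hG x
    haveI := hh
    let W' : Over X := Over.mk (h.left ≫ M.hom)
    let e : (Over.map p).obj W' ⟶ W := Over.homMk (𝟙 _) (by
      show 𝟙 W.left ≫ W.hom = (h.left ≫ M.hom) ≫ p
      rw [Category.id_comp, ← Over.w h, Category.assoc]
      rfl)
    refine ⟨W', Over.homMk h.left rfl, hh, Over.homMk b.left (by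
      show b.left ≫ h.left ≫ M.hom = G.hom
      rw [← Category.assoc, show b.left ≫ h.left = a.left from congrArg CommaMorphism.left hb, Over.w a]),
      P.map e.op t, Over.OverMorphism.ext (congrArg CommaMorphism.left hb :), ?_⟩
    show P.map ((Over.map p).map _).op (P.map e.op t) = x
    rw [← map_comp_apply', ← ht]
    exact congrArg (fun m => P.map m.op t) (Over.OverMorphism.ext (Category.comp_id b.left))
  exists_eq {M G} a hG s t hst := by
    obtain ⟨W, h, hh, b, hb, he⟩ := hP.exists_eq ((Over.map p).map a) hG s t hst
    haveI := hh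
    let W' : Over X := Over.mk (h.left ≫ M.hom)
    let e : (Over.map p).obj W' ⟶ W := Over.homMk (𝟙 _) (by
      show 𝟙 W.left ≫ W.hom = (h.left ≫ M.hom) ≫ p
      rw [Category.id_comp, ← Over.w h, Category.assoc]
      rfl)
    refine ⟨W', Over.homMk h.left rfl, hh, Over.homMk b.left (by
      show b.left ≫ h.left ≫ M.hom = G.hom
      rw [← Category.assoc, show b.left ≫ h.left = a.left from congrArg CommaMorphism.left hb, Over.w a]),
      Over.OverMorphism.ext (congrArg CommaMorphism.left hb :), ?_⟩
    have hfac : (Over.map p).map (Over.homMk h.left rfl : W' ⟶ M) = e ≫ h :=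
      Over.OverMorphism.ext (Category.id_comp h.left).symm
    show P.map ((Over.map p).map (Over.homMk h.left rfl : W' ⟶ M)).op s =
      P.map ((Over.map p).map (Over.homMk h.left rfl : W' ⟶ M)).op t
    rw [hfac, map_comp_apply', map_comp_apply', he]

end EtProperH0Lib
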