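import Groth.Agent.AlgSpRegLib.ShLift
import Groth.Agent.HenselBranchLib.IndEtLocal
import Mathlib.AlgebraicGeometry.AffineTransitionLimit
import Mathlib.AlgebraicGeometry.Morphisms.Etale

/-!
# The spectrum of a strict henselization as a limit of étale neighbourhoods
-/

set_option autoImplicit false
set_option linter.style.haveILetI false
set_option backward.isDefEq.respectTransparency false
set_option backward.isDefEq.respectTransparency.types false
universe u

open CategoryTheory CategoryTheory.Limits AlgebraicGeometry Opposite AlgSpRegLib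

namespace EtProperH0Lib

theorem exists_sh_system {A : CommRingCat.{u}} (p : Ideal A) [p.IsPrime] :
    ∃ (I : Type u) (_ : SmallCategory I) (_ : IsCofiltered I) (D : I ⥤ Over (Spec A)) (c : Cone D),
      c.pt = Over.mk (Spec.map (CommRingCat.ofHom (shι p))) ∧ Nonempty (IsLimit ((Over.forget (Spec A)).mapCone c)) ∧
      (∀ i, IsAffine (D.obj i).left ∧ Etale (D.obj i).hom) := by
  letI : Algebra A (ShAt p) := (shι p).toAlgebra
  haveI : Module.Flat A (ShAt p) := flat_shι p
  obtain ⟨J, _, _, D, c, hc, hD, ⟨e⟩⟩ := HenselBranchLib.isIndEtale_of_etCov (R := A) (S := ShAt p) fun x => by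
    obtain ⟨B, _, _, _, ξ, hξ, hx⟩ := exists_etale_rep (p := p) x
    obtain ⟨b, rfl⟩ := hx
    exact ⟨B, inferInstance, inferInstance, inferInstance,
      { ξ with commutes' := fun a => RingHom.congr_fun hξ a }, b, rfl⟩
  haveI : IsConnected J := IsFiltered.isConnected J
  haveI : PreservesColimit D (Under.forget (CommRingCat.of A)) := inferInstance
  let c' : Cocone D := c.extend e.hom
  have hc' : IsColimit c' := IsColimit.extendIso e.hom hc
  have hC : IsColimit ((Under.forget (CommRingCat.of A)).mapCocone c') := isColimitOfPreserves _ hc'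
  let DS : Jᵒᵖ ⥤ Over (Spec A) :=
    { obj := fun j => Over.mk (Spec.map (D.obj j.unop).hom)
      map := fun {i j} a => Over.homMk (Spec.map (D.map a.unop).right) (by
        show Spec.map (D.map a.unop).right ≫ Spec.map (D.obj j.unop).hom = Spec.map (D.obj i.unop).hom
        rw [← Spec.map_comp, Under.w (D.map a.unop)])
      map_id := fun i => Over.OverMorphism.ext (by
        show Spec.map (D.map (𝟙 i.unop)).right = 𝟙 _
        rw [D.map_id]; exact Spec.map_id _)
      map_comp := fun a b => Over.OverMorphism.ext (by
        show Spec.map (D.map (b.unop ≫ a.unop)).right = Spec.map (D.map a.unop).right ≫ Spec.map (D.map b.unop).right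
        rw [D.map_comp, ← Spec.map_comp]; rfl) }
  let cS : Cone DS :=
    { pt := Over.mk (Spec.map (CommRingCat.ofHom (shι p)))
      π :=
        { app := fun j => Over.homMk (Spec.map (c'.ι.app j.unop).right) (by
            show Spec.map (c'.ι.app j.unop).right ≫ Spec.map (D.obj j.unop).hom = _
            rw [← Spec.map_comp, Under.w (c'.ι.app j.unop)]; rfl)
          naturality := fun i j a => Over.OverMorphism.ext (by
            show 𝟙 _ ≫ Spec.map (c'.ι.app j.unop).right =
              Spec.map (c'.ι.app i.unop).right ≫ Spec.map (D.map a.unop).right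
            rw [Category.id_comp, ← Spec.map_comp, ← Under.comp_right, c'.w]) } }
  refine ⟨Jᵒᵖ, inferInstance, inferInstance, DS, cS, rfl, ⟨?_⟩, fun j => ⟨?_, ?_⟩⟩
  · exact IsLimit.ofIsoLimit (isLimitOfPreserves Scheme.Spec hC.op) (Cone.ext (Iso.refl _) fun j => (Category.id_comp _).symm)
  · exact inferInstanceAs (IsAffine (Spec (D.obj j.unop).right))
  · show Etale (Spec.map (D.obj j.unop).hom)
    rw [HasRingHomProperty.Spec_iff (P := @Etale)]
    letI := (D.obj j.unop).hom.hom.toAlgebra
    exact RingHom.etale_algebraMap.2 (hD j.unop)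

end EtProperH0Lib
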