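import Groth.Agent.EtProperH0Lib.StrictStalk
import Groth.Agent.S7127
import Groth.Agent.HenselBranchLib.IndEtLocal

/-!
# Weakly étale strictly henselian algebras are strict henselizations
-/

set_option autoImplicit false
set_option linter.style.haveILetI false
set_option backward.isDefEq.respectTransparency false
universe u

open IsLocalRing TensorProduct AlgSpRegLib

namespace EtProperH0Lib

theorem weaklyEtale_shι {A : Type u} [CommRing A] (p : Ideal A) [p.IsPrime] :
    letI := (shι p).toAlgebra; Algebra.WeaklyEtale A (ShAt p) := by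
  letI := (shι p).toAlgebra
  haveI : Module.Flat A (ShAt p) := flat_shι p
  refine Groth.Agent.S0736.result A (ShAt p) (HenselBranchLib.isIndEtale_of_etCov (R := A) (S := ShAt p) fun x => ?_)
  obtain ⟨B, _, _, _, ξ, hξ, hx⟩ := exists_etale_rep (p := p) x
  obtain ⟨b, rfl⟩ := hx
  exact ⟨B, inferInstance, inferInstance, inferInstance,
    { ξ with commutes' := fun a => RingHom.congr_fun hξ a }, b, rfl⟩

/-- A strictly henselian weakly étale algebra is the strict henselization at the prime below the closed point. -/
theorem exists_shIdent (A R' : Type u) [CommRing A] [CommRing R'] [HenselianLocalRing R'] [IsSepClosed (ResidueField R')]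
    [Algebra A R'] [Algebra.WeaklyEtale A R'] (P : Ideal A) [P.IsPrime]
    (hP : (maximalIdeal R').comap (algebraMap A R') = P) :
    ∃ ψ : ShAt P →+* R', Function.Bijective ψ ∧ ψ.comp (shι P) = algebraMap A R' := by
  let L := Localization.AtPrime P
  let R := ShAt P
  have hu : ∀ s : P.primeCompl, IsUnit (algebraMap A R' s) := fun s =>
    IsLocalRing.notMem_maximalIdeal.1 fun h => s.2 (hP.le h)
  let f : L →+* R' := IsLocalization.lift hu
  have hf : f.comp (algebraMap A L) = algebraMap A R' := IsLocalization.lift_comp hu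
  haveI hfl : IsLocalHom f := ⟨fun x hx => by
    obtain ⟨a, s, rfl⟩ := IsLocalization.exists_mk'_eq P.primeCompl x
    refine (IsLocalization.AtPrime.isUnit_mk'_iff L P a s).2 fun ha => ?_
    have h0 : f (IsLocalization.mk' L a s) * algebraMap A R' s = algebraMap A R' a := by
      rw [← RingHom.congr_fun hf (s : A), RingHom.comp_apply, ← map_mul, IsLocalization.mk'_spec,
        ← RingHom.comp_apply, hf]
    exact (hP.ge ha) (h0 ▸ hx.mul (hu s))⟩
  letI : Algebra (ResidueField L) (ResidueField R') := (ResidueField.map f).toAlgebra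
  have hS : Hensel.IsStrictHenselization L R := inferInstance
  haveI := hS.henselian
  haveI := hS.isSepClosure.separable
  haveI : IsSepClosed (ResidueField R) := hS.isSepClosure.sep_closed
  let τ : ResidueField R →ₐ[ResidueField L] ResidueField R' := IsSepClosed.lift
  obtain ⟨ψ, ⟨h1, h2⟩, -⟩ := hS.universal R' f τ.toRingHom τ.comp_algebraMap
  have h3 : ψ.comp (shι P) = algebraMap A R' := by
    show ψ.comp ((algebraMap L R).comp (algebraMap A L)) = _
    rw [← RingHom.comp_assoc, h1, hf]
  letI : Algebra A R := (shι P).toAlgebra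
  letI : Algebra R R' := ψ.toAlgebra
  haveI : IsScalarTower A R R' := IsScalarTower.of_algebraMap_eq' h3.symm
  haveI : Algebra.WeaklyEtale A R := weaklyEtale_shι P
  haveI : Algebra.WeaklyEtale R R' := Groth.Agent.S7127.result A R R'
  haveI : IsLocalHom (algebraMap R R') := ⟨fun z hz => by
    by_contra hnz
    refine (hz.map (residue R')).ne_zero ?_
    show residue R' (ψ z) = 0
    rw [h2, (residue_eq_zero_iff z).2 hnz, map_zero]⟩
  exact ⟨ψ, Groth.Agent.WEtNormalLib.bijective_of_strictlyHenselian R R', h3⟩

/-- Elements of a finite family come from one étale algebra. -/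
theorem exists_indEtale_rep (A R' : Type u) [CommRing A] [CommRing R'] [HenselianLocalRing R']
    [IsSepClosed (ResidueField R')] [Algebra A R'] [Algebra.WeaklyEtale A R'] (x : R') :
    ∃ (B : Type u) (_ : CommRing B) (_ : Algebra A B) (_ : Algebra.Etale A B) (ξ : B →ₐ[A] R') (b : B), ξ b = x := by
  let P := (maximalIdeal R').comap (algebraMap A R')
  obtain ⟨ψ, hψ, h⟩ := exists_shIdent A R' P rfl
  obtain ⟨z, rfl⟩ := hψ.2 x
  obtain ⟨B, _, _, _, ξ, hξ, hz⟩ := exists_etale_rep (p := P) z
  obtain ⟨b, rfl⟩ := hz
  exact ⟨B, inferInstance, inferInstance, inferInstance,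
    { ψ.comp ξ with
      commutes' := fun a => by
        show ψ (ξ (algebraMap A B a)) = _
        rw [← RingHom.comp_apply ξ, hξ, ← RingHom.comp_apply ψ, h] }, b, rfl⟩

end EtProperH0Lib
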