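import Groth.Agent.EtProperH0Lib.UnitIso
import Groth.Prelude.Def_EtBase
import Groth.Agent.EtProperH0Lib.Connected

/-!
# Sections of abelian sheaves along submersive morphisms with connected fibres
-/

set_option autoImplicit false
set_option linter.style.haveILetI false
set_option linter.unusedSectionVars false
set_option backward.isDefEq.respectTransparency false
set_option backward.isDefEq.respectTransparency.types false
universe u

open CategoryTheory CategoryTheory.Limits AlgebraicGeometry Opposite EtDescentLib Groth.Agent.EtShLib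

namespace EtProperH0Lib

noncomputable section

theorem isIso_unit_of_submConn_ab {Z V : Scheme.{u}} (p : Z ⟶ V) (h : SubmConn p) (F : EtCoh.Ab V) :
    IsIso ((adjS AddCommGrpCat.{u + 1} p).unit.app F) := by
  let A := AddCommGrpCat.{u + 1}
  let P := ((pPull A V).obj F).obj
  haveI : ∀ U : (V.Etale)ᵒᵖ, IsIso (((adjS A p).unit.app F).hom.app U) := fun U => by
    obtain ⟨U⟩ := U
    let i := pullback.fst U.hom p
    have hc := (h.pullback_fst U.hom)
    have hb := bijective_map_of_restrict U.hom i
      ((hasGerms_restrict (hasGerms_ab V F) U.hom).bijective_of_connected i hc.1 hc.2)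
    let c := (Over.mapPullbackAdj p).counit.app ((EtFppf.a V).obj U)
    let e : (Over.map p).obj ((Over.pullback p).obj ((EtFppf.a V).obj U)) ≅ Over.mk (i ≫ U.hom) :=
      Over.isoMk (Iso.refl _) (by
        show 𝟙 _ ≫ pullback.fst U.hom p ≫ U.hom = pullback.snd U.hom p ≫ p
        rw [Category.id_comp, pullback.condition])
    have he : e.hom ≫ (Over.homMk i rfl : Over.mk (i ≫ U.hom) ⟶ Over.mk U.hom) = c := by
      refine Over.OverMorphism.ext ?_
      show 𝟙 _ ≫ pullback.fst U.hom p = c.left
      rw [Category.id_comp]
      simp [c]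
      rfl
    haveI : IsIso (P.map c.op) := by
      rw [← he, op_comp, P.map_comp]
      haveI : IsIso (P.map (Over.homMk i rfl : Over.mk (i ≫ U.hom) ⟶ Over.mk U.hom).op) :=
        (ConcreteCategory.isIso_iff_bijective _).2 hb
      infer_instance
    haveI : IsIso (((pAdj A V).unit.app F).hom.app (op U)) :=
      (ConcreteCategory.isIso_iff_bijective _).2 (unit_app_bijective F U)
    haveI : IsIso ((gamma p F).hom.app (op ((EtCoh.bc p).obj U))) :=
      inferInstanceAs (IsIso ((sheafToPresheaf _ _ ⋙ (evaluation _ _).obj (op ((EtCoh.bc p).obj U))).map (gamma p F)))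
    haveI : IsIso (((adjS A p).unit.app F).hom.app (op U) ≫ (gamma p F).hom.app (op ((EtCoh.bc p).obj U))) := by
      rw [gamma_app]
      infer_instance
    exact IsIso.of_isIso_comp_right _ ((gamma p F).hom.app (op ((EtCoh.bc p).obj U)))
  haveI : IsIso ((adjS A p).unit.app F).hom := NatIso.isIso_of_isIso_app _
  haveI : IsIso ((sheafToPresheaf _ _).map ((adjS A p).unit.app F)) := ‹IsIso ((adjS A p).unit.app F).hom›
  exact isIso_of_reflects_iso ((adjS A p).unit.app F) (sheafToPresheaf _ _)

theorem submConn_of_flat_qc {T S : Scheme.{u}} (f : T ⟶ S) [Flat f] [QuasiCompact f]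
    (hc : ∀ (Ω : Type u) [Field Ω] [IsAlgClosed Ω] (s : Spec (CommRingCat.of Ω) ⟶ S), ConnectedSpace ↥(pullback f s)) :
    SubmConn f := by
  haveI : Surjective f := surjective_of_conn f hc
  refine ⟨fun S' g => ?_, hc⟩
  haveI : Flat (pullback.snd f g) := MorphismProperty.pullback_snd _ _ inferInstance
  haveI : QuasiCompact (pullback.snd f g) := MorphismProperty.pullback_snd _ _ inferInstance
  exact Flat.isQuotientMap_of_surjective _

end

end EtProperH0Lib
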