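import Groth.Agent.EtProperH0Lib.FlatRedFibres

/-!
# Connectedness of the geometric fibres of strict localisations
-/

set_option autoImplicit false
set_option linter.style.haveILetI false
set_option linter.unusedSectionVars false
set_option backward.isDefEq.respectTransparency false
set_option backward.isDefEq.respectTransparency.types false
universe u

open CategoryTheory CategoryTheory.Limits AlgebraicGeometry IsLocalRing TensorProduct AlgSpRegLib

namespace EtProperH0Lib

/-- Finitely presented case. -/
theorem connected_fibre_of_fp {R R' A : Type u} [CommRing R] [HenselianLocalRing R] [IsSepClosed (ResidueField R)]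
    [CommRing R'] [HenselianLocalRing R'] [IsSepClosed (ResidueField R')] [CommRing A] [Algebra R A] [Algebra A R']
    [Algebra R R'] [IsScalarTower R A R'] [IsLocalHom (algebraMap R R')] [Algebra.WeaklyEtale A R']
    [Algebra.FinitePresentation R A] [Module.Flat R A]
    [GeometricallyReduced (Spec.map (CommRingCat.ofHom (algebraMap R A)))] (K : Type u) [Field K] [Algebra R K] :
    ConnectedSpace (PrimeSpectrum (K ⊗[R] R')) := by
  haveI : Module.Flat R R' := Module.Flat.trans R A R'
  haveI : Module.FaithfullyFlat R R' := Module.FaithfullyFlat.of_flat_of_isLocalHom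
  refine Groth.Agent.SchFinLib.connectedSpace_iff_idempotent.2
    ⟨Module.FaithfullyFlat.rTensor_nontrivial R R' K,
      fun e he => trivIdem_of_stages A R' R K (fun B _ _ _ _ _ ξ z hz => ?_) e he⟩
  haveI : Algebra.FinitePresentation R B := Algebra.FinitePresentation.trans R A B
  haveI : Module.Flat R B := Module.Flat.trans R A B
  haveI := geometricallyReduced_trans R A B
  exact idem_stage (ξ.restrictScalars R) K z hz

/-- Noetherian case. -/
theorem connected_fibre_of_noetherian {R R' A : Type u} [CommRing R] [HenselianLocalRing R] [IsNoetherianRing R]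
    [IsSepClosed (ResidueField R)] [CommRing R'] [HenselianLocalRing R'] [IsNoetherianRing R'] [CommRing A]
    [Algebra R A] [Algebra A R'] [Algebra R R'] [IsScalarTower R A R'] [IsLocalHom (algebraMap R R')]
    [Algebra.WeaklyEtale A R'] [Module.Flat R A]
    [GeometricallyReduced (Spec.map (CommRingCat.ofHom (algebraMap R A)))] (K : Type u) [Field K] [Algebra R K] :
    ConnectedSpace (PrimeSpectrum (K ⊗[R] R')) := by
  haveI : Module.Flat R R' := Module.Flat.trans R A R'
  haveI := geometricallyReduced_trans R A R'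
  exact Groth.Agent.S2814.result R R' K

theorem connectedSpace_pullback_spec {R R' : Type u} [CommRing R] [CommRing R'] [Algebra R R']
    (h : ∀ (K : Type u) [Field K] [Algebra R K], ConnectedSpace (PrimeSpectrum (K ⊗[R] R'))) (Ω : Type u) [Field Ω]
    (η : Spec (CommRingCat.of Ω) ⟶ Spec (CommRingCat.of R)) :
    ConnectedSpace ↥(pullback (Spec.map (CommRingCat.ofHom (algebraMap R R'))) η) := by
  obtain ⟨φ, rfl⟩ := Spec.map_surjective η
  algebraize [φ.hom]
  have h1 := h Ω
  haveI : ConnectedSpace (PrimeSpectrum (R' ⊗[R] Ω)) :=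
    let e := PrimeSpectrum.homeomorphOfRingEquiv (Algebra.TensorProduct.comm R Ω R').toRingEquiv
    e.surjective.connectedSpace e.continuous
  exact (pullbackSpecIso R R' Ω).hom.homeomorph.connectedSpace_iff.mpr ‹ConnectedSpace (PrimeSpectrum (R' ⊗[R] Ω))›

theorem weaklyEtale_sh_sections {X : Scheme.{u}} {U : X.Opens} (hU : IsAffineOpen U) (x : X) (hx : x ∈ U)
    (R : Type u) [CommRing R] [IsLocalRing R] [Algebra (X.presheaf.stalk x) R]
    [IsLocalHom (algebraMap (X.presheaf.stalk x) R)] [Hensel.IsStrictHenselization (X.presheaf.stalk x) R] :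
    letI := ((algebraMap (X.presheaf.stalk x) R).comp (X.presheaf.germ U x hx).hom).toAlgebra
    Algebra.WeaklyEtale Γ(X, U) R := by
  letI := X.presheaf.algebra_section_stalk (⟨x, hx⟩ : U)
  haveI := hU.isLocalization_stalk ⟨x, hx⟩
  letI : Algebra Γ(X, U) R := ((algebraMap (X.presheaf.stalk x) R).comp (X.presheaf.germ U x hx).hom).toAlgebra
  haveI : IsScalarTower Γ(X, U) (X.presheaf.stalk x) R := IsScalarTower.of_algebraMap_eq fun _ => rfl
  haveI : Algebra.WeaklyEtale Γ(X, U) (X.presheaf.stalk x) :=
    Groth.Agent.WEtNormalLib.weaklyEtale_localization _ _ (hU.primeIdealOf ⟨x, hx⟩).asIdeal.primeCompl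
  haveI : Algebra.WeaklyEtale (X.presheaf.stalk x) R :=
    Groth.Agent.S0736.result _ _ (Groth.Agent.S12237.result (X.presheaf.stalk x) R)
  exact Algebra.WeaklyEtale.trans Γ(X, U) (X.presheaf.stalk x) R

theorem geometricallyReduced_appLE {X S : Scheme.{u}} (f : X ⟶ S) [GeometricallyReduced f] {U : S.Opens}
    (hU : IsAffineOpen U) {V : X.Opens} (hV : IsAffineOpen V) (e : V ≤ f ⁻¹ᵁ U) :
    GeometricallyReduced (Spec.map (f.appLE U V e)) := by
  haveI : GeometricallyReduced (Spec.map (f.appLE U V e) ≫ hU.fromSpec) := by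
    rw [hU.SpecMap_appLE_fromSpec f hV e]
    exact geometricallyReduced_comp_weaklyEtale _ _
  exact MorphismProperty.of_isPullback (P := @GeometricallyReduced)
    (IsPullback.of_horiz_isIso_mono (fst := 𝟙 _) (snd := Spec.map (f.appLE U V e))
      (f := Spec.map (f.appLE U V e) ≫ hU.fromSpec) (g := hU.fromSpec) ⟨by simp⟩) ‹_›

/-- Strict localisations of flat morphisms with geometrically reduced fibres have connected geometric fibres. -/
theorem connected_sh_fibre {X S : Scheme.{u}} (f : X ⟶ S) [Flat f] [GeometricallyReduced f]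
    (h : (IsLocallyNoetherian X ∧ IsLocallyNoetherian S) ∨ LocallyOfFinitePresentation f) (x : X) (RS : Type u)
    [CommRing RS] [IsLocalRing RS] [Algebra (S.presheaf.stalk (f.base x)) RS]
    [IsLocalHom (algebraMap (S.presheaf.stalk (f.base x)) RS)]
    [hS : Hensel.IsStrictHenselization (S.presheaf.stalk (f.base x)) RS]
    (RX : Type u) [CommRing RX] [IsLocalRing RX] [Algebra (X.presheaf.stalk x) RX]
    [IsLocalHom (algebraMap (X.presheaf.stalk x) RX)] [hX : Hensel.IsStrictHenselization (X.presheaf.stalk x) RX]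
    (ψ : RS →+* RX) [IsLocalHom ψ]
    (hψ : ψ.comp (algebraMap (S.presheaf.stalk (f.base x)) RS) =
      (algebraMap (X.presheaf.stalk x) RX).comp (f.stalkMap x).hom)
    (Ω : Type u) [Field Ω] (η : Spec (CommRingCat.of Ω) ⟶ Spec (CommRingCat.of RS)) :
    ConnectedSpace ↥(pullback (Spec.map (CommRingCat.ofHom ψ)) η) := by
  haveI := hS.henselian
  haveI := hX.henselian
  haveI : IsSepClosed (ResidueField RS) := hS.isSepClosure.sep_closed
  haveI : IsSepClosed (ResidueField RX) := hX.isSepClosure.sep_closed
  obtain ⟨U, hU, hxU, -⟩ := exists_isAffineOpen_mem_and_subset (x := f.base x) (U := ⊤) trivial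
  obtain ⟨V, hV, hxV, hVU⟩ := exists_isAffineOpen_mem_and_subset (x := x) (U := f ⁻¹ᵁ U) hxU
  let A := Γ(S, U)
  let A' := Γ(X, V)
  let φ := f.appLE U V hVU
  letI : Algebra A RS := ((algebraMap (S.presheaf.stalk (f.base x)) RS).comp (S.presheaf.germ U _ hxU).hom).toAlgebra
  letI : Algebra A' RX := ((algebraMap (X.presheaf.stalk x) RX).comp (X.presheaf.germ V x hxV).hom).toAlgebra
  haveI hwS : Algebra.WeaklyEtale A RS := weaklyEtale_sh_sections hU (f.base x) hxU RS
  haveI hwX : Algebra.WeaklyEtale A' RX := weaklyEtale_sh_sections hV x hxV RX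
  letI : Algebra A A' := φ.hom.toAlgebra
  letI : Algebra RS RX := ψ.toAlgebra
  letI : Algebra A RX := ((algebraMap A' RX).comp φ.hom).toAlgebra
  haveI : IsScalarTower A A' RX := IsScalarTower.of_algebraMap_eq fun _ => rfl
  haveI : IsScalarTower A RS RX := IsScalarTower.of_algebraMap_eq fun a => by
    show algebraMap (X.presheaf.stalk x) RX (X.presheaf.germ V x hxV (φ a)) =
      ψ (algebraMap (S.presheaf.stalk (f.base x)) RS (S.presheaf.germ U _ hxU a))
    rw [← RingHom.comp_apply ψ, hψ, RingHom.comp_apply, Scheme.Hom.germ_stalkMap_apply]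
    refine congrArg _ ?_
    show X.presheaf.germ V x hxV (X.presheaf.map (homOfLE hVU).op (f.app U a)) = _
    exact X.presheaf.germ_res_apply (homOfLE hVU) x hxV _
  let A'' : Type u := A' ⊗[A] RS
  letI : Algebra RS A'' := (Algebra.TensorProduct.includeRight : RS →ₐ[A] A'').toRingHom.toAlgebra
  let θ : A'' →ₐ[A'] RX := Algebra.TensorProduct.lift (Algebra.ofId A' RX) (IsScalarTower.toAlgHom A RS RX)
    fun _ _ => Commute.all _ _
  letI : Algebra A'' RX := θ.toRingHom.toAlgebra
  haveI : IsScalarTower A' A'' RX := IsScalarTower.of_algebraMap_eq' θ.comp_algebraMap.symm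
  haveI : IsScalarTower RS A'' RX := IsScalarTower.of_algebraMap_eq fun r => by
    show ψ r = θ ((1 : A') ⊗ₜ r)
    simp only [θ]
    erw [Algebra.TensorProduct.lift_tmul]
    rw [map_one, one_mul]
    rfl
  haveI : Algebra.WeaklyEtale A'' RX := Groth.Agent.S7127.result A' A'' RX
  have sq := (isPullback_SpecMap_of_isPushout _ _ _ _ (CommRingCat.isPushout_tensorProduct A A' RS))
  haveI : GeometricallyReduced (Spec.map φ) := geometricallyReduced_appLE f hU hV hVU
  haveI : GeometricallyReduced (Spec.map (CommRingCat.ofHom (algebraMap RS A''))) :=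
    MorphismProperty.of_isPullback (P := @GeometricallyReduced) sq ‹_›
  haveI : Flat (Spec.map φ) := (HasRingHomProperty.Spec_iff (P := @Flat)).2 (f.flat_appLE hU hV hVU)
  haveI : Module.Flat RS A'' := by
    have h1 : Flat (Spec.map (CommRingCat.ofHom (algebraMap RS A''))) :=
      MorphismProperty.of_isPullback (P := @Flat) sq ‹_›
    rw [HasRingHomProperty.Spec_iff (P := @Flat)] at h1
    exact RingHom.flat_algebraMap_iff.1 h1
  refine connectedSpace_pullback_spec (fun K _ _ => ?_) Ω η
  rcases h with ⟨hnX, hnS⟩ | hfp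
  · haveI := hnX; haveI := hnS
    haveI : IsNoetherianRing RS := (Groth.Agent.S0540.result (S.presheaf.stalk (f.base x)) RS).1 inferInstance
    haveI : IsNoetherianRing RX := (Groth.Agent.S0540.result (X.presheaf.stalk x) RX).1 inferInstance
    exact connected_fibre_of_noetherian (A := A'') K
  · haveI := hfp
    haveI : LocallyOfFinitePresentation (Spec.map φ) :=
      (HasRingHomProperty.Spec_iff (P := @LocallyOfFinitePresentation)).2 (f.finitePresentation_appLE hU hV hVU)
    haveI : Algebra.FinitePresentation RS A'' := by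
      have h1 : LocallyOfFinitePresentation (Spec.map (CommRingCat.ofHom (algebraMap RS A''))) :=
        MorphismProperty.of_isPullback (P := @LocallyOfFinitePresentation) sq ‹_›
      rw [HasRingHomProperty.Spec_iff (P := @LocallyOfFinitePresentation)] at h1
      exact RingHom.finitePresentation_algebraMap.1 h1
    exact connected_fibre_of_fp (A := A'') K

end EtProperH0Lib
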