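import Groth.Agent.AlgSpRegLib.ShLift

/-!
# Maps between strict henselizations
-/

set_option autoImplicit false
set_option linter.style.haveILetI false
set_option backward.isDefEq.respectTransparency false
universe u

open IsLocalRing TensorProduct AlgSpRegLib

namespace EtProperH0Lib

variable {A A' : Type u} [CommRing A] [CommRing A'] (κ : A →+* A') {K : Type u} [Field K] [IsAlgClosed K]
  {p : Ideal A} [p.IsPrime] {p' : Ideal A'} [p'.IsPrime] {φ : ShAt p →+* K} {φ' : ShAt p' →+* K}
  (hker : RingHom.ker φ = maximalIdeal (ShAt p)) (hker' : RingHom.ker φ' = maximalIdeal (ShAt p'))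
  (hκ : φ.comp (shι p) = (φ'.comp (shι p')).comp κ)
  (hrange : ∀ (B : Type u) [CommRing B] [Algebra A' B] [Algebra.Etale A' B] (χ : B →+* K),
    χ.comp (algebraMap A' B) = φ'.comp (shι p') → Set.range χ ⊆ Set.range φ')

include hκ hrange in
theorem range_le : Set.range φ ⊆ Set.range φ' := by
  rintro _ ⟨z, rfl⟩
  obtain ⟨B, _, _, _, ξ, hξ, b, rfl⟩ := exists_etale_rep (p := p) z
  letI : Algebra A A' := κ.toAlgebra
  letI : Algebra A' K := (φ'.comp (shι p')).toAlgebra
  letI : Algebra A K := ((φ'.comp (shι p')).comp κ).toAlgebra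
  haveI : IsScalarTower A A' K := IsScalarTower.of_algebraMap_eq fun _ => rfl
  let χ : B →ₐ[A] K := AlgHom.mk (φ.comp ξ) (by
    intro a
    show φ (ξ (algebraMap A B a)) = _
    rw [← RingHom.comp_apply ξ, hξ, ← RingHom.comp_apply φ, hκ]
    rfl)
  let χ' : A' ⊗[A] B →ₐ[A'] K := Algebra.TensorProduct.lift (Algebra.ofId A' K) χ fun _ _ => Commute.all _ _
  obtain ⟨y, hy⟩ := hrange (A' ⊗[A] B) χ'.toRingHom χ'.comp_algebraMap ⟨1 ⊗ₜ b, rfl⟩
  exact ⟨y, hy.trans (by
    show χ' (1 ⊗ₜ b) = φ (ξ b)
    rw [Algebra.TensorProduct.lift_tmul, map_one, one_mul]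
    rfl)⟩

include hκ hker hker' hrange in
/-- The map of strict henselizations at compatible geometric points. -/
theorem exists_shHom : ∃ ψ : ShAt p →+* ShAt p', IsLocalHom ψ ∧ ψ.comp (shι p) = (shι p').comp κ ∧ φ'.comp ψ = φ := by
  let L := Localization.AtPrime p
  let R := ShAt p
  let R' := ShAt p'
  haveI hh : IsLocalHom φ := ⟨fun x hx => IsLocalRing.notMem_maximalIdeal.1 fun hm => hx.ne_zero (hker.ge hm)⟩
  haveI hh' : IsLocalHom φ' := ⟨fun x hx => IsLocalRing.notMem_maximalIdeal.1 fun hm => hx.ne_zero (hker'.ge hm)⟩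
  have hS : Hensel.IsStrictHenselization L R := inferInstance
  haveI hhens : HenselianLocalRing R' := Hensel.IsStrictHenselization.henselian (R := Localization.AtPrime p')
  haveI : IsSepClosed (ResidueField R') :=
    (Hensel.IsStrictHenselization.isSepClosure (R := Localization.AtPrime p') (S := R')).sep_closed
  have hu : ∀ s : p.primeCompl, IsUnit ((shι p').comp κ s) := fun s => by
    have h1 : IsUnit (shι p s) := (IsLocalization.map_units L s).map (algebraMap L R)
    have h2 : IsUnit (φ (shι p s)) := h1.map φ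
    rw [← RingHom.comp_apply φ, hκ] at h2
    exact (isUnit_map_iff φ' _).1 h2
  let f : L →+* R' := IsLocalization.lift hu
  have hf : f.comp (algebraMap A L) = (shι p').comp κ := IsLocalization.lift_comp hu
  have hφf : φ'.comp f = φ.comp (algebraMap L R) := IsLocalization.ringHom_ext p.primeCompl (by
    rw [RingHom.comp_assoc, hf, ← RingHom.comp_assoc, ← hκ]
    rfl)
  haveI hfl : IsLocalHom f := ⟨fun x hx => by
    have h1 : IsUnit (φ (algebraMap L R x)) := by
      rw [← RingHom.comp_apply φ, ← hφf]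
      exact hx.map φ'
    exact (isUnit_map_iff (algebraMap L R) x).1 ((isUnit_map_iff φ _).1 h1)⟩
  let σ : ResidueField R →+* K := ResidueField.lift φ
  let σ' : ResidueField R' →+* K := ResidueField.lift φ'
  have hle : ∀ x, σ x ∈ σ'.range := fun x => by
    obtain ⟨z, rfl⟩ := residue_surjective x
    obtain ⟨z', hz'⟩ := range_le κ hκ hrange ⟨z, rfl⟩
    exact ⟨residue R' z', hz'⟩
  let e' : ResidueField R' ≃+* σ'.range :=
    RingEquiv.ofBijective σ'.rangeRestrict ⟨fun a b h => σ'.injective (congrArg Subtype.val h),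
      σ'.rangeRestrict_surjective⟩
  let τ : ResidueField R →+* ResidueField R' := e'.symm.toRingHom.comp (σ.codRestrict σ'.range hle)
  have hτ : ∀ x, σ' (τ x) = σ x := fun x =>
    congrArg Subtype.val (e'.apply_symm_apply (σ.codRestrict σ'.range hle x))
  obtain ⟨ψ, ⟨h1, h2⟩, -⟩ := hS.universal R' f τ (RingHom.ext fun x => by
    obtain ⟨l, rfl⟩ := residue_surjective x
    refine σ'.injective ?_
    show σ' (τ (ResidueField.map (algebraMap L R) (residue L l))) = σ' (ResidueField.map f (residue L l))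
    rw [hτ, ResidueField.map_residue, ResidueField.map_residue]
    exact (RingHom.congr_fun hφf l).symm)
  have h3 : φ'.comp ψ = φ := RingHom.ext fun z => by
    show σ' (residue R' (ψ z)) = σ (residue R z)
    rw [h2, hτ]
  refine ⟨ψ, ⟨fun z hz => ?_⟩, ?_, h3⟩
  · have h4 : IsUnit (φ' (ψ z)) := hz.map φ'
    rw [← RingHom.comp_apply φ', h3] at h4
    exact (isUnit_map_iff φ z).1 h4
  · show ψ.comp ((algebraMap L R).comp (algebraMap A L)) = _
    rw [← RingHom.comp_assoc, h1, hf]

end EtProperH0Lib
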