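import Groth.Agent.EtProperH0Lib.FibreStage
import Groth.Agent.WEtReducedLib.Basic
import Groth.Agent.WEtNormalLib.Main
import Groth.Agent.S2814
import Groth.Agent.S0540
import Groth.Agent.S9759
import Groth.Agent.S1461
import Groth.Agent.S9737
import Groth.Agent.EtProperH0Lib.ShHom

/-!
# Strict localisations of flat morphisms with geometrically reduced fibres have connected geometric fibres
-/

set_option autoImplicit false
set_option linter.style.haveILetI false
set_option linter.unusedSectionVars false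
set_option backward.isDefEq.respectTransparency false
set_option backward.isDefEq.respectTransparency.types false
universe u

open CategoryTheory CategoryTheory.Limits AlgebraicGeometry IsLocalRing TensorProduct AlgSpRegLib

namespace EtProperH0Lib

theorem weaklyEtale_spec (R S : Type u) [CommRing R] [CommRing S] [Algebra R S] [Algebra.WeaklyEtale R S] :
    AlgebraicGeometry.WeaklyEtale (Spec.map (CommRingCat.ofHom (algebraMap R S))) := by
  refine ⟨?_, ?_⟩
  · rw [HasRingHomProperty.Spec_iff (P := @Flat)]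
    exact RingHom.flat_algebraMap_iff.2 inferInstance
  · haveI : MorphismProperty.RespectsIso (@Flat : MorphismProperty Scheme.{u}) :=
      MorphismProperty.IsStableUnderBaseChange.respectsIso
    rw [diagonal_SpecMap]
    refine (MorphismProperty.cancel_right_of_respectsIso (P := @Flat) _ (pullbackSpecIso R S S).inv).2 ?_
    rw [HasRingHomProperty.Spec_iff (P := @Flat)]
    exact Algebra.WeaklyEtale.flat_lmul' R S

theorem geometricallyReduced_comp_weaklyEtale {V X Y : Scheme.{u}} (j : V ⟶ X) [AlgebraicGeometry.WeaklyEtale j]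
    (f : X ⟶ Y) [GeometricallyReduced f] : GeometricallyReduced (j ≫ f) := by
  refine ⟨geometrically_iff_of_isClosedUnderIsomorphisms.mpr fun F _ y => ?_⟩
  haveI : IsReduced (pullback f y) :=
    (geometrically_iff_of_isClosedUnderIsomorphisms.mp GeometricallyReduced.geometrically_isReduced) F y
  haveI : IsReduced (pullback j (pullback.fst f y)) :=
    Groth.Agent.WEtReducedLib.isReduced_of_weaklyEtale_scheme (pullback.snd j (pullback.fst f y))
  exact isReduced_of_isOpenImmersion (pullbackRightPullbackFstIso f y j).inv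

theorem geometricallyReduced_trans (R A B : Type u) [CommRing R] [CommRing A] [CommRing B] [Algebra R A] [Algebra A B]
    [Algebra R B] [IsScalarTower R A B] [Algebra.WeaklyEtale A B]
    [GeometricallyReduced (Spec.map (CommRingCat.ofHom (algebraMap R A)))] :
    GeometricallyReduced (Spec.map (CommRingCat.ofHom (algebraMap R B))) := by
  haveI := weaklyEtale_spec A B
  rw [IsScalarTower.algebraMap_eq R A B, CommRingCat.ofHom_comp, Spec.map_comp]
  exact geometricallyReduced_comp_weaklyEtale _ _

/-- The strict henselization at the prime below the closed point maps to a strictly henselian local ring. -/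
theorem exists_shMap {A R : Type u} [CommRing A] [CommRing R] [HenselianLocalRing R] [IsSepClosed (ResidueField R)]
    (ρ : A →+* R) (p : Ideal A) [p.IsPrime] (hp : (maximalIdeal R).comap ρ = p) :
    ∃ ψ : ShAt p →+* R, IsLocalHom ψ ∧ ψ.comp (shι p) = ρ := by
  let L := Localization.AtPrime p
  have hu : ∀ s : p.primeCompl, IsUnit (ρ s) := fun s =>
    IsLocalRing.notMem_maximalIdeal.1 fun h => s.2 (hp.le h)
  let f : L →+* R := IsLocalization.lift hu
  have hf : f.comp (algebraMap A L) = ρ := IsLocalization.lift_comp hu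
  haveI hfl : IsLocalHom f := ⟨fun x hx => by
    obtain ⟨a, s, rfl⟩ := IsLocalization.exists_mk'_eq p.primeCompl x
    refine (IsLocalization.AtPrime.isUnit_mk'_iff L p a s).2 fun ha => ?_
    have h0 : f (IsLocalization.mk' L a s) * ρ s = ρ a := by
      rw [← RingHom.congr_fun hf (s : A), RingHom.comp_apply, ← map_mul, IsLocalization.mk'_spec,
        ← RingHom.comp_apply, hf]
    exact (hp.ge ha) (h0 ▸ hx.mul (hu s))⟩
  letI : Algebra (ResidueField L) (ResidueField R) := (ResidueField.map f).toAlgebra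
  have hS : Hensel.IsStrictHenselization L (ShAt p) := inferInstance
  haveI := hS.isSepClosure.separable
  let τ : ResidueField (ShAt p) →ₐ[ResidueField L] ResidueField R := IsSepClosed.lift
  obtain ⟨ψ, ⟨h1, h2⟩, -⟩ := hS.universal R f τ.toRingHom τ.comp_algebraMap
  refine ⟨ψ, ⟨fun z hz => ?_⟩, ?_⟩
  · by_contra hnz
    refine (hz.map (residue R)).ne_zero ?_
    rw [h2, (residue_eq_zero_iff z).2 hnz, map_zero]
  · show ψ.comp ((algebraMap L (ShAt p)).comp (algebraMap A L)) = _
    rw [← RingHom.comp_assoc, h1, hf]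

/-- A finitely presented flat algebra with geometrically reduced fibres descends to noetherian rings. -/
theorem exists_flatRed_descent (R B : Type u) [CommRing R] [CommRing B] [Algebra R B]
    [Algebra.FinitePresentation R B] [Module.Flat R B]
    [GeometricallyReduced (Spec.map (CommRingCat.ofHom (algebraMap R B)))] :
    ∃ (R₀ B₀ : Type u) (_ : CommRing R₀) (_ : CommRing B₀) (_ : Algebra R₀ R) (_ : Algebra R₀ B₀) (_ : Algebra B₀ B)
      (_ : Algebra R₀ B) (_ : IsScalarTower R₀ R B) (_ : IsScalarTower R₀ B₀ B),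
      IsNoetherianRing R₀ ∧ Algebra.FiniteType R₀ B₀ ∧ Module.Flat R₀ B₀ ∧
      GeometricallyReduced (Spec.map (CommRingCat.ofHom (algebraMap R₀ B₀))) ∧ Algebra.IsPushout R₀ R B₀ B := by
  let fS := Spec.map (CommRingCat.ofHom (algebraMap R B))
  haveI : LocallyOfFinitePresentation fS := by
    rw [HasRingHomProperty.Spec_iff (P := @LocallyOfFinitePresentation)]
    exact RingHom.finitePresentation_algebraMap.2 inferInstance
  haveI : Flat fS := by
    rw [HasRingHomProperty.Spec_iff (P := @Flat)]
    exact RingHom.flat_algebraMap_iff.2 inferInstance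
  obtain ⟨X₁, S₁, f₁, g₁, g₁', _, _, h₁, hS₁, _, hf₁⟩ := Groth.Agent.S9759.result fS
  obtain ⟨X₂, S₂, f₂, g₂, g₂', _, _, h₂, hS₂, _, hf₂⟩ := Groth.Agent.S1461.result fS
  haveI : MorphismProperty.IsStableUnderBaseChange (@Flat : MorphismProperty Scheme.{u}) := inferInstance
  obtain ⟨X₀, S₀, f₀, g, g', _, _, hpb, hS₀, _, hfl₀, hgr₀⟩ :=
    Groth.Agent.S9737.result (@Flat) (@GeometricallyReduced) fS f₁ g₁ g₁' h₁ f₂ g₂ g₂' h₂ hS₁ hS₂ hf₁ hf₂
  haveI := hfl₀; haveI := hgr₀
  let eR := Scheme.ΓSpecIso (CommRingCat.of R)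
  let eB := Scheme.ΓSpecIso (CommRingCat.of B)
  letI : Algebra Γ(S₀, ⊤) R := (g.appTop ≫ eR.hom).hom.toAlgebra
  letI : Algebra Γ(S₀, ⊤) Γ(X₀, ⊤) := f₀.appTop.hom.toAlgebra
  letI : Algebra Γ(X₀, ⊤) B := (g'.appTop ≫ eB.hom).hom.toAlgebra
  letI : Algebra Γ(S₀, ⊤) B := ((algebraMap R B).comp (algebraMap Γ(S₀, ⊤) R)).toAlgebra
  haveI : IsScalarTower Γ(S₀, ⊤) R B := IsScalarTower.of_algebraMap_eq fun _ => rfl
  have hpo : IsPushout (CommRingCat.ofHom (algebraMap Γ(S₀, ⊤) R)) (CommRingCat.ofHom (algebraMap Γ(S₀, ⊤) Γ(X₀, ⊤)))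
      (CommRingCat.ofHom (algebraMap R B)) (CommRingCat.ofHom (algebraMap Γ(X₀, ⊤) B)) :=
    (isPushout_appTop_of_isPullback hpb).flip.of_iso (Iso.refl _) eR (Iso.refl _) eB (by simp; rfl) (by simp; rfl)
      (Scheme.ΓSpecIso_naturality (CommRingCat.ofHom (algebraMap R B))) (by simp; rfl)
  haveI : IsScalarTower Γ(S₀, ⊤) Γ(X₀, ⊤) B := IsScalarTower.of_algebraMap_eq fun r =>
    (ConcreteCategory.congr_hom hpo.w r)
  refine ⟨Γ(S₀, ⊤), Γ(X₀, ⊤), inferInstance, inferInstance, inferInstance, inferInstance, inferInstance, inferInstance,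
    inferInstance, inferInstance, ?_, ?_, ?_, ?_, CommRingCat.isPushout_iff_isPushout.1 hpo⟩
  · haveI : Algebra.FiniteType ℤ Γ(S₀, ⊤) := hS₀
    exact Algebra.FiniteType.isNoetherianRing ℤ Γ(S₀, ⊤)
  · exact RingHom.finiteType_algebraMap.1
      ((HasRingHomProperty.iff_of_isAffine (P := @LocallyOfFiniteType)).1 ‹LocallyOfFiniteType f₀›)
  · exact RingHom.flat_algebraMap_iff.1 ((HasRingHomProperty.iff_of_isAffine (P := @Flat)).1 hfl₀)
  · show GeometricallyReduced (Spec.map f₀.appTop)
    exact (MorphismProperty.arrow_mk_iso_iff (P := @GeometricallyReduced) (arrowIsoSpecΓOfIsAffine f₀)).1 hgr₀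

/-- A flat noetherian local algebra through which idempotents of the descended fibre pass. -/
theorem idem_transfer {R₀ T R B₀ B C R' K : Type u} [CommRing R₀] [CommRing T] [CommRing R] [CommRing B₀] [CommRing B]
    [CommRing C] [CommRing R'] [CommRing K] [Algebra R₀ T] [Algebra R₀ R] [Algebra T R] [IsScalarTower R₀ T R]
    [Algebra R₀ B₀] [Algebra R B] [Algebra R₀ B] [IsScalarTower R₀ R B] [Algebra B₀ B] [IsScalarTower R₀ B₀ B]
    [Algebra.IsPushout R₀ R B₀ B] [Algebra T C] [Algebra R₀ C] [IsScalarTower R₀ T C] [Algebra R R'] [Algebra T R']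
    [IsScalarTower T R R'] [Algebra R K] [Algebra T K] [IsScalarTower T R K] [Algebra R₀ K] [IsScalarTower R₀ T K]
    [IsScalarTower R₀ R K] (j : B₀ →ₐ[R₀] C) (χ : C →ₐ[T] R') (ξ : B →ₐ[R] R')
    (hj : ∀ b, χ (j b) = ξ (algebraMap B₀ B b)) (hC : ∀ e : K ⊗[T] C, IsIdempotentElem e → e = 0 ∨ e = 1)
    (z : K ⊗[R] B) (hz : IsIdempotentElem z) :
    Algebra.TensorProduct.map (AlgHom.id R K) ξ z = 0 ∨ Algebra.TensorProduct.map (AlgHom.id R K) ξ z = 1 := by
  let Φ : K ⊗[R] B ≃ₐ[R] K ⊗[R₀] B₀ :=
    (Algebra.TensorProduct.congr (AlgEquiv.refl (R := R) (A₁ := K)) (Algebra.IsPushout.equiv R₀ R B₀ B).symm).trans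
      ((Algebra.TensorProduct.cancelBaseChange R₀ R R K B₀))
  let μ : K ⊗[R₀] B₀ →+* K ⊗[T] C :=
    (Algebra.TensorProduct.lift ((Algebra.TensorProduct.includeLeft : K →ₐ[T] K ⊗[T] C).restrictScalars R₀)
      (((Algebra.TensorProduct.includeRight : C →ₐ[T] K ⊗[T] C).restrictScalars R₀).comp j)
      fun _ _ => Commute.all _ _).toRingHom
  let ν : K ⊗[T] C →+* K ⊗[R] R' :=
    (Algebra.TensorProduct.lift ((Algebra.TensorProduct.includeLeft : K →ₐ[R] K ⊗[R] R').restrictScalars T)
      (((Algebra.TensorProduct.includeRight : R' →ₐ[R] K ⊗[R] R').restrictScalars T).comp χ)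
      fun _ _ => Commute.all _ _).toRingHom
  have key : ∀ w : K ⊗[R₀] B₀, ν (μ w) = Algebra.TensorProduct.map (AlgHom.id R K) ξ (Φ.symm w) := by
    intro w
    induction w using TensorProduct.induction_on with
    | zero => simp
    | add a b ha hb => simp only [map_add, ha, hb]
    | tmul a b =>
      have e2 : Φ.symm (a ⊗ₜ b) = a ⊗ₜ algebraMap B₀ B b := by simp [Φ, Algebra.IsPushout.equiv_tmul]
      rw [e2]
      simp [μ, ν, hj]
  rw [show Algebra.TensorProduct.map (AlgHom.id R K) ξ z = ν (μ (Φ z)) from by rw [key, AlgEquiv.symm_apply_apply]]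
  exact (hC (μ (Φ z)) ((hz.map Φ).map μ)).imp (fun h => by rw [h, map_zero]) (fun h => by rw [h, map_one])

/-- A strict henselization between an algebra and a strictly henselian local algebra over it. -/
theorem exists_sh_local {B R' : Type u} [CommRing B] [CommRing R'] [HenselianLocalRing R']
    [IsSepClosed (ResidueField R')] (θ : B →+* R') :
    ∃ (C : Type u) (_ : CommRing C) (_ : HenselianLocalRing C) (_ : IsSepClosed (ResidueField C)) (_ : Algebra B C)
      (_ : Algebra.WeaklyEtale B C) (χ : C →+* R'), IsLocalHom χ ∧ χ.comp (algebraMap B C) = θ := by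
  let P := (maximalIdeal R').comap θ
  obtain ⟨χ, hl, hχ⟩ := exists_shMap θ P rfl
  exact ⟨ShAt P, inferInstance, Hensel.IsStrictHenselization.henselian (R := Localization.AtPrime P),
    (Hensel.IsStrictHenselization.isSepClosure (R := Localization.AtPrime P) (S := ShAt P)).sep_closed,
    (shι P).toAlgebra, weaklyEtale_shι P, χ, hl, hχ⟩

/-- Strictly henselian weakly étale algebras over noetherian rings are noetherian. -/
theorem isNoetherianRing_of_weaklyEtale (B C : Type u) [CommRing B] [IsNoetherianRing B] [CommRing C]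
    [HenselianLocalRing C] [IsSepClosed (ResidueField C)] [Algebra B C] [Algebra.WeaklyEtale B C] :
    IsNoetherianRing C := by
  let P := (maximalIdeal C).comap (algebraMap B C)
  haveI : IsNoetherianRing (ShAt P) :=
    (Groth.Agent.S0540.result (Localization.AtPrime P) (ShAt P)).1 inferInstance
  obtain ⟨e, he, -⟩ := exists_shIdent B C P rfl
  exact isNoetherianRing_of_surjective _ _ e he.2

/-- Idempotents on fibres become trivial in a local algebra, given a descent to noetherian rings. -/
theorem idem_stage_noetherian {R B R' : Type u} [CommRing R] [HenselianLocalRing R] [IsSepClosed (ResidueField R)]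
    [CommRing B] [CommRing R'] [HenselianLocalRing R'] [IsSepClosed (ResidueField R')] [Algebra R B] [Algebra R R']
    [IsLocalHom (algebraMap R R')] (R₀ B₀ : Type u) [CommRing R₀] [CommRing B₀] [IsNoetherianRing R₀]
    [IsNoetherianRing B₀] [Algebra R₀ R] [Algebra R₀ B₀] [Algebra B₀ B] [Algebra R₀ B] [IsScalarTower R₀ R B]
    [IsScalarTower R₀ B₀ B] [Algebra.IsPushout R₀ R B₀ B] [Module.Flat R₀ B₀]
    [hgr₀ : GeometricallyReduced (Spec.map (CommRingCat.ofHom (algebraMap R₀ B₀)))] (ξ : B →ₐ[R] R') (K : Type u)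
    [Field K] [Algebra R K] (z : K ⊗[R] B) (hz : IsIdempotentElem z) :
    Algebra.TensorProduct.map (AlgHom.id R K) ξ z = 0 ∨ Algebra.TensorProduct.map (AlgHom.id R K) ξ z = 1 := by
  let p := (maximalIdeal R).comap (algebraMap R₀ R)
  let T := ShAt p
  obtain ⟨ψ, hψl, hψ⟩ := exists_shMap (algebraMap R₀ R) p rfl
  haveI hT : HenselianLocalRing T := Hensel.IsStrictHenselization.henselian (R := Localization.AtPrime p)
  haveI : IsSepClosed (ResidueField T) :=
    (Hensel.IsStrictHenselization.isSepClosure (R := Localization.AtPrime p) (S := T)).sep_closed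
  haveI : IsNoetherianRing T := (Groth.Agent.S0540.result (Localization.AtPrime p) T).1 inferInstance
  letI : Algebra R₀ T := (shι p).toAlgebra
  haveI : Algebra.WeaklyEtale R₀ T := weaklyEtale_shι p
  letI : Algebra T R := ψ.toAlgebra
  haveI : IsScalarTower R₀ T R := IsScalarTower.of_algebraMap_eq' hψ.symm
  letI : Algebra T R' := ((algebraMap R R').comp ψ).toAlgebra
  letI : Algebra R₀ R' := ((algebraMap R R').comp (algebraMap R₀ R)).toAlgebra
  haveI : IsScalarTower R₀ R R' := IsScalarTower.of_algebraMap_eq fun _ => rfl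
  haveI : IsScalarTower T R R' := IsScalarTower.of_algebraMap_eq fun _ => rfl
  haveI : IsScalarTower R₀ T R' := IsScalarTower.of_algebraMap_eq fun r =>
    congrArg (algebraMap R R') (RingHom.congr_fun hψ r).symm
  let B₁ : Type u := B₀ ⊗[R₀] T
  haveI : Algebra.WeaklyEtale B₀ B₁ := inferInstanceAs (Algebra.WeaklyEtale B₀ (B₀ ⊗[R₀] T))
  letI algTB₁ : Algebra T B₁ := (Algebra.TensorProduct.includeRight : T →ₐ[R₀] B₁).toRingHom.toAlgebra
  have sq := (isPullback_SpecMap_of_isPushout _ _ _ _ (CommRingCat.isPushout_tensorProduct R₀ B₀ T))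
  haveI : GeometricallyReduced (Spec.map (CommRingCat.ofHom (algebraMap T B₁))) :=
    MorphismProperty.of_isPullback (P := @GeometricallyReduced) sq hgr₀
  haveI : Module.Flat T B₁ := by
    haveI : Flat (Spec.map (CommRingCat.ofHom (algebraMap R₀ B₀))) :=
      (HasRingHomProperty.Spec_iff (P := @Flat)).2 (RingHom.flat_algebraMap_iff.2 inferInstance)
    have h1 : Flat (Spec.map (CommRingCat.ofHom (algebraMap T B₁))) :=
      MorphismProperty.of_isPullback (P := @Flat) sq ‹_›
    rw [HasRingHomProperty.Spec_iff (P := @Flat)] at h1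
    exact RingHom.flat_algebraMap_iff.1 h1
  let β : B₀ →ₐ[R₀] R' := (ξ.restrictScalars R₀).comp (IsScalarTower.toAlgHom R₀ B₀ B)
  let θ : B₁ →ₐ[R₀] R' := Algebra.TensorProduct.lift β (IsScalarTower.toAlgHom R₀ T R') fun _ _ => Commute.all _ _
  obtain ⟨C, _, _, _, _, _, χ₀, hχl, hχ⟩ := exists_sh_local θ.toRingHom
  letI : Algebra B₀ C := ((algebraMap B₁ C).comp (algebraMap B₀ B₁)).toAlgebra
  haveI : IsScalarTower B₀ B₁ C := IsScalarTower.of_algebraMap_eq (R := B₀) (S := B₁) (A := C) fun _ => rfl
  haveI : Algebra.WeaklyEtale B₀ C := Algebra.WeaklyEtale.trans B₀ B₁ C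
  haveI : IsNoetherianRing C := isNoetherianRing_of_weaklyEtale B₀ C
  letI : Algebra T C := ((algebraMap B₁ C).comp (algebraMap T B₁)).toAlgebra
  haveI : IsScalarTower T B₁ C := IsScalarTower.of_algebraMap_eq fun _ => rfl
  letI : Algebra R₀ C := ((algebraMap T C).comp (algebraMap R₀ T)).toAlgebra
  haveI : IsScalarTower R₀ T C := IsScalarTower.of_algebraMap_eq fun _ => rfl
  have hχT : ∀ t, χ₀ (algebraMap T C t) = algebraMap R R' (ψ t) := fun t => by
    show χ₀ (algebraMap B₁ C (algebraMap T B₁ t)) = _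
    rw [← RingHom.comp_apply χ₀, hχ]
    show β 1 * IsScalarTower.toAlgHom R₀ T R' t = _
    rw [map_one, one_mul]
    rfl
  let χ : C →ₐ[T] R' := { χ₀ with commutes' := hχT }
  haveI : Algebra.WeaklyEtale T T := inferInstance
  haveI : GeometricallyReduced (Spec.map (CommRingCat.ofHom (R := T) (S := C) (algebraMap T C))) :=
    geometricallyReduced_trans T B₁ C
  haveI : Module.Flat B₁ C := Algebra.WeaklyEtale.flat
  haveI : Module.Flat T C := Module.Flat.trans T B₁ C
  haveI : IsLocalHom (algebraMap T C) := ⟨fun t ht => by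
    have h1 : IsUnit (algebraMap R R' (ψ t)) := by
      rw [← hχT t]
      exact ht.map χ₀
    exact (isUnit_map_iff ψ t).1 ((isUnit_map_iff (algebraMap R R') _).1 h1)⟩
  letI : Algebra T K := ((algebraMap R K).comp ψ).toAlgebra
  letI : Algebra R₀ K := ((algebraMap R K).comp (algebraMap R₀ R)).toAlgebra
  haveI : IsScalarTower R₀ R K := IsScalarTower.of_algebraMap_eq fun _ => rfl
  haveI : IsScalarTower T R K := IsScalarTower.of_algebraMap_eq fun _ => rfl
  haveI : IsScalarTower R₀ T K := IsScalarTower.of_algebraMap_eq fun r =>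
    congrArg (algebraMap R K) (RingHom.congr_fun hψ r).symm
  have hc := (Groth.Agent.SchFinLib.connectedSpace_iff_idempotent.1 (Groth.Agent.S2814.result T C K)).2
  let j : B₀ →ₐ[R₀] C :=
    { algebraMap B₀ C with
      commutes' := fun r => by
        show algebraMap B₁ C (algebraMap B₀ B₁ (algebraMap R₀ B₀ r)) = algebraMap B₁ C (algebraMap T B₁ (algebraMap R₀ T r))
        congr 1
        exact Algebra.TensorProduct.tmul_one_eq_one_tmul r }
  refine idem_transfer j χ ξ (fun b => ?_) hc z hz
  show χ₀ (algebraMap B₁ C (b ⊗ₜ (1 : T))) = ξ (algebraMap B₀ B b)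
  rw [← RingHom.comp_apply χ₀, hχ]
  show β b * IsScalarTower.toAlgHom R₀ T R' 1 = _
  rw [map_one, mul_one]
  rfl

/-- Idempotents on the fibres of a finitely presented flat algebra with geometrically reduced fibres become trivial
in a local algebra over it. -/
theorem idem_stage {R B R' : Type u} [CommRing R] [HenselianLocalRing R] [IsSepClosed (ResidueField R)] [CommRing B]
    [CommRing R'] [HenselianLocalRing R'] [IsSepClosed (ResidueField R')] [Algebra R B] [Algebra R R']
    [IsLocalHom (algebraMap R R')] [Algebra.FinitePresentation R B] [Module.Flat R B]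
    [hgr : GeometricallyReduced (Spec.map (CommRingCat.ofHom (algebraMap R B)))] (ξ : B →ₐ[R] R') (K : Type u) [Field K]
    [Algebra R K] (z : K ⊗[R] B) (hz : IsIdempotentElem z) :
    Algebra.TensorProduct.map (AlgHom.id R K) ξ z = 0 ∨ Algebra.TensorProduct.map (AlgHom.id R K) ξ z = 1 := by
  obtain ⟨R₀, B₀, _, _, _, _, _, _, _, _, hN, hft, hfl, hgr₀, hPO⟩ := exists_flatRed_descent R B
  haveI := hN; haveI := hft; haveI := hfl; haveI := hgr₀; haveI := hPO
  haveI : IsNoetherianRing B₀ := Algebra.FiniteType.isNoetherianRing R₀ B₀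
  exact idem_stage_noetherian R₀ B₀ ξ K z hz

end EtProperH0Lib
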