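import Groth.Agent.EtProperH0Lib.DescBasic

/-!
# Monomorphisms of sheaves of sets on the big presheaves, and the locus where a section lifts
-/

set_option autoImplicit false
set_option linter.style.haveILetI false
set_option linter.unusedSectionVars false
set_option backward.isDefEq.respectTransparency false
set_option backward.isDefEq.respectTransparency.types false
universe u

open CategoryTheory CategoryTheory.Limits AlgebraicGeometry Opposite EtDescentLib Groth.Agent.EtShLib

namespace EtProperH0Lib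

noncomputable section

attribute [local irreducible] gamma mIso

variable {X : Scheme.{u}}

theorem app_injective_of_mono {G F : EtDesc.Sh X} (α : G ⟶ F) [Mono α] (U : X.Etale) :
    Function.Injective (α.hom.app (op U)) := by
  haveI : Mono α.hom := inferInstanceAs (Mono ((sheafToPresheaf _ _).map α))
  haveI : Mono (α.hom.app (op U)) := NatTrans.mono_iff_mono_app α.hom |>.1 inferInstance (op U)
  exact (CategoryTheory.mono_iff_injective _).1 inferInstance

theorem mono_of_app_injective {G F : EtDesc.Sh X} (α : G ⟶ F) (h : ∀ U, Function.Injective (α.hom.app (op U))) :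
    Mono α := by
  haveI : Mono α.hom := (NatTrans.mono_iff_mono_app α.hom).2 fun U => (CategoryTheory.mono_iff_injective _).2 (h U.unop)
  exact (sheafToPresheaf _ _).mono_of_mono_map (f := α) ‹Mono α.hom›

/-- An étale scheme over the base, as an object over the base. -/
theorem exists_etale_nbhd (F : EtDesc.Sh X) {G : Over X} (hG : IsGeo G.left) {T : X.Etale} (a : G ⟶ (EtFppf.a X).obj T)
    (x : (bigP F).obj (op G)) :
    ∃ (U : X.Etale) (p : U ⟶ T) (b : G ⟶ (EtFppf.a X).obj U) (s : EtDesc.sect F U),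
      b ≫ (EtFppf.a X).map p = a ∧ (bigP F).map b.op (sb F U s) = x := by
  obtain ⟨W, h, hh, b, t, hb, ht⟩ := (hasGerms_bigP F).exists_germ a hG x
  haveI : Etale h.left := hh
  haveI : Etale T.hom := T.prop
  haveI : Etale W.hom := by
    rw [← Over.w h]
    exact inferInstanceAs (Etale (h.left ≫ T.hom))
  let U : X.Etale := Scheme.Etale.mk W.hom
  obtain ⟨s, hs⟩ := (bijective_sb F U).2 t
  exact ⟨U, MorphismProperty.Over.homMk h.left (Over.w h) trivial, b, s, hb, by rw [hs]; exact ht⟩

/-- A geometric point maps to the terminal étale scheme. -/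
def toTop (G : Over X) : G ⟶ (EtFppf.a X).obj (EtCoh.top X) := Over.homMk G.hom (Category.comp_id _)

/-- Monomorphisms stay injective on the big presheaves. -/
theorem bigMap_injective {G F : EtDesc.Sh X} (α : G ⟶ F) [Mono α] (W : Over X) :
    Function.Injective ((bigMap α).app (op W)) := by
  intro x y hxy
  refine (hasGerms_bigP G).ext fun H a hH => ?_
  have h1 : (bigMap α).app (op H) ((bigP G).map a.op x) = (bigMap α).app (op H) ((bigP G).map a.op y) := by
    rw [bigMap_map, bigMap_map, hxy]
  generalize (bigP G).map a.op x = x', (bigP G).map a.op y = y' at h1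
  obtain ⟨U₁, p₁, b₁, s₁, -, hs₁⟩ := exists_etale_nbhd G hH (toTop H) x'
  obtain ⟨U₂, p₂, b₂, s₂, hb₂, hs₂⟩ := exists_etale_nbhd G hH b₁ y'
  rw [← hs₁, ← hs₂] at h1 ⊢
  rw [bigMap_map, bigMap_map, ← sb_app, ← sb_app, ← hb₂, map_comp_apply', ← sb_map] at h1
  obtain ⟨W', h, hh, b, hb, he⟩ := (hasGerms_bigP F).exists_eq b₂ hH _ _ h1
  haveI : Etale h.left := hh
  haveI : Etale U₂.hom := U₂.prop
  haveI : Etale W'.hom := by
    rw [← Over.w h]
    exact inferInstanceAs (Etale (h.left ≫ U₂.hom))
  let V : X.Etale := Scheme.Etale.mk W'.hom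
  let q : V ⟶ U₂ := MorphismProperty.Over.homMk h.left (Over.w h) trivial
  let r : (EtFppf.a X).obj V ⟶ W' := Over.homMk (𝟙 W'.left) (Category.id_comp _)
  let c : H ⟶ (EtFppf.a X).obj V := Over.homMk b.left (Over.w b)
  have hq : (EtFppf.a X).map q = r ≫ h := Over.OverMorphism.ext (Category.id_comp _).symm
  have hc : c ≫ (EtFppf.a X).map q = b₂ := by
    rw [hq, ← hb]
    refine Over.OverMorphism.ext ?_
    show b.left ≫ 𝟙 W'.left ≫ h.left = b.left ≫ h.left
    rw [Category.id_comp]
  replace he := congrArg ((bigP F).map r.op) he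
  rw [← map_comp_apply', ← map_comp_apply', ← hq, ← sb_map, ← sb_map] at he
  have he' := (bijective_sb F V).1 he
  rw [← sheaf_app_map α, ← sheaf_app_map α, ← sheaf_app_map α] at he'
  rw [← hb₂, map_comp_apply', ← sb_map, ← hc, map_comp_apply', map_comp_apply', ← sb_map, ← sb_map,
    show G.obj.map q.op (G.obj.map p₂.op s₁) = G.obj.map q.op s₂ from app_injective_of_mono α V he']

/-- The locus where a section lifts along a map of sheaves. -/
def memLocus {G F : EtDesc.Sh X} (α : G ⟶ F) (T : Over X) (s : (bigP F).obj (op T)) : Set T.left :=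
  {z | ∃ (W : Over X) (h : W ⟶ T) (_ : Etale h.left), z ∈ Set.range h.left.base ∧
    (bigP F).map h.op s ∈ Set.range ((bigMap α).app (op W))}

theorem isOpen_memLocus {G F : EtDesc.Sh X} (α : G ⟶ F) (T : Over X) (s : (bigP F).obj (op T)) :
    IsOpen (memLocus α T s) := by
  rw [isOpen_iff_forall_mem_open]
  rintro z ⟨W, h, hh, hz, he⟩
  exact ⟨Set.range h.left.base, fun z' hz' => ⟨W, h, hh, hz', he⟩, h.left.isOpenMap.isOpen_range, hz⟩

theorem map_mem_of_mem_memLocus {G F : EtDesc.Sh X} {α : G ⟶ F} {T : Over X} {s : (bigP F).obj (op T)} {z : T.left}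
    (hz : z ∈ memLocus α T s) {H : Over X} (a : H ⟶ T) (hH : IsGeo H.left) (ha : ∀ y, a.left y = z) :
    (bigP F).map a.op s ∈ Set.range ((bigMap α).app (op H)) := by
  obtain ⟨W, h, hh, ⟨w, rfl⟩, ⟨t, ht⟩⟩ := hz
  haveI : Etale h.left := hh
  obtain ⟨b, rfl, -⟩ := exists_lift h a hH w ha
  exact ⟨(bigP G).map b.op t, by rw [map_comp_apply', bigMap_map, ht]⟩

theorem mem_memLocus {G F : EtDesc.Sh X} {α : G ⟶ F} {T : Over X} {s : (bigP F).obj (op T)} {H : Over X}
    (a : H ⟶ T) (hH : IsGeo H.left) (h : (bigP F).map a.op s ∈ Set.range ((bigMap α).app (op H))) (y : H.left) :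
    a.left y ∈ memLocus α T s := by
  obtain ⟨t, ht⟩ := h
  obtain ⟨W, p, hp, b, t', hb, ht'⟩ := (hasGerms_bigP G).exists_germ a hH t
  have h1 : (bigP F).map b.op ((bigMap α).app (op W) t') = (bigP F).map b.op ((bigP F).map p.op s) := by
    rw [← bigMap_map, ht', ht, ← map_comp_apply', hb]
  obtain ⟨W', q, hq, b', hb', he⟩ := (hasGerms_bigP F).exists_eq b hH _ _ h1
  haveI : Etale p.left := hp
  haveI : Etale q.left := hq
  refine ⟨W', q ≫ p, by rw [Over.comp_left]; infer_instance, ⟨b'.left y, ?_⟩, (bigP G).map q.op t', ?_⟩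
  · show (q ≫ p).left.base (b'.left.base y) = a.left.base y
    rw [← Scheme.Hom.comp_apply, ← Over.comp_left, ← hb, ← hb', Category.assoc]
  · rw [bigMap_map, he, ← map_comp_apply']

/-- A section lifting at all geometric points lifts. -/
theorem mem_range_of_geo {G F : EtDesc.Sh X} (α : G ⟶ F) [Mono α] {T : Over X} (s : (bigP F).obj (op T))
    (h : ∀ (H : Over X) (a : H ⟶ T), IsGeo H.left → (bigP F).map a.op s ∈ Set.range ((bigMap α).app (op H))) :
    s ∈ Set.range ((bigMap α).app (op T)) := by
  have key : ∀ z : T.left, z ∈ memLocus α T s := fun z => by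
    obtain ⟨H, a, hH, ha⟩ := exists_geo_at T z
    obtain ⟨y⟩ := hH.nonempty
    exact ha y ▸ mem_memLocus a hH (h H a hH) y
  choose W m hm hz t ht using key
  obtain ⟨r, hr⟩ := (hasGerms_bigP G).exists_glue W m hm (fun z => ⟨z, hz z⟩) t fun i j H a b hH hab =>
    bigMap_injective α H (by rw [bigMap_map, bigMap_map, ht, ht, ← map_comp_apply', ← map_comp_apply', hab])
  refine ⟨r, (hasGerms_bigP F).ext fun H a hH => ?_⟩
  obtain ⟨y⟩ := hH.nonempty
  obtain ⟨q, hq⟩ := hz (a.left y)
  haveI : Etale (m (a.left y)).left := hm _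
  obtain ⟨d, hd, -⟩ := exists_lift (m _) a hH q fun y' => by rw [hH.subsingleton y' y]; exact hq.symm
  rw [← hd, map_comp_apply', map_comp_apply', ← bigMap_map, hr, ht]

/-- Liftable sections over an étale scheme come from the small site. -/
theorem exists_sect_of_mem {G F : EtDesc.Sh X} (α : G ⟶ F) (U : X.Etale) (s : EtDesc.sect F U)
    (h : sb F U s ∈ Set.range ((bigMap α).app (op ((EtFppf.a X).obj U)))) : ∃ t, α.hom.app (op U) t = s := by
  obtain ⟨t, ht⟩ := h
  obtain ⟨t', rfl⟩ := (bijective_sb G U).2 t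
  exact ⟨t', (bijective_sb F U).1 ((sb_app α U t').trans ht)⟩

end

end EtProperH0Lib
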