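import Groth.Agent.EtProperH0Lib.DescBasic

/-!
# Descent of global sections along universally submersive morphisms
-/

set_option autoImplicit false
set_option linter.style.haveILetI false
set_option linter.unusedSectionVars false
set_option backward.isDefEq.respectTransparency false
set_option backward.isDefEq.respectTransparency.types false
universe u

open CategoryTheory CategoryTheory.Limits AlgebraicGeometry Opposite EtDescentLib Groth.Agent.EtShLib

namespace EtProperH0Lib

noncomputable section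

attribute [local irreducible] gamma mIso

/-- Sections are determined by their inverse images along a surjection. -/
theorem map_injective_of_surjective {X : Scheme.{u}} {P : (Over X)ᵒᵖ ⥤ Type (u + 1)} (hP : HasGerms P) {T' T : Over X}
    (g : T' ⟶ T) (hg : Function.Surjective g.left.base) : Function.Injective (P.map g.op) := fun s t hst =>
  hP.ext fun G a hG => by
    obtain ⟨y⟩ := hG.nonempty
    obtain ⟨x, hx⟩ := hg (a.left y)
    obtain ⟨G', e, a', hG', he, -⟩ := exists_extension g a hG x fun y' => by rw [hx, hG.subsingleton y' y]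
    apply hP.injective e hG' hG
    rw [← map_comp_apply', ← map_comp_apply', he, map_comp_apply', map_comp_apply', hst]

theorem secPull_injective_of_surjective {X' X : Scheme.{u}} (f : X' ⟶ X) (hf : Function.Surjective f.base)
    (F : EtDesc.Sh X) : Function.Injective (EtDesc.secPull f F) := fun s t hst => by
  refine (bijective_sb F _).1 (map_injective_of_surjective (hasGerms_bigP F) (toBase f) hf ?_)
  rw [← tau_secPull', ← tau_secPull', hst]

theorem surjective_of_univSubmersive {X' X : Scheme.{u}} {f : X' ⟶ X} (hf : EtDesc.IsUnivSubmersive f) :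
    Function.Surjective f.base := fun x => by
  obtain ⟨p, hp⟩ := (hf X (𝟙 X)).1 x
  refine ⟨(pullback.fst f (𝟙 X)).base p, ?_⟩
  rw [← Scheme.Hom.comp_apply, pullback.condition, Category.comp_id]
  exact hp

/-- Equality of two pullbacks of a section, read in the big presheaf. -/
theorem secPull_eq_iff {Z S X : Scheme.{u}} (g₁ g₂ : Z ⟶ S) (a : S ⟶ X) (b : Z ⟶ X) (w₁ : g₁ ≫ a = b)
    (w₂ : g₂ ≫ a = b) (F : EtDesc.Sh X)
    (m₁ m₂ : (Over.map b).obj ((EtFppf.a Z).obj (EtCoh.top Z)) ⟶ (Over.map a).obj ((EtFppf.a S).obj (EtCoh.top S)))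
    (hm₁ : m₁.left = g₁) (hm₂ : m₂.left = g₂) (s : EtDesc.sect ((EtDesc.pullSh a).obj F) (EtCoh.top S)) :
    (EtDesc.pullVia g₁ a b w₁ F ≪≫ (EtDesc.pullVia g₂ a b w₂ F).symm).hom.hom.app (op (EtCoh.top Z))
        (EtDesc.secPull g₁ ((EtDesc.pullSh a).obj F) s) = EtDesc.secPull g₂ ((EtDesc.pullSh a).obj F) s ↔
      (bigP F).map m₁.op (tau a F _ s) = (bigP F).map m₂.op (tau a F _ s) := by
  rw [← tau_pull_secPull g₁ a b w₁ F m₁ hm₁, ← tau_pull_secPull g₂ a b w₂ F m₂ hm₂, (bijective_tau b F _).1.eq_iff]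
  generalize EtDesc.pullVia g₁ a b w₁ F = e₁
  generalize EtDesc.pullVia g₂ a b w₂ F = e₂
  generalize EtDesc.secPull g₁ ((EtDesc.pullSh a).obj F) s = x
  generalize EtDesc.secPull g₂ ((EtDesc.pullSh a).obj F) s = y
  constructor
  · intro h
    rw [← h]
    exact (congrArg (fun k => k.hom.app (op (EtCoh.top Z)) (e₁.hom.hom.app _ x)) e₂.inv_hom_id).symm
  · intro h
    refine (congrArg (e₂.inv.hom.app (op (EtCoh.top Z))) h).trans ?_
    exact congrArg (fun k => k.hom.app (op (EtCoh.top Z)) y) e₂.hom_inv_id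

/-- Pairs of points of the source over the same point of the base give points of the square. -/
theorem exists_pair {X' X : Scheme.{u}} (f : X' ⟶ X) {G : Over X}
    (a c : G ⟶ (Over.map f).obj ((EtFppf.a X').obj (EtCoh.top X')))
    (m₁ m₂ : (Over.map (pullback.fst f f ≫ f)).obj ((EtFppf.a (pullback f f)).obj (EtCoh.top (pullback f f))) ⟶
      (Over.map f).obj ((EtFppf.a X').obj (EtCoh.top X')))
    (hm₁ : m₁.left = pullback.fst f f) (hm₂ : m₂.left = pullback.snd f f)
    (hac : a ≫ toBase f = c ≫ toBase f) : ∃ k, k ≫ m₁ = a ∧ k ≫ m₂ = c := by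
  let l : G.left ⟶ EtDesc.X2 f := pullback.lift a.left c.left (congrArg CommaMorphism.left hac)
  refine ⟨Over.homMk l ?_, Over.OverMorphism.ext ?_, Over.OverMorphism.ext ?_⟩
  · show l ≫ 𝟙 _ ≫ pullback.fst f f ≫ f = G.hom
    rw [Category.id_comp, pullback.lift_fst_assoc, ← Over.w a]
    exact congrArg (a.left ≫ ·) (Category.id_comp f).symm
  · show l ≫ m₁.left = a.left
    rw [hm₁]
    exact pullback.lift_fst _ _ _
  · show l ≫ m₂.left = c.left
    rw [hm₂]
    exact pullback.lift_snd _ _ _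

/-- The inclusion of the square of a morphism, over the base. -/
theorem exists_projs {X' X : Scheme.{u}} (f : X' ⟶ X) :
    ∃ m₁ m₂ : (Over.map (pullback.fst f f ≫ f)).obj ((EtFppf.a (pullback f f)).obj (EtCoh.top (pullback f f))) ⟶
      (Over.map f).obj ((EtFppf.a X').obj (EtCoh.top X')),
      m₁.left = pullback.fst f f ∧ m₂.left = pullback.snd f f ∧ m₁ ≫ toBase f = m₂ ≫ toBase f := by
  refine ⟨Over.homMk (pullback.fst f f) ?_, Over.homMk (pullback.snd f f) ?_, rfl, rfl,
    Over.OverMorphism.ext pullback.condition⟩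
  · show pullback.fst f f ≫ 𝟙 X' ≫ f = 𝟙 _ ≫ pullback.fst f f ≫ f
    rw [Category.id_comp, Category.id_comp]
  · show pullback.snd f f ≫ 𝟙 X' ≫ f = 𝟙 _ ≫ pullback.fst f f ≫ f
    rw [Category.id_comp, Category.id_comp]
    exact pullback.condition.symm

theorem descend_top {X' X : Scheme.{u}} {f : X' ⟶ X} (hf : EtDesc.IsUnivSubmersive f)
    {P : (Over X)ᵒᵖ ⥤ Type (u + 1)} (hP : HasGerms P)
    (t : P.obj (op ((Over.map f).obj ((EtFppf.a X').obj (EtCoh.top X')))))
    (ht : ∀ (G : Over X) (a c : G ⟶ (Over.map f).obj ((EtFppf.a X').obj (EtCoh.top X'))),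
      a ≫ toBase f = c ≫ toBase f → P.map a.op t = P.map c.op t) :
    ∃ s : P.obj (op ((EtFppf.a X).obj (EtCoh.top X))), P.map (toBase f).op s = t := by
  obtain ⟨s, hs, -⟩ := hP.descend (ι := PUnit.{1}) (fun _ => toBase f)
    (fun z => ⟨PUnit.unit, surjective_of_univSubmersive hf z⟩)
    (fun V v _ A hA => (isQuotientMap_of_isPullback hf
      (IsPullback.of_hasPullback f v.left)).2.isOpen_preimage.1 (hA PUnit.unit))
    (fun _ => t) (fun _ _ G a c _ hac => ht G a c hac)
  exact ⟨s, hs PUnit.unit⟩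

/-- The canonical descent datum, spelled out. -/
theorem canIso_eq {X' X : Scheme.{u}} (f : X' ⟶ X) (F : EtDesc.Sh X) : EtDesc.canIso f F =
    EtDesc.pullVia (pullback.fst f f) f (pullback.fst f f ≫ f) rfl F ≪≫
      (EtDesc.pullVia (pullback.snd f f) f (pullback.fst f f ≫ f) pullback.condition.symm F).symm := by
  unfold EtDesc.canIso
  rfl

theorem mem_range_secPull_iff {X' X : Scheme.{u}} {f : X' ⟶ X} (hf : EtDesc.IsUnivSubmersive f) (F : EtDesc.Sh X)
    (s' : EtDesc.sect ((EtDesc.pullSh f).obj F) (EtCoh.top X'))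
    (m₁ m₂ : (Over.map (pullback.fst f f ≫ f)).obj ((EtFppf.a (pullback f f)).obj (EtCoh.top (pullback f f))) ⟶
      (Over.map f).obj ((EtFppf.a X').obj (EtCoh.top X'))) (hm₁ : m₁.left = pullback.fst f f)
    (hm₂ : m₂.left = pullback.snd f f) (hm : m₁ ≫ toBase f = m₂ ≫ toBase f) :
    s' ∈ Set.range (EtDesc.secPull f F) ↔
      (bigP F).map m₁.op (tau f F _ s') = (bigP F).map m₂.op (tau f F _ s') := by
  constructor
  · rintro ⟨s, hs⟩
    rw [← hs, tau_secPull', ← map_comp_apply', ← map_comp_apply', hm]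
  · intro hs'
    obtain ⟨t, ht⟩ := descend_top hf (hasGerms_bigP F) (tau f F _ s') fun G a c hac => by
      obtain ⟨k, h₁, h₂⟩ := exists_pair f a c m₁ m₂ hm₁ hm₂ hac
      rw [← h₁, ← h₂, map_comp_apply', map_comp_apply', hs']
    obtain ⟨s, hs⟩ := (bijective_sb F _).2 t
    exact ⟨s, (bijective_tau f F _).1 ((tau_secPull' f F s).trans (hs.symm ▸ ht))⟩

theorem app_top_iff {X' X : Scheme.{u}} (f : X' ⟶ X) {A B : EtDesc.Sh (pullback f f)} (e : A ≅ B)
    (x : EtDesc.sect A (EtCoh.top (pullback f f))) (y : EtDesc.sect B (EtCoh.top (pullback f f))) :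
    e.hom.hom.app (op (EtCoh.top (EtDesc.X2 f))) x = y ↔ e.hom.hom.app (op (EtCoh.top (pullback f f))) x = y :=
  Iff.rfl

/-- Global sections descend along universally submersive morphisms. -/
theorem secPull_range_of_univSubmersive {X' X : Scheme.{u}} (f : X' ⟶ X) (hf : EtDesc.IsUnivSubmersive f)
    (F : EtDesc.Sh X) :
    Set.range (EtDesc.secPull f F) =
      {s' | (EtDesc.canIso f F).hom.hom.app (op (EtCoh.top (EtDesc.X2 f)))
          (EtDesc.secPull (pullback.fst f f) ((EtDesc.pullSh f).obj F) s') =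
        EtDesc.secPull (pullback.snd f f) ((EtDesc.pullSh f).obj F) s'} := by
  obtain ⟨m₁, m₂, hm₁, hm₂, hm⟩ := exists_projs f
  refine Set.ext fun s' => ?_
  refine Iff.trans ?_ (app_top_iff f (EtDesc.canIso f F) _ _).symm
  rw [canIso_eq, secPull_eq_iff (pullback.fst f f) (pullback.snd f f) f (pullback.fst f f ≫ f) rfl pullback.condition.symm F
      m₁ m₂ hm₁ hm₂ s']
  exact mem_range_secPull_iff hf F s' m₁ m₂ hm₁ hm₂ hm

end

end EtProperH0Lib
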