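import Groth.Agent.EtProperH0Lib.UnitIso
import Mathlib.AlgebraicGeometry.Sites.ConstantSheaf
import Mathlib.AlgebraicGeometry.Sites.Proetale

/-!
# 0-acyclic morphisms preserve connectedness
-/

set_option autoImplicit false
set_option linter.style.haveILetI false
set_option linter.unusedSectionVars false
set_option backward.isDefEq.respectTransparency false
set_option backward.isDefEq.respectTransparency.types false
universe u

open CategoryTheory CategoryTheory.Limits AlgebraicGeometry Opposite EtDescentLib Groth.Agent.EtShLib

namespace EtProperH0Lib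

noncomputable section

/-- Locally constant truth values on the big étale site. -/
def boolSh (V : Scheme.{u}) : Sheaf (QuotSh.J Scheme.etalePrecoverage V) (Type (u + 1)) :=
  ((Scheme.etalePrecoverage.toGrothendieck).overPullback (Type (u + 1)) V).obj
    ⟨continuousMapPresheaf (ULift.{u + 1} Bool),
      Presheaf.IsSheaf.of_le ((Precoverage.toGrothendieck_mono
        (le_trans Scheme.etalePrecoverage_le_proetalePrecoverage Scheme.proetalePrecoverage_le_fpqcPrecoverage)))
        (isSheaf_fpqcTopology_continuousMapPresheaf _)⟩

/-- If the units of a morphism on sheaves of sets are isomorphisms, the source is connected if the target is. -/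
theorem connectedSpace_of_isIso_unit {Z V : Scheme.{u}} (p : Z ⟶ V) [ConnectedSpace ↥V]
    (h : ∀ F : EtDesc.Sh V, IsIso ((EtDesc.adjSh p).unit.app F)) : ConnectedSpace ↥Z := by
  classical
  let A := Type (u + 1)
  let F : EtDesc.Sh V := (pRes A V).obj (boolSh V)
  haveI := h F
  let P := ((pPull A V).obj F).obj
  let U : V.Etale := EtCoh.top V
  let i := pullback.fst U.hom p
  let T : Over V := (EtFppf.a V).obj U
  let W : Over V := Over.mk (i ≫ U.hom)
  let m : W ⟶ T := Over.homMk i rfl
  have hb : Function.Bijective (P.map m.op) := by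
    let c := (Over.mapPullbackAdj p).counit.app T
    let e : (Over.map p).obj ((Over.pullback p).obj T) ≅ W :=
      Over.isoMk (Iso.refl _) (by
        show 𝟙 _ ≫ pullback.fst U.hom p ≫ U.hom = pullback.snd U.hom p ≫ p
        rw [Category.id_comp, pullback.condition])
    have he : e.hom ≫ m = c := by
      refine Over.OverMorphism.ext ?_
      show 𝟙 _ ≫ pullback.fst U.hom p = c.left
      rw [Category.id_comp]
      simp [c, T]
      rfl
    haveI : IsIso ((adjS A p).unit.app F) := ‹IsIso ((EtDesc.adjSh p).unit.app F)›
    haveI : IsIso (((adjS A p).unit.app F).hom.app (op U)) :=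
      inferInstanceAs (IsIso ((sheafToPresheaf _ _ ⋙ (evaluation _ _).obj (op U)).map ((adjS A p).unit.app F)))
    haveI : IsIso (((pAdj A V).unit.app F).hom.app (op U)) :=
      (isIso_iff_bijective _).2 (unit_app_bijective F U)
    haveI : IsIso ((gamma p F).hom.app (op ((EtCoh.bc p).obj U))) :=
      inferInstanceAs (IsIso ((sheafToPresheaf _ _ ⋙ (evaluation _ _).obj (op ((EtCoh.bc p).obj U))).map (gamma p F)))
    haveI : IsIso (((pAdj A V).unit.app F).hom.app (op U) ≫ P.map c.op) := by
      rw [← gamma_app]
      infer_instance
    haveI : IsIso (P.map c.op) := IsIso.of_isIso_comp_left (((pAdj A V).unit.app F).hom.app (op U)) _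
    haveI : IsIso (P.map m.op ≫ P.map e.hom.op) := by
      rw [← P.map_comp, ← op_comp, he]
      infer_instance
    haveI : IsIso (P.map m.op) := IsIso.of_isIso_comp_right _ (P.map e.hom.op)
    exact (isIso_iff_bijective _).1 inferInstance
  have hP : HasGerms P := hasGerms_type V F
  -- evaluation of sections of the pullback as truth values
  let ε : P ⟶ (boolSh V).obj := ((pAdj A V).counit.app (boolSh V)).hom
  let η : F.obj.obj (op U) → P.obj (op T) := ((pAdj A V).unit.app F).hom.app (op U)
  have hεη : ∀ c, ε.app (op T) (η c) = c := fun c => by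
    have h1 := congrArg (fun k => k.hom.app (op U)) ((pAdj A V).right_triangle_components (boolSh V))
    exact ConcreteCategory.congr_hom h1 c
  let cst : Bool → F.obj.obj (op U) := fun b => ContinuousMap.const _ (ULift.up b)
  obtain ⟨v₀⟩ := (inferInstance : ConnectedSpace ↥V).toNonempty
  -- no partition of the source separates the two constants
  have key : ∀ C : Set W.left, IsClopen C → C = ∅ ∨ C = Set.univ := by
    intro C hC
    let O : Bool → W.left.Opens := fun b => if b then ⟨C, hC.2⟩ else ⟨Cᶜ, hC.1.isOpen_compl⟩
    have hmem : ∀ (b : Bool) (w : W.left), w ∈ O b ↔ (w ∈ C ↔ b = true) := by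
      intro b w
      cases b <;> simp [O] <;> rfl
    obtain ⟨σ, hσ⟩ := hP.exists_glue (T := W) (fun b : ULift.{u} Bool => Over.mk ((O b.down).ι ≫ W.hom))
      (fun b => Over.homMk (O b.down).ι rfl) (fun b => inferInstanceAs (Etale (O b.down).ι))
      (fun z => ⟨ULift.up (decide (z ∈ C)), ⟨z, (hmem _ z).2 (by simp)⟩, rfl⟩)
      (fun b => P.map (Over.homMk ((O b.down).ι ≫ i) (Category.assoc _ _ _) :
        Over.mk ((O b.down).ι ≫ W.hom) ⟶ T).op (η (cst b.down)))
      (fun b b' G a a' hG he => by
        obtain ⟨y⟩ := hG.nonempty
        have h1 : ((O b.down).ι (a.left y)) = (O b'.down).ι (a'.left y) := by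
          exact congrArg (fun k => k.left y) he
        have h2 := (hmem b.down _).1 (a.left y).2
        have h3 := (hmem b'.down _).1 (a'.left y).2
        have hbb : b = b' := by
          refine ULift.ext _ _ ?_
          have h1' : (a.left y).1 = (a'.left y).1 := h1
          rw [← h1'] at h3
          cases hb : b.down <;> cases hb' : b'.down <;> simp_all
        subst hbb
        have haa : a = a' := by
          refine Over.OverMorphism.ext ?_
          rw [← cancel_mono (O b.down).ι]
          exact congrArg CommaMorphism.left he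
        rw [haa])
    obtain ⟨s, hs⟩ := hb.2 σ
    let f : C(↥T.left, ULift.{u + 1} Bool) := ε.app (op T) s
    have hf : ∀ w : W.left, f (i w) = ULift.up (decide (w ∈ C)) := by
      intro w
      have hw : w ∈ O (decide (w ∈ C)) := (hmem _ w).2 (by simp)
      have h1 := hσ (ULift.up (decide (w ∈ C)))
      rw [← hs, ← FunctorToTypes.map_comp_apply, ← op_comp] at h1
      have h2 := congrArg (fun x => ε.app _ x) h1
      simp only [NatTrans.naturality_apply, hεη] at h2
      exact congrArg (fun k : C(↥(O (decide (w ∈ C))).toScheme, ULift.{u + 1} Bool) => k ⟨w, hw⟩) h2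
    haveI : ConnectedSpace ↥T.left := ‹ConnectedSpace ↥V›
    obtain ⟨c, hc⟩ : ∃ c, ∀ z, f z = c :=
      ⟨f v₀, fun z => (IsLocallyConstant.iff_continuous _).2 f.continuous |>.apply_eq_of_preconnectedSpace z v₀⟩
    rcases c with ⟨_ | _⟩
    · left
      refine Set.eq_empty_iff_forall_notMem.2 fun w hw => ?_
      have := (hf w).symm.trans (hc _)
      simp [hw] at this
    · right
      refine Set.eq_univ_iff_forall.2 fun w => ?_
      have := (hf w).symm.trans (hc _)
      by_contra hw
      simp [hw] at this
  haveI : IsIso (pullback.snd U.hom p) := by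
    haveI : IsIso U.hom := inferInstanceAs (IsIso (𝟙 V))
    infer_instance
  have hne : Nonempty W.left := by
    by_contra hne
    haveI : IsEmpty W.left := not_nonempty_iff.1 hne
    have hsub : ∀ s t : P.obj (op W), s = t := fun s t => hP.ext fun G a hG =>
      (IsEmpty.false (a.left hG.nonempty.some)).elim
    have h1 : η (cst true) = η (cst false) := hb.1 (hsub _ _)
    have h2 := congrArg (fun x => ε.app (op T) x) h1
    simp only [hεη] at h2
    exact Bool.noConfusion (congrArg ULift.down (congrArg (fun k : C(↥V, ULift.{u + 1} Bool) => k v₀) h2))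
  haveI : ConnectedSpace ↥W.left :=
    connectedSpace_iff_clopen.2 ⟨hne, key⟩
  exact (pullback.snd U.hom p).homeomorph.connectedSpace_iff.mp ‹ConnectedSpace ↥W.left›

end

end EtProperH0Lib
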