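import Groth.Agent.EtProperH0Lib.LocalCrit
import Groth.Agent.EtProperH0Lib.ZeroAcycConn
import Groth.Agent.EtProperH0Lib.DescSec
import Groth.Agent.EtProperH0Lib.DescMono

/-!
# Pullback of global sections and degree-zero base change
-/

set_option autoImplicit false
set_option linter.style.haveILetI false
set_option linter.unusedSectionVars false
set_option backward.isDefEq.respectTransparency false
set_option backward.isDefEq.respectTransparency.types false
universe u

open CategoryTheory CategoryTheory.Limits AlgebraicGeometry Opposite EtDescentLib Groth.Agent.EtShLib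

namespace EtProperH0Lib

noncomputable section

attribute [local irreducible] gamma mIso

theorem bij_map {X : Scheme.{u}} (P : (Over X)ᵒᵖ ⥤ Type (u + 1)) {W W' : Over X} (k : W' ⟶ W) [IsIso k] :
    Function.Bijective (P.map k.op) :=
  (isIso_iff_bijective _).1 inferInstance

/-- Two locally constant functions separated on a point. -/
theorem exists_sheaf_two_sections {X : Scheme.{u}} (z : X) :
    ∃ (H : EtDesc.Sh X) (s t : EtDesc.sect H (EtCoh.top X)), s ≠ t ∧
      ∀ (E : X.Opens) (U : X.Etale) (j : U ⟶ EtCoh.top X), z ∉ E → (∀ q : U.left, U.hom q ∈ E) →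
        H.obj.map j.op s = H.obj.map j.op t := by
  let ι := X.fromSpecResidueField z
  let V := Spec (X.residueField z)
  let B : EtDesc.Sh V := (pRes (Type (u + 1)) V).obj (boolSh V)
  let H : EtDesc.Sh X := (EtDesc.pushSh ι).obj B
  let cst : Bool → EtDesc.sect H (EtCoh.top X) := fun b => ContinuousMap.const _ (ULift.up b)
  refine ⟨H, cst true, cst false, fun h => ?_, fun E U j hz hU => ?_⟩
  · haveI : IsIso (pullback.snd (EtCoh.top X).hom ι) := by
      haveI : IsIso (EtCoh.top X).hom := inferInstanceAs (IsIso (𝟙 X))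
      infer_instance
    have v : V := IsLocalRing.closedPoint (X.residueField z)
    have w : ((EtCoh.bc ι).obj (EtCoh.top X)).left := (inv (pullback.snd (EtCoh.top X).hom ι)).base v
    have h2 := congrArg (fun k : C(↥((EtCoh.bc ι).obj (EtCoh.top X)).left, ULift.{u + 1} Bool) => k w) h
    exact Bool.noConfusion (congrArg ULift.down h2)
  · have hemp : IsEmpty ↥((EtCoh.bc ι).obj U).left := ⟨fun (q : ↥(pullback U.hom ι)) => by
      have h1 : U.hom ((pullback.fst U.hom ι) q) = ι ((pullback.snd U.hom ι) q) := by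
        rw [← Scheme.Hom.comp_apply, ← Scheme.Hom.comp_apply, pullback.condition]
        rfl
      have h2 := hU ((pullback.fst U.hom ι) q)
      rw [h1, show ι ((pullback.snd U.hom ι) q) = z from Scheme.fromSpecResidueField_apply _ _] at h2
      exact hz h2⟩
    exact ContinuousMap.ext fun q => hemp.elim q

theorem range_subset_secPull_memLocus {X Y : Scheme.{u}} (h : Y ⟶ X) {F G : EtDesc.Sh X} (u : F ⟶ G)
    (ξ : EtDesc.sect ((EtDesc.pullSh h).obj F) (EtCoh.top Y)) (s₀ : EtDesc.sect G (EtCoh.top X))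
    (hξ : EtDesc.secPull h G s₀ = ((EtDesc.pullSh h).map u).hom.app (op (EtCoh.top Y)) ξ) (y : Y) :
    h y ∈ memLocus u ((EtFppf.a X).obj (EtCoh.top X)) (sb G _ s₀) := by
  have h' := congrArg (tau h G _) hξ
  rw [tau_pullMap, tau_secPull'] at h'
  obtain ⟨K, a, hK, ha⟩ := exists_geo_at ((Over.map h).obj ((EtFppf.a Y).obj (EtCoh.top Y))) y
  obtain ⟨y₀⟩ := hK.nonempty
  have hm := mem_memLocus (α := u) (s := sb G _ s₀) (a ≫ toBase h) hK
    ⟨(bigP F).map a.op (tau h F _ ξ), by rw [map_comp_apply', bigMap_map, ← h']⟩ y₀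
  exact Eq.mp (congrArg (fun v => h v ∈ memLocus u ((EtFppf.a X).obj (EtCoh.top X)) (sb G _ s₀)) (ha y₀)) hm

/-- A section lifting over a morphism detecting sections lifts. -/
theorem mem_range_secPull_of_mono {X Y : Scheme.{u}} (h : Y ⟶ X)
    (hinj : ∀ F : EtDesc.Sh X, Function.Injective (EtDesc.secPull h F)) {F G : EtDesc.Sh X} (u : F ⟶ G) [Mono u]
    (ξ : EtDesc.sect ((EtDesc.pullSh h).obj F) (EtCoh.top Y))
    (hξ : ((EtDesc.pullSh h).map u).hom.app (op (EtCoh.top Y)) ξ ∈ Set.range (EtDesc.secPull h G)) :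
    ξ ∈ Set.range (EtDesc.secPull h F) := by
  obtain ⟨s₀, hs₀⟩ := hξ
  let T := (EtFppf.a X).obj (EtCoh.top X)
  let E : X.Opens := ⟨memLocus u T (sb G _ s₀), isOpen_memLocus u T _⟩
  have hE : ∀ z : X, z ∈ E := by
    by_contra hne
    push_neg at hne
    obtain ⟨z, hz⟩ := hne
    obtain ⟨H, s, t, hst, heq⟩ := exists_sheaf_two_sections z
    refine hst (hinj H ((bijective_tau h H _).1 ?_))
    rw [tau_secPull', tau_secPull']
    refine (hasGerms_bigP H).ext fun K a hK => ?_
    let U : X.Etale := Scheme.Etale.mk E.ι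
    let j : U ⟶ EtCoh.top X := MorphismProperty.Over.homMk E.ι (Category.comp_id _) trivial
    haveI : Etale ((EtFppf.a X).map j).left := inferInstanceAs (Etale E.ι)
    obtain ⟨y₀⟩ := hK.nonempty
    obtain ⟨b, hb, -⟩ := exists_lift ((EtFppf.a X).map j) (a ≫ toBase h) hK
      ⟨h (a.left y₀), range_subset_secPull_memLocus h u ξ s₀ hs₀ _⟩ fun y' => by
        rw [hK.subsingleton y' y₀]
        rfl
    rw [← map_comp_apply', ← map_comp_apply', ← hb, map_comp_apply', map_comp_apply', ← sb_map, ← sb_map,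
      heq E U j hz fun q => q.2]
  have hmem : sb G _ s₀ ∈ Set.range ((bigMap u).app (op T)) := mem_range_of_geo u _ fun K a hK => by
    obtain ⟨y₀⟩ := hK.nonempty
    exact map_mem_of_mem_memLocus (hE (a.left y₀)) a hK fun y' => by rw [hK.subsingleton y' y₀]
  obtain ⟨f₀, hf₀⟩ := exists_sect_of_mem u _ _ hmem
  refine ⟨f₀, (bijective_tau h F _).1 (bigMap_injective u _ ?_)⟩
  rw [← tau_pullMap, ← tau_pullMap, ← hs₀, tau_pullMap, tau_secPull', tau_secPull', bigMap_map, ← sb_app, hf₀]

variable {X Y Xb Yb : Scheme.{u}} {h : Y ⟶ X} {p : Xb ⟶ X} {hb : Yb ⟶ Xb} {pY : Yb ⟶ Y}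

/-- Injectivity of pullback descends along surjections. -/
theorem secPull_injective_descend (w : hb ≫ p = pY ≫ h) (hp : Function.Surjective p.base)
    (hinj : ∀ Fb : EtDesc.Sh Xb, Function.Injective (EtDesc.secPull hb Fb)) (F : EtDesc.Sh X) :
    Function.Injective (EtDesc.secPull h F) := fun s t hst => by
  have hst' := congrArg (tau h F _) hst
  rw [tau_secPull', tau_secPull'] at hst'
  refine secPull_injective_of_surjective p hp F (hinj _ ?_)
  let e := EtDesc.pullVia hb p (hb ≫ p) rfl F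
  let b := hb ≫ p
  let m : (Over.map b).obj ((EtFppf.a Yb).obj (EtCoh.top Yb)) ⟶ (Over.map p).obj ((EtFppf.a Xb).obj (EtCoh.top Xb)) :=
    Over.homMk hb (by
      show hb ≫ 𝟙 Xb ≫ p = 𝟙 Yb ≫ b
      rw [Category.id_comp, Category.id_comp])
  let m' : (Over.map b).obj ((EtFppf.a Yb).obj (EtCoh.top Yb)) ⟶ (Over.map h).obj ((EtFppf.a Y).obj (EtCoh.top Y)) :=
    Over.homMk pY (by
      show pY ≫ 𝟙 Y ≫ h = 𝟙 Yb ≫ b
      rw [Category.id_comp, Category.id_comp]
      exact w.symm)
  have hm : m ≫ toBase p = m' ≫ toBase h := Over.OverMorphism.ext w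
  refine (Function.LeftInverse.injective (g := e.inv.hom.app (op (EtCoh.top Yb)))
    (f := e.hom.hom.app (op (EtCoh.top Yb))) fun x =>
      congrArg (fun k => k.hom.app (op (EtCoh.top Yb)) x) e.hom_inv_id) ?_
  refine (bijective_tau b F _).1 ?_
  rw [tau_pull_secPull hb p b rfl F m rfl, tau_pull_secPull hb p b rfl F m rfl, tau_secPull', tau_secPull',
    ← map_comp_apply', ← map_comp_apply', hm, map_comp_apply', map_comp_apply', hst']

/-- A monomorphic base change morphism gives injectivity of the comparison of direct images. -/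
theorem phi_injective_of_mono (sq : IsPullback hb pY p h) (Fb : EtDesc.Sh Xb)
    (hm : Mono (EtBC.baseChange0Sh p h pY hb sq.w Fb)) (V : Y.Etale) :
    Function.Injective ((phi p Fb).hom.app (op ((Over.map h).obj ((EtFppf.a Y).obj V)))) := by
  let A := Type (u + 1)
  let Φ := (BigSite.pullBig Scheme.etalePrecoverage h A ⋙ pRes A Y).map (phi p Fb)
  haveI : Mono (bcMor sq Fb) := by
    rw [bcMor_eq_sh sq Fb]
    exact hm
  haveI : Mono (gamma h ((pushS A p).obj Fb) ≫ Φ ≫ (kappaIso sq).hom.app _) := by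
    rw [← bcMor_gamma]
    infer_instance
  haveI : Mono (Φ ≫ (kappaIso sq).hom.app ((pPull A Xb).obj Fb)) := by
    have e : Φ ≫ (kappaIso sq).hom.app ((pPull A Xb).obj Fb) =
        inv (gamma h ((pushS A p).obj Fb)) ≫ gamma h ((pushS A p).obj Fb) ≫ Φ ≫ (kappaIso sq).hom.app _ :=
      (IsIso.inv_hom_id_assoc _ _).symm
    rw [e]
    infer_instance
  haveI : Mono Φ := mono_of_mono Φ ((kappaIso sq).hom.app ((pPull A Xb).obj Fb))
  exact app_injective_of_mono Φ V

theorem phi_bijective_of_isIso (sq : IsPullback hb pY p h) (Fb : EtDesc.Sh Xb)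
    (hm : IsIso (EtBC.baseChange0Sh p h pY hb sq.w Fb)) (V : Y.Etale) :
    Function.Bijective ((phi p Fb).hom.app (op ((Over.map h).obj ((EtFppf.a Y).obj V)))) :=
  (isIso_bcMor_iff sq Fb).1 (by rw [bcMor_eq_sh sq Fb]; exact hm) V

/-- The comparison of the base change of the source with the pullback of the base change. -/
theorem exists_pullObj (sq : IsPullback hb pY p h) :
    ∃ k : (Over.map hb).obj ((EtFppf.a Yb).obj (EtCoh.top Yb)) ⟶
      (Over.pullback p).obj ((Over.map h).obj ((EtFppf.a Y).obj (EtCoh.top Y))), IsIso k := by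
  let W₀ := (Over.map h).obj ((EtFppf.a Y).obj (EtCoh.top Y))
  have hW : W₀.hom = h := Category.id_comp h
  have sq' : IsPullback pY hb W₀.hom p := hW ▸ sq.flip
  refine ⟨(Over.isoMk sq'.isoPullback ?_).hom, inferInstance⟩
  show sq'.isoPullback.hom ≫ pullback.snd W₀.hom p = 𝟙 Yb ≫ hb
  rw [IsPullback.isoPullback_hom_snd, Category.id_comp]

/-- The comparison of direct images on pullbacks of global sections. -/
theorem phi_toBase (Fb : EtDesc.Sh Xb) (s : EtDesc.sect ((EtDesc.pushSh p).obj Fb) (EtCoh.top X))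
    (k : (Over.map hb).obj ((EtFppf.a Yb).obj (EtCoh.top Yb)) ⟶
      (Over.pullback p).obj ((Over.map h).obj ((EtFppf.a Y).obj (EtCoh.top Y)))) :
    (bigP Fb).map k.op ((phi p Fb).hom.app (op ((Over.map h).obj ((EtFppf.a Y).obj (EtCoh.top Y))))
        ((bigP ((EtDesc.pushSh p).obj Fb)).map (toBase h).op (sb _ _ s))) =
      (bigP Fb).map (toBase hb).op (sb Fb _ (Fb.obj.map (EtCore.bcTopIso p).inv.op s)) := by
  have h1 : (phi p Fb).hom.app (op ((Over.map h).obj ((EtFppf.a Y).obj (EtCoh.top Y))))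
      ((bigP ((EtDesc.pushSh p).obj Fb)).map (toBase h).op (sb _ _ s)) =
      (bigP Fb).map ((Over.pullback p).map (toBase h)).op
        (sb Fb ((EtCoh.bc p).obj (EtCoh.top X)) s) := by
    refine (NatTrans.naturality_apply (phi p Fb).hom (toBase h).op _).trans ?_
    exact congrArg _ (phi_app_apply p Fb (EtCoh.top X) s)
  have hs : s = Fb.obj.map (EtCore.bcTopIso p).hom.op (Fb.obj.map (EtCore.bcTopIso p).inv.op s) := by
    rw [← FunctorToTypes.map_comp_apply, ← op_comp, Iso.hom_inv_id, op_id, FunctorToTypes.map_id_apply]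
  rw [h1]
  conv_lhs => rw [hs, sb_map]
  refine (map_comp_apply' (P := bigP Fb) _ _ _).symm.trans ?_
  refine (map_comp_apply' (P := bigP Fb) _ _ _).symm.trans ?_
  exact congrArg (fun m => (bigP Fb).map (Quiver.Hom.op m) _) ((Over.mkIdTerminal (X := Xb)).hom_ext _ _)

theorem secPull_injective_bc (sq : IsPullback hb pY p h)
    (hinj : ∀ F : EtDesc.Sh X, Function.Injective (EtDesc.secPull h F)) (Fb : EtDesc.Sh Xb)
    (hm : Mono (EtBC.baseChange0Sh p h pY hb sq.w Fb)) : Function.Injective (EtDesc.secPull hb Fb) := by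
  intro s t hst
  obtain ⟨k, hk⟩ := exists_pullObj sq
  have hst' := congrArg (tau hb Fb _) hst
  rw [tau_secPull', tau_secPull'] at hst'
  let G := (EtDesc.pushSh p).obj Fb
  let s₁ : EtDesc.sect G (EtCoh.top X) := Fb.obj.map (EtCore.bcTopIso p).hom.op s
  let t₁ : EtDesc.sect G (EtCoh.top X) := Fb.obj.map (EtCore.bcTopIso p).hom.op t
  have hb' : ∀ r : EtDesc.sect Fb (EtCoh.top Xb),
      Fb.obj.map (EtCore.bcTopIso p).inv.op (Fb.obj.map (EtCore.bcTopIso p).hom.op r) = r := fun r => by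
    rw [← FunctorToTypes.map_comp_apply, ← op_comp, Iso.inv_hom_id, op_id, FunctorToTypes.map_id_apply]
  have h1 : s₁ = t₁ := hinj G ((bijective_tau h G _).1 (by
    rw [tau_secPull', tau_secPull']
    refine phi_injective_of_mono sq Fb hm (EtCoh.top Y) ((bij_map (bigP Fb) k).1 ?_)
    rw [phi_toBase, phi_toBase, hb', hb', hst']))
  rw [← hb' s, ← hb' t]
  exact congrArg _ h1

theorem secPull_bijective_bc (sq : IsPullback hb pY p h)
    (hbij : ∀ F : EtDesc.Sh X, Function.Bijective (EtDesc.secPull h F)) (Fb : EtDesc.Sh Xb)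
    (hm : IsIso (EtBC.baseChange0Sh p h pY hb sq.w Fb)) : Function.Bijective (EtDesc.secPull hb Fb) := by
  refine ⟨secPull_injective_bc sq (fun F => (hbij F).1) Fb inferInstance, fun ξ => ?_⟩
  obtain ⟨k, hk⟩ := exists_pullObj sq
  obtain ⟨y, hy⟩ := (bij_map (bigP Fb) k).2 (tau hb Fb _ ξ)
  obtain ⟨x, hx⟩ := (phi_bijective_of_isIso sq Fb hm (EtCoh.top Y)).2 y
  let G := (EtDesc.pushSh p).obj Fb
  obtain ⟨x', hx'⟩ := (bijective_tau h G _).2 x
  obtain ⟨s, hs⟩ := (hbij G).2 x'
  refine ⟨Fb.obj.map (EtCore.bcTopIso p).inv.op s, (bijective_tau hb Fb _).1 ?_⟩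
  rw [tau_secPull', ← phi_toBase (h := h) Fb s k, ← tau_secPull', hs, hx', hx, hy]

theorem mono_unit_of_surjective (hp : Function.Surjective p.base) (F : EtDesc.Sh X) :
    Mono ((EtDesc.adjSh p).unit.app F) := by
  refine mono_of_app_injective _ fun U s t hst => (bijective_sb F U).1 ?_
  have h' := congrArg (tau p F _) hst
  rw [tau_adjUnit, tau_adjUnit] at h'
  refine map_injective_of_surjective (hasGerms_bigP F) (gOf p U) ?_ h'
  rw [gOf_left]
  haveI : Surjective p := ⟨hp⟩
  exact (pullback.fst U.hom p).surjective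

/-- Bijectivity of pullback descends along surjections. -/
theorem secPull_bijective_descend (sq : IsPullback hb pY p h) (hp : Function.Surjective p.base)
    (hbij : ∀ Fb : EtDesc.Sh Xb, Function.Bijective (EtDesc.secPull hb Fb))
    (hm : ∀ Fb : EtDesc.Sh Xb, Mono (EtBC.baseChange0Sh p h pY hb sq.w Fb)) (F : EtDesc.Sh X) :
    Function.Bijective (EtDesc.secPull h F) := by
  have hinj := secPull_injective_descend sq.w hp fun Fb => (hbij Fb).1
  refine ⟨hinj F, fun ξ => ?_⟩
  let Fb := (EtDesc.pullSh p).obj F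
  let G := (EtDesc.pushSh p).obj Fb
  let u : F ⟶ G := (EtDesc.adjSh p).unit.app F
  haveI : Mono u := mono_unit_of_surjective hp F
  refine mem_range_secPull_of_mono h hinj u ξ ?_
  obtain ⟨k, hk⟩ := exists_pullObj sq
  let x := tau h G _ (((EtDesc.pullSh h).map u).hom.app (op (EtCoh.top Y)) ξ)
  obtain ⟨ξb, hξb⟩ := (bijective_tau hb Fb _).2
    ((bigP Fb).map k.op ((phi p Fb).hom.app (op ((Over.map h).obj ((EtFppf.a Y).obj (EtCoh.top Y)))) x))
  obtain ⟨sb', hsb⟩ := (hbij Fb).2 ξb
  refine ⟨Fb.obj.map (EtCore.bcTopIso p).hom.op sb', (bijective_tau h G _).1 ?_⟩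
  rw [tau_secPull']
  refine phi_injective_of_mono sq Fb (hm Fb) (EtCoh.top Y) ((bij_map (bigP Fb) k).1 ?_)
  rw [phi_toBase, ← FunctorToTypes.map_comp_apply, ← op_comp, Iso.inv_hom_id, op_id, FunctorToTypes.map_id_apply,
    ← tau_secPull', hsb, hξb]

end

end EtProperH0Lib
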