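import Groth.Agent.EtProperH0Lib.SecBig

/-!
# Descent for sheaves of sets along universally submersive morphisms: preliminaries
-/

set_option autoImplicit false
set_option linter.style.haveILetI false
set_option linter.unusedSectionVars false
set_option backward.isDefEq.respectTransparency false
set_option backward.isDefEq.respectTransparency.types false
universe u

open CategoryTheory CategoryTheory.Limits AlgebraicGeometry Opposite EtDescentLib Groth.Agent.EtShLib

namespace EtProperH0Lib

noncomputable section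

attribute [local irreducible] gamma mIso

variable {X : Scheme.{u}}

/-- Sections over an étale scheme as sections of the big presheaf. -/
def sb (F : EtDesc.Sh X) (U : X.Etale) (s : EtDesc.sect F U) : (bigP F).obj (op ((EtFppf.a X).obj U)) :=
  ((pAdj (Type (u + 1)) X).unit.app F).hom.app (op U) s

theorem bijective_sb (F : EtDesc.Sh X) (U : X.Etale) : Function.Bijective (sb F U) :=
  unit_app_bijective F U

theorem sb_map (F : EtDesc.Sh X) {U V : X.Etale} (k : V ⟶ U) (s : EtDesc.sect F U) :
    sb F V (F.obj.map k.op s) = (bigP F).map ((EtFppf.a X).map k).op (sb F U s) :=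
  NatTrans.naturality_apply ((pAdj (Type (u + 1)) X).unit.app F).hom k.op s

/-- A map of sheaves on the big presheaves. -/
def bigMap {G F : EtDesc.Sh X} (α : G ⟶ F) : bigP G ⟶ bigP F := ((pPull (Type (u + 1)) X).map α).hom

theorem bigMap_map {G F : EtDesc.Sh X} (α : G ⟶ F) {W W' : Over X} (k : W' ⟶ W) (t : (bigP G).obj (op W)) :
    (bigMap α).app (op W') ((bigP G).map k.op t) = (bigP F).map k.op ((bigMap α).app (op W) t) :=
  NatTrans.naturality_apply (bigMap α) k.op t

theorem sb_app {G F : EtDesc.Sh X} (α : G ⟶ F) (U : X.Etale) (s : EtDesc.sect G U) :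
    sb F U (α.hom.app (op U) s) = (bigMap α).app (op ((EtFppf.a X).obj U)) (sb G U s) :=
  congrArg (fun k => k.hom.app (op U) s) ((pAdj (Type (u + 1)) X).unit.naturality α)

theorem mu_bigMap {Z : Scheme.{u}} (a : Z ⟶ X) {G F : EtDesc.Sh X} (β : G ⟶ F) (W : Over Z)
    (t : (bigP ((EtDesc.pullSh a).obj G)).obj (op W)) :
    mu a F W ((bigMap ((EtDesc.pullSh a).map β)).app (op W) t) =
      (bigMap β).app (op ((Over.map a).obj W)) (mu a G W t) :=
  congrArg (fun k => k.hom.app (op W) t) ((mIso (Type (u + 1)) a).inv.naturality β)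

theorem tau_app {Z : Scheme.{u}} (a : Z ⟶ X) {F : EtDesc.Sh X} {G' : EtDesc.Sh Z}
    (α : G' ⟶ (EtDesc.pullSh a).obj F) (U : Z.Etale) (x : EtDesc.sect G' U) :
    tau a F U (α.hom.app (op U) x) = mu a F _ ((bigMap α).app (op ((EtFppf.a Z).obj U)) (sb G' U x)) :=
  (mu_unit a F U _).symm.trans (congrArg (mu a F _) (sb_app α U x))

theorem tau_pullMap {Z : Scheme.{u}} (a : Z ⟶ X) {G F : EtDesc.Sh X} (β : G ⟶ F) (U : Z.Etale)
    (x : EtDesc.sect ((EtDesc.pullSh a).obj G) U) :
    tau a F U (((EtDesc.pullSh a).map β).hom.app (op U) x) =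
      (bigMap β).app (op ((Over.map a).obj ((EtFppf.a Z).obj U))) (tau a G U x) :=
  (tau_app a _ U x).trans ((mu_bigMap a β _ _).trans (congrArg _ (mu_unit a G U x)))

theorem tau_secPull' {Z : Scheme.{u}} (g : Z ⟶ X) (F : EtDesc.Sh X) (s : EtDesc.sect F (EtCoh.top X)) :
    tau g F (EtCoh.top Z) (EtDesc.secPull g F s) = (bigP F).map (toBase g).op (sb F (EtCoh.top X) s) :=
  tau_secPull g F s

/-- Composed pullbacks of global sections. -/
theorem tau_pull_secPull {Z S : Scheme.{u}} (g : Z ⟶ S) (a : S ⟶ X) (b : Z ⟶ X) (w : g ≫ a = b) (F : EtDesc.Sh X)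
    (m : (Over.map b).obj ((EtFppf.a Z).obj (EtCoh.top Z)) ⟶ (Over.map a).obj ((EtFppf.a S).obj (EtCoh.top S)))
    (hm : m.left = g) (s : EtDesc.sect ((EtDesc.pullSh a).obj F) (EtCoh.top S)) :
    tau b F (EtCoh.top Z) ((EtDesc.pullVia g a b w F).hom.hom.app (op (EtCoh.top Z))
        (EtDesc.secPull g ((EtDesc.pullSh a).obj F) s)) =
      (bigP F).map m.op (tau a F (EtCoh.top S) s) := by
  rw [tau_pullVia, tau_secPull', mu_map, show sb ((EtDesc.pullSh a).obj F) (EtCoh.top S) s =
    ((pAdj (Type (u + 1)) S).unit.app ((EtDesc.pullSh a).obj F)).hom.app (op (EtCoh.top S)) s from rfl, mu_unit,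
    ← map_comp_apply']
  refine congrArg (fun k => (bigP F).map (Quiver.Hom.op k) _) ?_
  subst w
  refine Over.OverMorphism.ext ?_
  rw [hm, eqToHom_refl, Category.id_comp]
  show 𝟙 _ ≫ g = g
  exact Category.id_comp g

/-- The restriction of the base change of an étale scheme to it. -/
def gOf {X' : Scheme.{u}} (f : X' ⟶ X) (U : X.Etale) :
    (Over.map f).obj ((EtFppf.a X').obj ((EtCoh.bc f).obj U)) ⟶ (EtFppf.a X).obj U :=
  (Over.mapPullbackAdj f).counit.app ((EtFppf.a X).obj U)

theorem gOf_left {X' : Scheme.{u}} (f : X' ⟶ X) (U : X.Etale) : (gOf f U).left = pullback.fst U.hom f := by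
  simp [gOf]
  rfl

theorem gOf_natural {X' : Scheme.{u}} (f : X' ⟶ X) {U V : X.Etale} (k : V ⟶ U) :
    (Over.map f).map ((EtFppf.a X').map ((EtCoh.bc f).map k)) ≫ gOf f U = gOf f V ≫ (EtFppf.a X).map k := by
  refine Over.OverMorphism.ext ?_
  show ((EtCoh.bc f).map k).left ≫ (gOf f U).left = (gOf f V).left ≫ k.left
  rw [gOf_left, gOf_left]
  show pullback.lift _ _ _ ≫ pullback.fst U.hom f = _
  rw [pullback.lift_fst]

theorem tau_adjUnit {X' : Scheme.{u}} (f : X' ⟶ X) (F : EtDesc.Sh X) (U : X.Etale) (s : EtDesc.sect F U) :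
    tau f F ((EtCoh.bc f).obj U) (((EtDesc.adjSh f).unit.app F).hom.app (op U) s) =
      (bigP F).map (gOf f U).op (sb F U s) :=
  tau_unit f F U s

/-- Any base change of a universally submersive morphism is a surjective quotient map. -/
theorem isQuotientMap_of_isPullback {X' : Scheme.{u}} {f : X' ⟶ X} (hf : EtDesc.IsUnivSubmersive f) {P V : Scheme.{u}}
    {p : P ⟶ X'} {q : P ⟶ V} {v : V ⟶ X} (h : IsPullback p q f v) :
    Function.Surjective q.base ∧ Topology.IsQuotientMap q.base := by
  obtain ⟨h1, h2⟩ := hf V v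
  rw [← h.isoPullback_hom_snd]
  exact ⟨h1.comp h.isoPullback.hom.surjective, h2.comp h.isoPullback.hom.homeomorph.isQuotientMap⟩

theorem isQuotientMap_gOf {X' : Scheme.{u}} {f : X' ⟶ X} (hf : EtDesc.IsUnivSubmersive f) (U : X.Etale) :
    Function.Surjective (gOf f U).left.base ∧ Topology.IsQuotientMap (gOf f U).left.base := by
  rw [gOf_left]
  exact isQuotientMap_of_isPullback hf (IsPullback.of_hasPullback U.hom f).flip

theorem gOf_hopen {X' : Scheme.{u}} {f : X' ⟶ X} (hf : EtDesc.IsUnivSubmersive f) (U : X.Etale) (V : Over X)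
    (v : V ⟶ (EtFppf.a X).obj U) (A : Set V.left) (h : IsOpen ((pullback.snd (gOf f U).left v.left).base ⁻¹' A)) :
    IsOpen A := by
  have hsq : IsPullback (pullback.fst (gOf f U).left v.left ≫ pullback.snd U.hom f)
      (pullback.snd (gOf f U).left v.left) f (v.left ≫ U.hom) := by
    refine IsPullback.paste_horiz (IsPullback.of_hasPullback (gOf f U).left v.left).flip.flip ?_
    rw [gOf_left]
    exact (IsPullback.of_hasPullback U.hom f).flip
  exact (isQuotientMap_of_isPullback hf hsq).2.isOpen_preimage.1 h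

/-- The base change of a terminal object, with its map to the base. -/
theorem exists_geo_lift {X' : Scheme.{u}} {f : X' ⟶ X} (hf : EtDesc.IsUnivSubmersive f) {G : Over X}
    (hG : IsGeo G.left) :
    ∃ (G' : Over X) (e : G' ⟶ G) (W : Over X') (c : G' ⟶ (Over.map f).obj W), IsGeo G'.left ∧ IsGeo W.left ∧
      IsIso c := by
  obtain ⟨y⟩ := hG.nonempty
  obtain ⟨P, hP⟩ := (hf G.left G.hom).1 y
  let T : Over X := Over.mk (𝟙 X)
  let T' : Over X := Over.mk f
  obtain ⟨G', e, a', hG', -, -⟩ := exists_extension (Over.homMk f (Category.comp_id f) : T' ⟶ T)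
    (Over.homMk G.hom (Category.comp_id _) : G ⟶ T) hG ((pullback.fst f G.hom).base P) fun y' => by
      show G.hom.base y' = f.base ((pullback.fst f G.hom).base P)
      rw [← Scheme.Hom.comp_apply, pullback.condition, Scheme.Hom.comp_apply, hP, hG.subsingleton y' y]
  let i : G' ≅ (Over.map f).obj (Over.mk a'.left) := Over.isoMk (Iso.refl G'.left) (by
    show 𝟙 _ ≫ a'.left ≫ f = G'.hom
    rw [Category.id_comp]
    exact Over.w a')
  exact ⟨G', e, Over.mk a'.left, i.hom, hG', hG', inferInstance⟩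

end

end EtProperH0Lib
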