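import Groth.Agent.EtProperH0Lib.DescSec

/-!
# Descent of morphisms of sheaves along universally submersive morphisms
-/

set_option autoImplicit false
set_option linter.style.haveILetI false
set_option linter.unusedSectionVars false
set_option backward.isDefEq.respectTransparency false
set_option backward.isDefEq.respectTransparency.types false
universe u

open CategoryTheory CategoryTheory.Limits AlgebraicGeometry Opposite EtDescentLib Groth.Agent.EtShLib

namespace EtProperH0Lib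

noncomputable section

attribute [local irreducible] gamma mIso

/-- Composite base change of objects, along a given composite. -/
def cObj {Z S X : Scheme.{u}} (g : Z ⟶ S) (a : S ⟶ X) (b : Z ⟶ X) (w : g ≫ a = b) (W : Over Z) :
    (Over.map b).obj W ⟶ (Over.map a).obj ((Over.map g).obj W) :=
  Over.homMk (𝟙 W.left) (by
    show 𝟙 W.left ≫ (W.hom ≫ g) ≫ a = W.hom ≫ b
    rw [Category.id_comp, Category.assoc, w])

instance isIso_cObj {Z S X : Scheme.{u}} (g : Z ⟶ S) (a : S ⟶ X) (b : Z ⟶ X) (w : g ≫ a = b) (W : Over Z) :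
    IsIso (cObj g a b w W) := by
  haveI : IsIso ((Over.forget X).map (cObj g a b w W)) := inferInstanceAs (IsIso (𝟙 W.left))
  exact isIso_of_reflects_iso _ (Over.forget X)

theorem cObj_natural {Z S X : Scheme.{u}} (g : Z ⟶ S) (a : S ⟶ X) (b : Z ⟶ X) (w : g ≫ a = b) {W W' : Over Z}
    (k : W' ⟶ W) :
    (Over.map b).map k ≫ cObj g a b w W = cObj g a b w W' ≫ (Over.map a).map ((Over.map g).map k) := by
  refine Over.OverMorphism.ext ?_
  show k.left ≫ 𝟙 _ = 𝟙 _ ≫ k.left
  simp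

theorem bijective_map_of_isIso {X : Scheme.{u}} (P : (Over X)ᵒᵖ ⥤ Type (u + 1)) {W W' : Over X} (k : W' ⟶ W)
    [IsIso k] : Function.Bijective (P.map k.op) :=
  (isIso_iff_bijective _).1 inferInstance

theorem tau_pullVia' {Z S X : Scheme.{u}} (g : Z ⟶ S) (a : S ⟶ X) (b : Z ⟶ X) (w : g ≫ a = b) (F : EtDesc.Sh X)
    (U : Z.Etale) (x : EtDesc.sect ((EtDesc.pullSh g).obj ((EtDesc.pullSh a).obj F)) U) :
    tau b F U ((EtDesc.pullVia g a b w F).hom.hom.app (op U) x) =
      (bigP F).map (cObj g a b w ((EtFppf.a Z).obj U)).op (mu a F _ (tau g ((EtDesc.pullSh a).obj F) U x)) := by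
  rw [tau_pullVia]
  refine congrArg (fun k => (bigP F).map (Quiver.Hom.op k) _) ?_
  subst w
  rw [eqToHom_refl, Category.id_comp]
  rfl

/-- Transport of a map of inverse images to the big presheaves. -/
def Theta {S X : Scheme.{u}} (a : S ⟶ X) {F G : EtDesc.Sh X} (α : (EtDesc.pullSh a).obj F ⟶ (EtDesc.pullSh a).obj G)
    (W : Over S) (t : (bigP F).obj (op ((Over.map a).obj W))) : (bigP G).obj (op ((Over.map a).obj W)) :=
  mu a G W ((bigMap α).app (op W) ((Equiv.ofBijective _ (bijective_mu a F W)).symm t))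

theorem Theta_mu {S X : Scheme.{u}} (a : S ⟶ X) {F G : EtDesc.Sh X}
    (α : (EtDesc.pullSh a).obj F ⟶ (EtDesc.pullSh a).obj G) (W : Over S)
    (t : (bigP ((EtDesc.pullSh a).obj F)).obj (op W)) :
    Theta a α W (mu a F W t) = mu a G W ((bigMap α).app (op W) t) :=
  congrArg (fun z => mu a G W ((bigMap α).app (op W) z)) ((Equiv.ofBijective _ (bijective_mu a F W)).symm_apply_apply t)

theorem Theta_map {S X : Scheme.{u}} (a : S ⟶ X) {F G : EtDesc.Sh X}
    (α : (EtDesc.pullSh a).obj F ⟶ (EtDesc.pullSh a).obj G) {W W' : Over S} (k : W' ⟶ W)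
    (t : (bigP F).obj (op ((Over.map a).obj W))) :
    Theta a α W' ((bigP F).map ((Over.map a).map k).op t) = (bigP G).map ((Over.map a).map k).op (Theta a α W t) := by
  obtain ⟨t₀, ht⟩ := (bijective_mu a F W).2 t
  rw [← ht, ← mu_map, Theta_mu, Theta_mu, bigMap_map, mu_map]

theorem tau_theta {S X : Scheme.{u}} (a : S ⟶ X) {F G : EtDesc.Sh X}
    (α : (EtDesc.pullSh a).obj F ⟶ (EtDesc.pullSh a).obj G) (U : S.Etale)
    (x : EtDesc.sect ((EtDesc.pullSh a).obj F) U) :
    tau a G U (α.hom.app (op U) x) = Theta a α _ (tau a F U x) :=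
  (tau_app a α U x).trans ((Theta_mu a α _ _).symm.trans (congrArg (Theta a α _) (mu_unit a F U x)))

/-- Compatible morphisms transfer compatible sections. -/
theorem app_compat {Z : Scheme.{u}} {A₁ A₂ A B₁ B₂ B : EtDesc.Sh Z} (e₁ : A₁ ≅ A) (e₂ : A₂ ≅ A) (d₁ : B₁ ≅ B)
    (d₂ : B₂ ≅ B) (β₁ : A₁ ⟶ B₁) (β₂ : A₂ ⟶ B₂) (h : (e₁ ≪≫ e₂.symm).hom ≫ β₂ = β₁ ≫ (d₁ ≪≫ d₂.symm).hom)
    (U : Z.Etale) (x : EtDesc.sect A₁ U) (y : EtDesc.sect A₂ U) (hxy : e₁.hom.hom.app (op U) x = e₂.hom.hom.app (op U) y) :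
    d₁.hom.hom.app (op U) (β₁.hom.app (op U) x) = d₂.hom.hom.app (op U) (β₂.hom.app (op U) y) := by
  have h1 : e₁.hom ≫ e₂.inv ≫ β₂ ≫ d₂.hom = β₁ ≫ d₁.hom := by
    have := congrArg (· ≫ d₂.hom) h
    simpa using this
  have h2 : e₂.inv.hom.app (op U) (e₂.hom.hom.app (op U) y) = y :=
    congrArg (fun k => k.hom.app (op U) y) e₂.hom_inv_id
  refine (congrArg (fun k => k.hom.app (op U) x) h1).symm.trans ?_
  show d₂.hom.hom.app (op U) (β₂.hom.app (op U) (e₂.inv.hom.app (op U) (e₁.hom.hom.app (op U) x))) = _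
  rw [hxy, h2]

/-- Compatibility of a map of inverse images with the descent data, at geometric points. -/
theorem compat_geo {Z S X : Scheme.{u}} (g₁ g₂ : Z ⟶ S) (a : S ⟶ X) (b : Z ⟶ X) (w₁ : g₁ ≫ a = b)
    (w₂ : g₂ ≫ a = b) {F G : EtDesc.Sh X} (α : (EtDesc.pullSh a).obj F ⟶ (EtDesc.pullSh a).obj G)
    (h : (EtDesc.pullVia g₁ a b w₁ F ≪≫ (EtDesc.pullVia g₂ a b w₂ F).symm).hom ≫ (EtDesc.pullSh g₂).map α =
      (EtDesc.pullSh g₁).map α ≫ (EtDesc.pullVia g₁ a b w₁ G ≪≫ (EtDesc.pullVia g₂ a b w₂ G).symm).hom)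
    (W : Over Z) (hW : IsGeo W.left) (t₁ : (bigP F).obj (op ((Over.map a).obj ((Over.map g₁).obj W))))
    (t₂ : (bigP F).obj (op ((Over.map a).obj ((Over.map g₂).obj W))))
    (ht : (bigP F).map (cObj g₁ a b w₁ W).op t₁ = (bigP F).map (cObj g₂ a b w₂ W).op t₂) :
    (bigP G).map (cObj g₁ a b w₁ W).op (Theta a α _ t₁) = (bigP G).map (cObj g₂ a b w₂ W).op (Theta a α _ t₂) := by
  obtain ⟨W', p, hp, k, t', hk, ht'⟩ := (hasGerms_bigP F).exists_germ
    ((Over.map b).map (Over.homMk W.hom (Category.comp_id _) : W ⟶ (EtFppf.a Z).obj (EtCoh.top Z))) hW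
    ((bigP F).map (cObj g₁ a b w₁ W).op t₁)
  haveI : Etale p.left := hp
  let U : Z.Etale := Scheme.Etale.mk p.left
  let r : (Over.map b).obj ((EtFppf.a Z).obj U) ⟶ W' := Over.homMk (𝟙 W'.left) (by
    show 𝟙 W'.left ≫ W'.hom = p.left ≫ b
    rw [Category.id_comp, ← Over.w p]
    exact congrArg (p.left ≫ ·) (Category.id_comp b))
  have hk' : k.left ≫ p.left = W.hom := congrArg CommaMorphism.left hk
  let k₀ : W ⟶ (EtFppf.a Z).obj U := Over.homMk k.left hk'
  have hkr : (Over.map b).map k₀ ≫ r = k := Over.OverMorphism.ext (Category.comp_id _)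
  let t'' := (bigP F).map r.op t'
  obtain ⟨x₀, hx₀⟩ := (bijective_map_of_isIso (bigP F) (cObj g₁ a b w₁ ((EtFppf.a Z).obj U))).2 t''
  obtain ⟨x₁, hx₁⟩ := (bijective_mu a F _).2 x₀
  obtain ⟨x, hx⟩ := (bijective_tau g₁ ((EtDesc.pullSh a).obj F) U).2 x₁
  obtain ⟨y₀, hy₀⟩ := (bijective_map_of_isIso (bigP F) (cObj g₂ a b w₂ ((EtFppf.a Z).obj U))).2 t''
  obtain ⟨y₁, hy₁⟩ := (bijective_mu a F _).2 y₀
  obtain ⟨y, hy⟩ := (bijective_tau g₂ ((EtDesc.pullSh a).obj F) U).2 y₁
  have hxy := app_compat _ _ _ _ _ _ h U x y ((bijective_tau b F U).1 (by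
    rw [tau_pullVia', tau_pullVia', hx, hx₁, hx₀, hy, hy₁, hy₀]))
  have hU := congrArg (tau b G U) hxy
  rw [tau_pullVia', tau_pullVia', tau_pullMap g₁ α, tau_pullMap g₂ α, hx, hy, ← Theta_mu, ← Theta_mu, hx₁, hy₁] at hU
  have e₁ : t₁ = (bigP F).map ((Over.map a).map ((Over.map g₁).map k₀)).op x₀ := by
    refine (bijective_map_of_isIso (bigP F) (cObj g₁ a b w₁ W)).1 ?_
    rw [← map_comp_apply', ← cObj_natural, map_comp_apply', hx₀, ← ht']
    rw [← hkr, map_comp_apply']
  have e₂ : t₂ = (bigP F).map ((Over.map a).map ((Over.map g₂).map k₀)).op y₀ := by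
    refine (bijective_map_of_isIso (bigP F) (cObj g₂ a b w₂ W)).1 ?_
    rw [← ht, ← map_comp_apply', ← cObj_natural, map_comp_apply', hy₀, ← ht']
    rw [← hkr, map_comp_apply']
  rw [e₁, e₂, Theta_map, Theta_map, ← map_comp_apply', ← map_comp_apply', ← cObj_natural, ← cObj_natural,
    map_comp_apply', map_comp_apply', hU]

/-- Compatible maps of inverse images do not depend on lifts of geometric points. -/
theorem Theta_indep {X' X : Scheme.{u}} (f : X' ⟶ X) {F G : EtDesc.Sh X}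
    (α : (EtDesc.pullSh f).obj F ⟶ (EtDesc.pullSh f).obj G)
    (h : (EtDesc.canIso f F).hom ≫ (EtDesc.pullSh (pullback.snd f f)).map α =
      (EtDesc.pullSh (pullback.fst f f)).map α ≫ (EtDesc.canIso f G).hom)
    {G₀ : Over X} (hG₀ : IsGeo G₀.left) {W₁ W₂ : Over X'} (c : G₀ ⟶ (Over.map f).obj W₁)
    (d : G₀ ⟶ (Over.map f).obj W₂) (t₁ : (bigP F).obj (op ((Over.map f).obj W₁)))
    (t₂ : (bigP F).obj (op ((Over.map f).obj W₂))) (ht : (bigP F).map c.op t₁ = (bigP F).map d.op t₂) :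
    (bigP G).map c.op (Theta f α W₁ t₁) = (bigP G).map d.op (Theta f α W₂ t₂) := by
  rw [canIso_eq, canIso_eq] at h
  let p₁ := pullback.fst f f
  let p₂ := pullback.snd f f
  let b := p₁ ≫ f
  have hc : (c.left ≫ W₁.hom) ≫ f = G₀.hom := (Category.assoc _ _ _).trans (Over.w c)
  have hd : (d.left ≫ W₂.hom) ≫ f = G₀.hom := (Category.assoc _ _ _).trans (Over.w d)
  let l : G₀.left ⟶ pullback f f := pullback.lift (c.left ≫ W₁.hom) (d.left ≫ W₂.hom) (hc.trans hd.symm)
  let W : Over (pullback f f) := Over.mk l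
  let e : G₀ ⟶ (Over.map b).obj W := Over.homMk (𝟙 G₀.left) (by
    show 𝟙 G₀.left ≫ l ≫ p₁ ≫ f = G₀.hom
    rw [Category.id_comp, pullback.lift_fst_assoc]
    exact hc)
  let k₁ : (Over.map p₁).obj W ⟶ W₁ := Over.homMk c.left (pullback.lift_fst _ _ _).symm
  let k₂ : (Over.map p₂).obj W ⟶ W₂ := Over.homMk d.left (pullback.lift_snd _ _ _).symm
  have hec : (e ≫ cObj p₁ f b rfl W) ≫ (Over.map f).map k₁ = c := Over.OverMorphism.ext (by
    show (𝟙 G₀.left ≫ 𝟙 G₀.left) ≫ c.left = c.left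
    simp)
  have hed : (e ≫ cObj p₂ f b pullback.condition.symm W) ≫ (Over.map f).map k₂ = d := Over.OverMorphism.ext (by
    show (𝟙 G₀.left ≫ 𝟙 G₀.left) ≫ d.left = d.left
    simp)
  haveI : IsIso e := by
    haveI : IsIso ((Over.forget X).map e) := inferInstanceAs (IsIso (𝟙 G₀.left))
    exact isIso_of_reflects_iso _ (Over.forget X)
  have key := compat_geo p₁ p₂ f b rfl pullback.condition.symm α h W hG₀
    ((bigP F).map ((Over.map f).map k₁).op t₁) ((bigP F).map ((Over.map f).map k₂).op t₂)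
    ((bijective_map_of_isIso (bigP F) e).1 (by
      rw [← map_comp_apply', ← map_comp_apply', ← map_comp_apply', ← map_comp_apply', hec, hed, ht]))
  have key' := congrArg ((bigP G).map e.op) key
  rw [Theta_map, Theta_map, ← map_comp_apply', ← map_comp_apply', ← map_comp_apply', ← map_comp_apply'] at key'
  rwa [hec, hed] at key'

/-- Inverse images along surjections separate sections. -/
theorem gOf_injective {X' X : Scheme.{u}} {f : X' ⟶ X} (hf : EtDesc.IsUnivSubmersive f) (G : EtDesc.Sh X) (U : X.Etale) :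
    Function.Injective ((bigP G).map (gOf f U).op) :=
  map_injective_of_surjective (hasGerms_bigP G) _ (isQuotientMap_gOf hf U).1

/-- Descent of an indexed section. -/
theorem descend_gOf {X' X : Scheme.{u}} {f : X' ⟶ X} (hf : EtDesc.IsUnivSubmersive f) (G : EtDesc.Sh X) (U : X.Etale)
    (t : (bigP G).obj (op ((Over.map f).obj ((EtFppf.a X').obj ((EtCoh.bc f).obj U)))))
    (ht : ∀ (H : Over X) (c d : H ⟶ (Over.map f).obj ((EtFppf.a X').obj ((EtCoh.bc f).obj U))), IsGeo H.left →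
      c ≫ gOf f U = d ≫ gOf f U → (bigP G).map c.op t = (bigP G).map d.op t) :
    ∃ s : EtDesc.sect G U, (bigP G).map (gOf f U).op (sb G U s) = t := by
  obtain ⟨σ, hσ, -⟩ := (hasGerms_bigP G).descend (ι := PUnit.{1}) (fun _ => gOf f U)
    (fun z => ⟨PUnit.unit, (isQuotientMap_gOf hf U).1 z⟩)
    (fun V v _ A hA => gOf_hopen hf U V v A (hA PUnit.unit))
    (fun _ => t) (fun _ _ H c d hH hcd => ht H c d hH hcd)
  obtain ⟨s, hs⟩ := (bijective_sb G U).2 σ
  exact ⟨s, by rw [hs]; exact hσ PUnit.unit⟩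

/-- A map of inverse images compatible with the descent data descends. -/
theorem existsUnique_descHom {X' X : Scheme.{u}} (f : X' ⟶ X) (hf : EtDesc.IsUnivSubmersive f) (F G : EtDesc.Sh X)
    (α : (EtDesc.pullSh f).obj F ⟶ (EtDesc.pullSh f).obj G)
    (h : (EtDesc.canIso f F).hom ≫ (EtDesc.pullSh (pullback.snd f f)).map α =
      (EtDesc.pullSh (pullback.fst f f)).map α ≫ (EtDesc.canIso f G).hom) :
    ∃! β : F ⟶ G, (EtDesc.pullSh f).map β = α := by
  have key : ∀ (U : X.Etale) (s : EtDesc.sect F U), ∃ r : EtDesc.sect G U,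
      (bigP G).map (gOf f U).op (sb G U r) = Theta f α _ ((bigP F).map (gOf f U).op (sb F U s)) := fun U s =>
    descend_gOf hf G U _ fun H c d hH hcd => Theta_indep f α h hH c d _ _ (by
      rw [← map_comp_apply', ← map_comp_apply', hcd])
  choose r hr using key
  have char : ∀ β : F ⟶ G, (EtDesc.pullSh f).map β = α ↔ ∀ U s, β.hom.app (op U) s = r U s := by
    intro β
    have hu : ∀ U s, ((EtDesc.pullSh f).map β).hom.app (op ((EtCoh.bc f).obj U))
        (((EtDesc.adjSh f).unit.app F).hom.app (op U) s) =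
        ((EtDesc.adjSh f).unit.app G).hom.app (op U) (β.hom.app (op U) s) := fun U s =>
      (congrArg (fun k => k.hom.app (op U) s) ((EtDesc.adjSh f).unit.naturality β)).symm
    constructor
    · intro hβ U s
      refine (bijective_sb G U).1 (gOf_injective hf G U ?_)
      rw [hr, ← tau_adjUnit, ← tau_adjUnit, ← hu, hβ, tau_theta]
    · intro hβ
      apply ((EtDesc.adjSh f).homEquiv _ _).injective
      refine Sheaf.hom_ext (NatTrans.ext (funext fun ⟨U⟩ => ?_))
      ext s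
      simp only [Adjunction.homEquiv_unit]
      show ((EtDesc.pullSh f).map β).hom.app (op ((EtCoh.bc f).obj U))
          (((EtDesc.adjSh f).unit.app F).hom.app (op U) s) =
        α.hom.app (op ((EtCoh.bc f).obj U)) (((EtDesc.adjSh f).unit.app F).hom.app (op U) s)
      refine (bijective_tau f G _).1 ?_
      rw [hu, tau_theta, tau_adjUnit, tau_adjUnit, hβ, hr]
  let β : F ⟶ G := ObjectProperty.homMk
    { app := fun U => TypeCat.ofHom (r U.unop)
      naturality := by
        rintro ⟨U⟩ ⟨V⟩ ⟨k⟩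
        ext s
        show r V (F.obj.map k.op s) = G.obj.map k.op (r U s)
        refine (bijective_sb G V).1 (gOf_injective hf G V ?_)
        rw [hr, sb_map, sb_map, ← map_comp_apply', ← map_comp_apply', ← gOf_natural, map_comp_apply', map_comp_apply',
          hr, Theta_map] }
  exact ⟨β, (char β).2 fun U s => rfl, fun β' hβ' => Sheaf.hom_ext (NatTrans.ext (funext fun ⟨U⟩ => by
    ext s
    exact (char β').1 hβ' U s))⟩

end

end EtProperH0Lib
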