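import Groth.Agent.EtProperH0Lib.DescHom
import Groth.Agent.EtProperH0Lib.DescMono

/-!
# Descent of subsheaves along universally submersive morphisms
-/

set_option autoImplicit false
set_option linter.style.haveILetI false
set_option linter.unusedSectionVars false
set_option backward.isDefEq.respectTransparency false
set_option backward.isDefEq.respectTransparency.types false
universe u

open CategoryTheory CategoryTheory.Limits AlgebraicGeometry Opposite EtDescentLib Groth.Agent.EtShLib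

namespace EtProperH0Lib

noncomputable section

attribute [local irreducible] gamma mIso

/-- Sections of the big presheaf lying in a subsheaf of an inverse image. -/
def InSub {S X : Scheme.{u}} (a : S ⟶ X) {F : EtDesc.Sh X} {G' : EtDesc.Sh S} (α : G' ⟶ (EtDesc.pullSh a).obj F)
    (W : Over S) (t : (bigP F).obj (op ((Over.map a).obj W))) : Prop :=
  ∃ z, mu a F W ((bigMap α).app (op W) z) = t

theorem InSub.map {S X : Scheme.{u}} {a : S ⟶ X} {F : EtDesc.Sh X} {G' : EtDesc.Sh S}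
    {α : G' ⟶ (EtDesc.pullSh a).obj F} {W W' : Over S} {t : (bigP F).obj (op ((Over.map a).obj W))}
    (h : InSub a α W t) (k : W' ⟶ W) : InSub a α W' ((bigP F).map ((Over.map a).map k).op t) := by
  obtain ⟨z, rfl⟩ := h
  exact ⟨(bigP G').map k.op z, by rw [bigMap_map, mu_map]⟩

/-- Transport of sections of a subsheaf along an isomorphism over the square. -/
theorem sub_compat_app {Z : Scheme.{u}} {A₁ A₂ A B₁ B₂ : EtDesc.Sh Z} (e₁ : A₁ ≅ A) (e₂ : A₂ ≅ A) (β₁ : B₁ ⟶ A₁)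
    (β₂ : B₂ ⟶ A₂) (φ : B₁ ⟶ B₂) (h : φ ≫ β₂ = β₁ ≫ (e₁ ≪≫ e₂.symm).hom) (U : Z.Etale) (x : EtDesc.sect B₁ U) :
    e₂.hom.hom.app (op U) (β₂.hom.app (op U) (φ.hom.app (op U) x)) = e₁.hom.hom.app (op U) (β₁.hom.app (op U) x) := by
  have h1 : φ ≫ β₂ ≫ e₂.hom = β₁ ≫ e₁.hom := by
    have := congrArg (· ≫ e₂.hom) h
    simpa using this
  exact congrArg (fun k => k.hom.app (op U) x) h1

theorem inv_compat {Z : Scheme.{u}} {A₁ A₂ A B₁ B₂ : EtDesc.Sh Z} (e₁ : A₁ ≅ A) (e₂ : A₂ ≅ A) (β₁ : B₁ ⟶ A₁)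
    (β₂ : B₂ ⟶ A₂) (φ : B₁ ≅ B₂) (h : φ.hom ≫ β₂ = β₁ ≫ (e₁ ≪≫ e₂.symm).hom) :
    φ.inv ≫ β₁ = β₂ ≫ (e₂ ≪≫ e₁.symm).hom := by
  rw [Iso.inv_comp_eq, ← Category.assoc, h]
  simp

/-- Compatible subsheaves, at geometric points. -/
theorem sub_compat_geo {Z S X : Scheme.{u}} (g₁ g₂ : Z ⟶ S) (a : S ⟶ X) (b : Z ⟶ X) (w₁ : g₁ ≫ a = b)
    (w₂ : g₂ ≫ a = b) {F : EtDesc.Sh X} {G' : EtDesc.Sh S} (α : G' ⟶ (EtDesc.pullSh a).obj F)
    (φ : (EtDesc.pullSh g₁).obj G' ⟶ (EtDesc.pullSh g₂).obj G')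
    (h : φ ≫ (EtDesc.pullSh g₂).map α =
      (EtDesc.pullSh g₁).map α ≫ (EtDesc.pullVia g₁ a b w₁ F ≪≫ (EtDesc.pullVia g₂ a b w₂ F).symm).hom)
    (W : Over Z) (hW : IsGeo W.left) (t₁ : (bigP F).obj (op ((Over.map a).obj ((Over.map g₁).obj W))))
    (t₂ : (bigP F).obj (op ((Over.map a).obj ((Over.map g₂).obj W))))
    (ht : (bigP F).map (cObj g₁ a b w₁ W).op t₁ = (bigP F).map (cObj g₂ a b w₂ W).op t₂)
    (h₁ : InSub a α _ t₁) : InSub a α _ t₂ := by
  obtain ⟨z, rfl⟩ := h₁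
  obtain ⟨W', p, hp, k, z', hk, hz'⟩ := (hasGerms_bigP G').exists_germ
    ((Over.map g₁).map (toTop W)) hW z
  haveI : Etale p.left := hp
  let U : Z.Etale := Scheme.Etale.mk p.left
  let r : (Over.map g₁).obj ((EtFppf.a Z).obj U) ⟶ W' := Over.homMk (𝟙 W'.left) (by
    show 𝟙 W'.left ≫ W'.hom = p.left ≫ g₁
    rw [Category.id_comp, ← Over.w p]
    exact congrArg (p.left ≫ ·) (Category.id_comp g₁))
  have hk' : k.left ≫ p.left = W.hom := congrArg CommaMorphism.left hk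
  let k₀ : W ⟶ (EtFppf.a Z).obj U := Over.homMk k.left hk'
  have hkr : (Over.map g₁).map k₀ ≫ r = k := Over.OverMorphism.ext (Category.comp_id _)
  obtain ⟨x, hx⟩ := (bijective_tau g₁ G' U).2 ((bigP G').map r.op z')
  have hU := congrArg (tau b F U) (sub_compat_app _ _ _ _ φ h U x)
  rw [tau_pullVia', tau_pullVia', tau_pullMap g₁ α, tau_pullMap g₂ α, hx] at hU
  refine ⟨(bigP G').map ((Over.map g₂).map k₀).op (tau g₂ G' U (φ.hom.app (op U) x)), ?_⟩
  refine (bijective_map_of_isIso (bigP F) (cObj g₂ a b w₂ W)).1 ?_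
  rw [← ht, bigMap_map, mu_map, ← map_comp_apply', ← cObj_natural, map_comp_apply', hU, ← map_comp_apply',
    cObj_natural, map_comp_apply', ← mu_map, ← bigMap_map, ← map_comp_apply', hkr, hz']

/-- Membership in a compatible subsheaf does not depend on lifts of geometric points. -/
theorem InSub.indep {X' X : Scheme.{u}} {f : X' ⟶ X} {F : EtDesc.Sh X} {G' : EtDesc.Sh X'}
    {α : G' ⟶ (EtDesc.pullSh f).obj F}
    {φ : (EtDesc.pullSh (pullback.fst f f)).obj G' ⟶ (EtDesc.pullSh (pullback.snd f f)).obj G'}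
    (h : φ ≫ (EtDesc.pullSh (pullback.snd f f)).map α =
      (EtDesc.pullSh (pullback.fst f f)).map α ≫ (EtDesc.canIso f F).hom)
    {G₀ : Over X} (hG₀ : IsGeo G₀.left) {W₁ W₂ : Over X'} (c : G₀ ⟶ (Over.map f).obj W₁)
    (d : G₀ ⟶ (Over.map f).obj W₂) {t₁ : (bigP F).obj (op ((Over.map f).obj W₁))}
    {t₂ : (bigP F).obj (op ((Over.map f).obj W₂))} (h₁ : InSub f α W₁ t₁)
    (ht : (bigP F).map c.op t₁ = (bigP F).map d.op t₂) :
    ∃ k : Over.mk (d.left ≫ W₂.hom) ⟶ W₂, k.left = d.left ∧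
      InSub f α _ ((bigP F).map ((Over.map f).map k).op t₂) := by
  rw [canIso_eq] at h
  let p₁ := pullback.fst f f
  let p₂ := pullback.snd f f
  let b := p₁ ≫ f
  have hc : (c.left ≫ W₁.hom) ≫ f = G₀.hom := (Category.assoc _ _ _).trans (Over.w c)
  have hd : (d.left ≫ W₂.hom) ≫ f = G₀.hom := (Category.assoc _ _ _).trans (Over.w d)
  let l : G₀.left ⟶ pullback f f := pullback.lift (c.left ≫ W₁.hom) (d.left ≫ W₂.hom) (hc.trans hd.symm)
  let W : Over (pullback f f) := Over.mk l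
  let e : G₀ ⟶ (Over.map b).obj W := Over.homMk (𝟙 G₀.left) (by
    show 𝟙 G₀.left ≫ l ≫ p₁ ≫ f = G₀.hom
    rw [Category.id_comp, pullback.lift_fst_assoc]
    exact hc)
  let k₁ : (Over.map p₁).obj W ⟶ W₁ := Over.homMk c.left (pullback.lift_fst _ _ _).symm
  let k₂ : (Over.map p₂).obj W ⟶ W₂ := Over.homMk d.left (pullback.lift_snd _ _ _).symm
  have hec : (e ≫ cObj p₁ f b rfl W) ≫ (Over.map f).map k₁ = c := Over.OverMorphism.ext (by
    show (𝟙 G₀.left ≫ 𝟙 G₀.left) ≫ c.left = c.left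
    simp)
  have hed : (e ≫ cObj p₂ f b pullback.condition.symm W) ≫ (Over.map f).map k₂ = d := Over.OverMorphism.ext (by
    show (𝟙 G₀.left ≫ 𝟙 G₀.left) ≫ d.left = d.left
    simp)
  haveI : IsIso e := by
    haveI : IsIso ((Over.forget X).map e) := inferInstanceAs (IsIso (𝟙 G₀.left))
    exact isIso_of_reflects_iso _ (Over.forget X)
  have key : InSub f α _ ((bigP F).map ((Over.map f).map k₂).op t₂) :=
    sub_compat_geo p₁ p₂ f b rfl pullback.condition.symm α φ h W hG₀ _ _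
      ((bijective_map_of_isIso (bigP F) e).1 (by
        rw [← map_comp_apply', ← map_comp_apply', ← map_comp_apply', ← map_comp_apply', hec, hed, ht]))
      (h₁.map k₁)
  let j : Over.mk (d.left ≫ W₂.hom) ⟶ (Over.map p₂).obj W :=
    Over.homMk (𝟙 G₀.left) ((Category.id_comp _).trans (pullback.lift_snd _ _ _))
  refine ⟨j ≫ k₂, Category.id_comp d.left, ?_⟩
  rw [Functor.map_comp, map_comp_apply']
  exact key.map j

variable {X' X : Scheme.{u}} {f : X' ⟶ X}

theorem mem_range_of_pull (hf : EtDesc.IsUnivSubmersive f) {G F : EtDesc.Sh X} (α : G ⟶ F) [Mono α] (U : X.Etale)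
    (r : EtDesc.sect F U) (t : EtDesc.sect ((EtDesc.pullSh f).obj G) ((EtCoh.bc f).obj U))
    (h : ((EtDesc.pullSh f).map α).hom.app (op ((EtCoh.bc f).obj U)) t = ((EtDesc.adjSh f).unit.app F).hom.app (op U) r) :
    ∃ s, α.hom.app (op U) s = r := by
  have h' := congrArg (tau f F _) h
  rw [tau_pullMap, tau_adjUnit] at h'
  obtain ⟨s, hs⟩ := descend_gOf hf G U (tau f G _ t) fun H c d hH hcd => bigMap_injective α H (by
    rw [bigMap_map, bigMap_map, h', ← map_comp_apply', ← map_comp_apply', hcd])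
  refine ⟨s, (bijective_sb F U).1 (gOf_injective hf F U ?_)⟩
  rw [sb_app, ← bigMap_map, hs, h']

theorem unit_natural_app {G F : EtDesc.Sh X} (f : X' ⟶ X) (α : G ⟶ F) (U : X.Etale) (s : EtDesc.sect G U) :
    ((EtDesc.pullSh f).map α).hom.app (op ((EtCoh.bc f).obj U)) (((EtDesc.adjSh f).unit.app G).hom.app (op U) s) =
      ((EtDesc.adjSh f).unit.app F).hom.app (op U) (α.hom.app (op U) s) :=
  (congrArg (fun k => k.hom.app (op U) s) ((EtDesc.adjSh f).unit.naturality α)).symm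

theorem exists_fac_of_pull_iso (hf : EtDesc.IsUnivSubmersive f) {F G₁ G₂ : EtDesc.Sh X} (a₁ : G₁ ⟶ F) (a₂ : G₂ ⟶ F)
    [Mono a₂] (φ : (EtDesc.pullSh f).obj G₁ ⟶ (EtDesc.pullSh f).obj G₂)
    (h : φ ≫ (EtDesc.pullSh f).map a₂ = (EtDesc.pullSh f).map a₁) : ∃ ψ : G₁ ⟶ G₂, ψ ≫ a₂ = a₁ := by
  have key : ∀ (U : X.Etale) (s : EtDesc.sect G₁ U), ∃ t, a₂.hom.app (op U) t = a₁.hom.app (op U) s := fun U s =>
    mem_range_of_pull hf a₂ U _ (φ.hom.app (op ((EtCoh.bc f).obj U)) (((EtDesc.adjSh f).unit.app G₁).hom.app (op U) s))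
      ((congrArg (fun k => k.hom.app (op ((EtCoh.bc f).obj U)) (((EtDesc.adjSh f).unit.app G₁).hom.app (op U) s)) h).trans
        (unit_natural_app f a₁ U s))
  choose t ht using key
  refine ⟨ObjectProperty.homMk
    { app := fun U => TypeCat.ofHom (t U.unop)
      naturality := by
        rintro ⟨U⟩ ⟨V⟩ ⟨k⟩
        ext s
        show t V (G₁.obj.map k.op s) = G₂.obj.map k.op (t U s)
        refine app_injective_of_mono a₂ V ?_
        rw [ht, sheaf_app_map, sheaf_app_map, ht] }, Sheaf.hom_ext (NatTrans.ext (funext fun ⟨U⟩ => ?_))⟩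
  ext s
  exact ht U s

theorem exists_iso_of_pull_iso (hf : EtDesc.IsUnivSubmersive f) {F G₁ G₂ : EtDesc.Sh X} (a₁ : G₁ ⟶ F) (a₂ : G₂ ⟶ F)
    [Mono a₁] [Mono a₂] (φ : (EtDesc.pullSh f).obj G₁ ≅ (EtDesc.pullSh f).obj G₂)
    (h : φ.hom ≫ (EtDesc.pullSh f).map a₂ = (EtDesc.pullSh f).map a₁) : ∃ ψ : G₁ ≅ G₂, ψ.hom ≫ a₂ = a₁ := by
  obtain ⟨ψ, hψ⟩ := exists_fac_of_pull_iso hf a₁ a₂ φ.hom h
  obtain ⟨χ, hχ⟩ := exists_fac_of_pull_iso hf a₂ a₁ φ.inv (by rw [← h, Iso.inv_hom_id_assoc])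
  refine ⟨⟨ψ, χ, ?_, ?_⟩, hψ⟩
  · rw [← cancel_mono a₁, Category.assoc, hχ, hψ, Category.id_comp]
  · rw [← cancel_mono a₂, Category.assoc, hψ, hχ, Category.id_comp]

/-- The points of the base change of an étale scheme at which a section lifts to the subsheaf. -/
def goodSet (f : X' ⟶ X) {F : EtDesc.Sh X} {G' : EtDesc.Sh X'} (α : G' ⟶ (EtDesc.pullSh f).obj F) (U : X.Etale)
    (s : EtDesc.sect F U) : Set ((EtCoh.bc f).obj U).left :=
  memLocus α ((EtFppf.a X').obj ((EtCoh.bc f).obj U))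
    ((Equiv.ofBijective _ (bijective_mu f F _)).symm ((bigP F).map (gOf f U).op (sb F U s)))

theorem mu_goodSection {F : EtDesc.Sh X} (U : X.Etale) (s : EtDesc.sect F U) {H : Over X'}
    (k : H ⟶ (EtFppf.a X').obj ((EtCoh.bc f).obj U)) :
    mu f F H ((bigP ((EtDesc.pullSh f).obj F)).map k.op
        ((Equiv.ofBijective _ (bijective_mu f F _)).symm ((bigP F).map (gOf f U).op (sb F U s)))) =
      (bigP F).map ((Over.map f).map k).op ((bigP F).map (gOf f U).op (sb F U s)) :=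
  (mu_map f F k _).trans (congrArg _ ((Equiv.ofBijective _ (bijective_mu f F _)).apply_symm_apply _))

theorem mem_goodSet {F : EtDesc.Sh X} {G' : EtDesc.Sh X'} {α : G' ⟶ (EtDesc.pullSh f).obj F} {U : X.Etale}
    {s : EtDesc.sect F U} {H : Over X'} (k : H ⟶ (EtFppf.a X').obj ((EtCoh.bc f).obj U)) (hH : IsGeo H.left)
    (h : InSub f α H ((bigP F).map ((Over.map f).map k).op ((bigP F).map (gOf f U).op (sb F U s)))) (y : H.left) :
    k.left y ∈ goodSet f α U s := by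
  obtain ⟨z, hz⟩ := h
  exact mem_memLocus k hH ⟨z, (bijective_mu f F H).1 (hz.trans (mu_goodSection U s k).symm)⟩ y

theorem inSub_of_mem_goodSet {F : EtDesc.Sh X} {G' : EtDesc.Sh X'} {α : G' ⟶ (EtDesc.pullSh f).obj F} {U : X.Etale}
    {s : EtDesc.sect F U} {q : ((EtCoh.bc f).obj U).left} (hq : q ∈ goodSet f α U s) {H : Over X'}
    (k : H ⟶ (EtFppf.a X').obj ((EtCoh.bc f).obj U)) (hH : IsGeo H.left) (hk : ∀ y, k.left y = q) :
    InSub f α H ((bigP F).map ((Over.map f).map k).op ((bigP F).map (gOf f U).op (sb F U s))) := by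
  obtain ⟨z, hz⟩ := map_mem_of_mem_memLocus hq k hH hk
  exact ⟨z, (congrArg (mu f F H) hz).trans (mu_goodSection U s k)⟩

variable {F : EtDesc.Sh X} {G' : EtDesc.Sh X'} {α : G' ⟶ (EtDesc.pullSh f).obj F}
  {φ : (EtDesc.pullSh (pullback.fst f f)).obj G' ⟶ (EtDesc.pullSh (pullback.snd f f)).obj G'}
  (hφ : φ ≫ (EtDesc.pullSh (pullback.snd f f)).map α =
      (EtDesc.pullSh (pullback.fst f f)).map α ≫ (EtDesc.canIso f F).hom)

include hφ

theorem goodSet_saturated {U : X.Etale} {s : EtDesc.sect F U} {q q' : ((EtCoh.bc f).obj U).left}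
    (hq : q ∈ goodSet f α U s) (hqq : (gOf f U).left q = (gOf f U).left q') : q' ∈ goodSet f α U s := by
  let T := (EtFppf.a X').obj ((EtCoh.bc f).obj U)
  obtain ⟨H, a, hH, ha⟩ := exists_geo_at ((Over.map f).obj T) q'
  obtain ⟨G₀, e, c, hG₀, he, hc⟩ := exists_extension (gOf f U) (a ≫ gOf f U) hH q fun y => by
    show (gOf f U).left.base (a.left.base y) = _
    rw [ha y]
    exact hqq.symm
  let d := e ≫ a
  have hcd : c ≫ gOf f U = d ≫ gOf f U := by rw [← he, Category.assoc]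
  let L₁ : Over X' := Over.mk (c.left ≫ T.hom)
  let k₁ : L₁ ⟶ T := Over.homMk c.left rfl
  let c₁ : G₀ ⟶ (Over.map f).obj L₁ := Over.homMk (𝟙 G₀.left) (by
    show 𝟙 G₀.left ≫ (c.left ≫ T.hom) ≫ f = G₀.hom
    rw [Category.id_comp, Category.assoc]
    exact Over.w c)
  have hck : c₁ ≫ (Over.map f).map k₁ = c := Over.OverMorphism.ext (Category.id_comp _)
  obtain ⟨k, hk, hk₂⟩ := InSub.indep hφ hG₀ c₁ d (inSub_of_mem_goodSet hq k₁ hG₀ hc)
    (t₂ := (bigP F).map (gOf f U).op (sb F U s))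
    (by rw [← map_comp_apply', ← map_comp_apply', ← map_comp_apply', hck, hcd])
  obtain ⟨y⟩ := hG₀.nonempty
  have := mem_goodSet (α := α) k hG₀ hk₂ y
  rw [hk] at this
  exact Eq.mp (congrArg (· ∈ goodSet f α U s) (ha (e.left y))) this

/-- Over an étale scheme, the points where the section lifts form an open set. -/
theorem exists_goodOpen (hf : EtDesc.IsUnivSubmersive f) (U : X.Etale) (s : EtDesc.sect F U) :
    ∃ A : U.left.Opens, ∀ q, (gOf f U).left q ∈ A ↔ q ∈ goodSet f α U s := by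
  let A : Set U.left := {z | ∀ q, (gOf f U).left q = z → q ∈ goodSet f α U s}
  have hA : (gOf f U).left.base ⁻¹' A = goodSet f α U s :=
    Set.ext fun q => ⟨fun h => h q rfl, fun h q' hq' => goodSet_saturated hφ h hq'.symm⟩
  have hopen : IsOpen A := by
    refine (isQuotientMap_gOf hf U).2.isOpen_preimage.1 ?_
    exact hA ▸ isOpen_memLocus _ _ _
  exact ⟨⟨A, hopen⟩, fun q => Set.ext_iff.1 hA q⟩

/-- A compatible subsheaf is locally, on the base, cut out by sections. -/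
theorem exists_lift_sect [Mono α] (hf : EtDesc.IsUnivSubmersive f) {H : Over X} (hH : IsGeo H.left) {W : Over X'}
    (c : H ⟶ (Over.map f).obj W) {t : (bigP F).obj (op ((Over.map f).obj W))} (ht : InSub f α W t) :
    ∃ (V : X.Etale) (b : H ⟶ (EtFppf.a X).obj V) (r : EtDesc.sect F V) (w : EtDesc.sect G' ((EtCoh.bc f).obj V)),
      (bigP F).map b.op (sb F V r) = (bigP F).map c.op t ∧
      α.hom.app (op ((EtCoh.bc f).obj V)) w = ((EtDesc.adjSh f).unit.app F).hom.app (op V) r := by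
  obtain ⟨U, -, b, s, -, hs⟩ := exists_etale_nbhd F hH (toTop H) ((bigP F).map c.op t)
  obtain ⟨A, hA⟩ := exists_goodOpen hφ hf U s
  obtain ⟨y⟩ := hH.nonempty
  have hby : b.left y ∈ A := by
    obtain ⟨q, hq⟩ := (isQuotientMap_gOf hf U).1 (b.left y)
    rw [← hq, hA]
    obtain ⟨G₀, e, d, hG₀, he, hd⟩ := exists_extension (gOf f U) b hH q fun y' => by rw [hH.subsingleton y' y, hq]
    obtain ⟨k, hk, hk₂⟩ := InSub.indep hφ hG₀ (e ≫ c) d ht (t₂ := (bigP F).map (gOf f U).op (sb F U s))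
      (by rw [← map_comp_apply', ← he, map_comp_apply', map_comp_apply', hs])
    obtain ⟨y₀⟩ := hG₀.nonempty
    have := mem_goodSet (α := α) k hG₀ hk₂ y₀
    rw [hk] at this
    exact Eq.mp (congrArg (· ∈ goodSet f α U s) (hd y₀)) this
  haveI : Etale U.hom := U.prop
  let V : X.Etale := Scheme.Etale.mk (A.ι ≫ U.hom)
  let j : V ⟶ U := MorphismProperty.Over.homMk A.ι rfl trivial
  haveI : Etale ((EtFppf.a X).map j).left := inferInstanceAs (Etale A.ι)
  obtain ⟨b', hb', -⟩ := exists_lift ((EtFppf.a X).map j) b hH ⟨b.left y, hby⟩ fun y' => by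
    rw [hH.subsingleton y' y]
    rfl
  have hr : sb F V (F.obj.map j.op s) = (bigP F).map ((EtFppf.a X).map j).op (sb F U s) := sb_map F j s
  refine ⟨V, b', F.obj.map j.op s, ?_⟩
  obtain ⟨w, hw⟩ : ∃ w, α.hom.app (op ((EtCoh.bc f).obj V)) w =
      ((EtDesc.adjSh f).unit.app F).hom.app (op V) (F.obj.map j.op s) := by
    refine exists_sect_of_mem α _ _ (mem_range_of_geo α _ fun K k hK => ?_)
    let k' : K ⟶ (EtFppf.a X').obj ((EtCoh.bc f).obj U) := k ≫ (EtFppf.a X').map ((EtCoh.bc f).map j)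
    obtain ⟨y'⟩ := hK.nonempty
    have hmem : k'.left y' ∈ goodSet f α U s := by
      rw [← hA]
      have e₁ : ((Over.map f).map ((EtFppf.a X').map ((EtCoh.bc f).map j)) ≫ gOf f U).left.base (k.left.base y') =
          ((gOf f V) ≫ (EtFppf.a X).map j).left.base (k.left.base y') := by rw [gOf_natural]
      refine Eq.mpr (congrArg (· ∈ A) e₁) ?_
      exact ((gOf f V).left (k.left y')).2
    obtain ⟨z, hz⟩ := inSub_of_mem_goodSet hmem k' hK fun y'' => by rw [hK.subsingleton y'' y']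
    refine ⟨z, (bijective_mu f F K).1 (hz.trans ?_)⟩
    rw [mu_map, show mu f F _ (sb ((EtDesc.pullSh f).obj F) ((EtCoh.bc f).obj V)
        (((EtDesc.adjSh f).unit.app F).hom.app (op V) (F.obj.map j.op s))) = _ from mu_unit f F _ _,
      tau_adjUnit, hr, ← map_comp_apply', ← map_comp_apply', ← map_comp_apply', Functor.map_comp, Category.assoc,
      gOf_natural, Category.assoc]
  exact ⟨w, by rw [hr, ← map_comp_apply', hb', hs], hw⟩

/-- A compatible subsheaf descends. -/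
theorem exists_descended_subsheaf (hf : EtDesc.IsUnivSubmersive f) [Mono α] :
    ∃ (G : EtDesc.Sh X) (a : G ⟶ F) (_ : Mono a) (ψ : (EtDesc.pullSh f).obj G ≅ G'),
      ψ.hom ≫ α = (EtDesc.pullSh f).map a := by
  let η : F ⟶ (EtDesc.pushSh f).obj ((EtDesc.pullSh f).obj F) := (EtDesc.adjSh f).unit.app F
  let m := (EtDesc.pushSh f).map α
  haveI : Mono m := mono_of_app_injective m fun U => app_injective_of_mono α ((EtCoh.bc f).obj U)
  let a := pullback.fst η m
  let ψ₀ := ((EtDesc.adjSh f).homEquiv _ _).symm (pullback.snd η m)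
  have hψ : ψ₀ ≫ α = (EtDesc.pullSh f).map a := by
    apply ((EtDesc.adjSh f).homEquiv _ _).injective
    rw [Adjunction.homEquiv_naturality_right, Equiv.apply_symm_apply, Adjunction.homEquiv_unit,
      show pullback.snd η m ≫ (EtDesc.pushSh f).map α = a ≫ η from pullback.condition.symm]
    exact (EtDesc.adjSh f).unit.naturality a
  have hinj : ∀ U', Function.Injective (((EtDesc.pullSh f).map a).hom.app (op U')) := fun U' x y hxy =>
    (bijective_tau f (pullback η m) U').1 (bigMap_injective a _ (by rw [← tau_pullMap, ← tau_pullMap, hxy]))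
  have hpb : ∀ (U : X.Etale) (r : EtDesc.sect F U) (w : EtDesc.sect G' ((EtCoh.bc f).obj U)),
      α.hom.app (op ((EtCoh.bc f).obj U)) w = η.hom.app (op U) r → ∃ g, a.hom.app (op U) g = r := fun U r w hw => by
    obtain ⟨g, hg, -⟩ := Types.exists_of_isPullback
      ((IsPullback.of_hasPullback η m).map (sheafToPresheaf _ _ ⋙ (evaluation _ _).obj (op U))) r w hw.symm
    exact ⟨g, hg⟩
  have hsurj : ∀ U', Function.Surjective (ψ₀.hom.app (op U')) := fun U' y => by
    have hy : InSub f α _ (tau f F U' (α.hom.app (op U') y)) := ⟨sb G' U' y, (tau_app f α U' y).symm⟩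
    have hmem : tau f F U' (α.hom.app (op U') y) ∈ Set.range ((bigMap a).app (op ((Over.map f).obj ((EtFppf.a X').obj U')))) :=
      mem_range_of_geo a _ fun H c hH => by
        obtain ⟨V, b, r, w, hb, hw⟩ := exists_lift_sect hφ hf hH c hy
        obtain ⟨g, rfl⟩ := hpb V r w hw
        exact ⟨(bigP _).map b.op (sb _ V g), by rw [bigMap_map, ← sb_app, hb]⟩
    obtain ⟨t, ht⟩ := hmem
    obtain ⟨x, rfl⟩ := (bijective_tau f (pullback η m) U').2 t
    refine ⟨x, app_injective_of_mono α U' ((bijective_tau f F U').1 ?_)⟩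
    rw [show α.hom.app (op U') (ψ₀.hom.app (op U') x) = ((EtDesc.pullSh f).map a).hom.app (op U') x from
      congrArg (fun k => k.hom.app (op U') x) hψ, tau_pullMap, ht]
  haveI : ∀ U', IsIso (ψ₀.hom.app U') := fun U' => (isIso_iff_bijective _).2
    ⟨fun x y hxy => hinj U'.unop (by
      rw [← hψ]
      exact congrArg (α.hom.app U') hxy), hsurj U'.unop⟩
  haveI : IsIso ψ₀.hom := NatIso.isIso_of_isIso_app _
  haveI : IsIso ((sheafToPresheaf _ _).map ψ₀) := ‹IsIso ψ₀.hom›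
  haveI : IsIso ψ₀ := isIso_of_reflects_iso _ (sheafToPresheaf _ _)
  exact ⟨pullback η m, a, inferInstance, asIso ψ₀, hψ⟩

end

end EtProperH0Lib
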