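import Groth.Agent.EtProperH0Lib.EffApps

/-!
# Effective descent over a discrete base
-/

set_option autoImplicit false
set_option linter.style.haveILetI false
set_option linter.unusedSectionVars false
set_option backward.isDefEq.respectTransparency false
set_option backward.isDefEq.respectTransparency.types false
universe u

open CategoryTheory CategoryTheory.Limits AlgebraicGeometry Opposite EtDescentLib Groth.Agent.EtShLib

namespace EtProperH0Lib

noncomputable section

theorem univSubmersive_of_isPullback {T S T' S' : Scheme.{u}} {h : T ⟶ S} (hh : EtDesc.IsUnivSubmersive h)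
    {p : T' ⟶ T} {h' : T' ⟶ S'} {q : S' ⟶ S} (sq : IsPullback p h' h q) : EtDesc.IsUnivSubmersive h' := fun _ v =>
  isQuotientMap_of_isPullback hh ((IsPullback.of_hasPullback h' v).flip.flip.paste_horiz sq)

/-- Over a discrete base a surjection has, locally on the base, a good multisection. -/
theorem exists_section_of_discrete {X Y X₁ Y₁ : Scheme.{u}} (g : X ⟶ Y) [Surjective g] [DiscreteTopology Y]
    {g₁ : X₁ ⟶ Y₁} {b' : X₁ ⟶ X} {b : Y₁ ⟶ Y} (H : IsPullback b' g₁ g b) (y : Y₁) :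
    ∃ (U : Y₁.Opens) (T : Scheme.{u}) (h : T ⟶ U.toScheme) (t : T ⟶ X₁), y ∈ U ∧ t ≫ g₁ = h ≫ U.ι ∧
      EtDesc.IsUnivSubmersive h ∧ IsAffineHom h ∧ EtAcyc.IsULocZeroAcyclic h := by
  obtain ⟨Y0, hY0, hy0, hsub⟩ := exists_isAffineOpen_mem_and_subset (x := b.base y)
    (U := ⟨{b.base y}, isOpen_discrete _⟩) rfl
  obtain ⟨x, hx⟩ := g.surjective (b.base y)
  haveI : IsAffine Y0.toScheme := hY0
  haveI : Subsingleton Y0.toScheme := ⟨fun p q => Subtype.ext ((hsub p.2).trans (hsub q.2).symm)⟩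
  haveI : DiscreteTopology Y0.toScheme := inferInstance
  let j := X.fromSpecResidueField x
  have hr : Set.range (j ≫ g).base ⊆ Set.range Y0.ι.base := by
    rintro _ ⟨z, rfl⟩
    rw [Scheme.Opens.range_ι]
    show g.base (j.base z) ∈ Y0
    rw [Scheme.fromSpecResidueField_apply, hx]
    exact hy0
  let k := IsOpenImmersion.lift Y0.ι (j ≫ g) hr
  have hk : k ≫ Y0.ι = j ≫ g := IsOpenImmersion.lift_fac _ _ _
  have hsk : EtDesc.IsUnivSubmersive k := by
    obtain ⟨⟨p, φ⟩, hpφ⟩ := (Scheme.SpecToEquivOfField _ Y0.toScheme).symm.surjective k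
    have e : k = Spec.map φ ≫ Y0.toScheme.fromSpecResidueField p := hpφ.symm
    rw [e]
    haveI : Surjective (Y0.toScheme.fromSpecResidueField p) := ⟨fun q => ⟨IsLocalRing.closedPoint _,
      Subsingleton.elim _ _⟩⟩
    haveI : IsClosedImmersion (Y0.toScheme.fromSpecResidueField p) :=
      IsClosedImmersion.iff_isPreimmersion.2 ⟨inferInstance, by
        rw [Scheme.range_fromSpecResidueField]; exact isClosed_discrete _⟩
    haveI : Surjective (Spec.map φ) := ⟨fun q => ⟨IsLocalRing.closedPoint _, Subsingleton.elim _ _⟩⟩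
    exact univSubmersive_of_point (Y0.toScheme.fromSpecResidueField p) (Spec.map φ)
  have sq := IsPullback.of_hasPullback k (b ∣_ Y0)
  refine ⟨b ⁻¹ᵁ Y0, pullback k (b ∣_ Y0), pullback.snd k (b ∣_ Y0),
    H.lift (pullback.fst k (b ∣_ Y0) ≫ j) (pullback.snd k (b ∣_ Y0) ≫ (b ⁻¹ᵁ Y0).ι) ?_, hy0, H.lift_snd _ _ _,
    univSubmersive_of_isPullback hsk sq, MorphismProperty.pullback_snd _ _ inferInstance,
    isULocZeroAcyclic_of_isPullback (isULocZeroAcyclic_of_discrete k) sq⟩
  rw [Category.assoc, ← hk, pullback.condition_assoc, morphismRestrict_ι, Category.assoc]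

theorem univSubmersive_of_discrete {X Y X₁ Y₁ : Scheme.{u}} (g : X ⟶ Y) [Surjective g] [DiscreteTopology Y]
    {g₁ : X₁ ⟶ Y₁} {b' : X₁ ⟶ X} {b : Y₁ ⟶ Y} (H : IsPullback b' g₁ g b) : EtDesc.IsUnivSubmersive g₁ := by
  intro V v
  have sq := (IsPullback.of_hasPullback g₁ v).paste_horiz H
  haveI : Surjective (pullback.snd g₁ v) := MorphismProperty.of_isPullback (P := @Surjective) sq inferInstance
  refine ⟨(pullback.snd g₁ v).surjective, (Topology.isQuotientMap_iff _).2 ⟨Topology.isCoinducing_iff.2 fun s =>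
    ⟨fun hs => ?_, fun hs => hs.preimage (pullback.snd g₁ v).continuous⟩, (pullback.snd g₁ v).surjective⟩⟩
  refine isOpen_iff_forall_mem_open.2 fun y hy => ?_
  obtain ⟨U, T, h, t, hyU, w, hh, -, -⟩ := exists_section_of_discrete g sq y
  have hq := isQuotientMap_of_isPullback hh (IsPullback.id_vert h).flip
  have h1 : IsOpen (U.ι.base ⁻¹' s) := by
    rw [← hq.2.isOpen_preimage]
    have := hs.preimage t.continuous
    rw [← Set.preimage_comp, ← TopCat.coe_comp, ← Scheme.Hom.comp_base, w, Scheme.Hom.comp_base, TopCat.coe_comp,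
      Set.preimage_comp] at this
    exact this
  exact ⟨U.ι.base '' (U.ι.base ⁻¹' s), Set.image_preimage_subset _ _, U.ι.isOpenEmbedding.isOpenMap _ h1,
    ⟨⟨y, hyU⟩, hy, rfl⟩⟩

/-- Surjections to a discrete scheme are universally of effective descent. -/
theorem isEffective_of_discrete {X Y X₁ Y₁ : Scheme.{u}} (g : X ⟶ Y) [Surjective g] [DiscreteTopology Y]
    {g₁ : X₁ ⟶ Y₁} {b' : X₁ ⟶ X} {b : Y₁ ⟶ Y} (H : IsPullback b' g₁ g b) {F' : EtDesc.Sh X₁}
    {φ : (EtDesc.pullSh (pullback.fst g₁ g₁)).obj F' ≅ (EtDesc.pullSh (pullback.snd g₁ g₁)).obj F'}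
    (hφ : EtDesc.IsCocycle F' φ) : EtDesc.IsEffective g₁ F' φ := by
  refine isEffective_of_multisections (univSubmersive_of_discrete g H) hφ fun y => ?_
  obtain ⟨U, T, h, t, hyU, w, hh, ha, hl⟩ := exists_section_of_discrete g H y
  haveI := ha
  haveI : IsAffineHom (pullback.fst h h) := MorphismProperty.pullback_fst _ _ ha
  haveI : IsAffineHom (tSq h) := MorphismProperty.comp_mem _ _ _ this ha
  exact ⟨U.toScheme, T, U.ι, inferInstance, h, t, w, ⟨⟨y, hyU⟩, rfl⟩, hh,
    fun G V => (phi_bijective_of_bc h h G (isIso_baseChange0Sh_of_uloc (IsPullback.of_hasPullback h h) hl G) V).2,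
    fun G V => (phi_bijective_of_bc (tSq h) h G
      (isIso_baseChange0Sh_of_uloc (IsPullback.of_hasPullback (tSq h) h) hl G) V).1⟩

end

end EtProperH0Lib
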