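import Groth.Agent.EtProperH0Lib.EffApps
import Groth.Agent.FlatLib.QFCover

/-!
# Effective descent along fppf coverings
-/

set_option autoImplicit false
universe u

open CategoryTheory CategoryTheory.Limits AlgebraicGeometry

namespace EtProperH0Lib

/-- An fppf covering has étale locally a finite surjective multisection. -/
theorem exists_finite_multisection {S₁ S : Scheme.{u}} (g : S₁ ⟶ S) [Flat g] [LocallyOfFinitePresentation g]
    [Surjective g] (s : S) :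
    ∃ (S' V : Scheme.{u}) (e : S' ⟶ S) (π : V ⟶ S'), Etale e ∧ s ∈ Set.range ⇑e ∧ Surjective π ∧ IsFinite π ∧
      ∃ r : V ⟶ S₁, r ≫ g = π ≫ e := by
  obtain ⟨U, hU, hsU, -⟩ := exists_isAffineOpen_mem_and_subset (x := s) (U := (⊤ : S.Opens)) trivial
  obtain ⟨x, hx⟩ := Surjective.surj (f := g) s
  obtain ⟨W, hW, hxW, hWU⟩ := exists_isAffineOpen_mem_and_subset (x := x) (U := g ⁻¹ᵁ U) (by show g x ∈ U; rw [hx]; exact hsU)
  let φ := g.appLE U W hWU
  letI := φ.hom.toAlgebra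
  haveI : Algebra.FinitePresentation Γ(S, U) Γ(S₁, W) :=
    LocallyOfFinitePresentation.finitePresentation_appLE g hU hW hWU
  haveI : Module.Flat Γ(S, U) Γ(S₁, W) := Flat.flat_appLE g hU hW hWU
  let p := hU.primeIdealOf ⟨s, hsU⟩
  have hp : p ∈ Set.range (PrimeSpectrum.comap (algebraMap Γ(S, U) Γ(S₁, W))) := by
    refine ⟨hW.primeIdealOf ⟨x, hxW⟩, ?_⟩
    have := IsAffineOpen.comap_primeIdealOf_appLE (f := g) U hU W hW hWU hxW
    refine this.trans ?_
    congr 1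
    exact Subtype.ext hx
  obtain ⟨D, _, _, ⟨hqf, hfp, hfl, ⟨ψ⟩⟩, O, -, hpO, hO⟩ := FlatLib.exists_qf_nhd (B := Γ(S₁, W)) p hp
  obtain ⟨z, hz⟩ := hO hpO
  let a : CommRingCat.of Γ(S, U) ⟶ CommRingCat.of D := CommRingCat.ofHom (algebraMap Γ(S, U) D)
  let f : Spec (.of D) ⟶ Spec Γ(S, U) := Spec.map a
  haveI : LocallyOfFinitePresentation f :=
    HasRingHomProperty.Spec_iff.mpr (RingHom.finitePresentation_algebraMap.mpr hfp)
  haveI : Flat f := HasRingHomProperty.Spec_iff.mpr (RingHom.flat_algebraMap_iff.mpr hfl)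
  haveI : LocallyQuasiFinite f :=
    HasRingHomProperty.Spec_iff.mpr (RingHom.quasiFinite_algebraMap.mpr hqf)
  let r : Spec (.of D) ⟶ S₁ := Spec.map (CommRingCat.ofHom ψ.toRingHom) ≫ hW.fromSpec
  have hr : r ≫ g = f ≫ hU.fromSpec := by
    rw [Category.assoc, ← IsAffineOpen.SpecMap_appLE_fromSpec g hU hW hWU, ← Category.assoc, ← Spec.map_comp]
    congr 2
    ext a
    exact ψ.commutes a
  have hfz : f z = p := hz
  have hqfz : f.QuasiFiniteAt z := f.quasiFiniteAt z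
  obtain ⟨T, j, hj, ⟨t₀, ht₀⟩, V, V', v, -, hfin, hv⟩ := exists_etale_isCompl_of_quasiFiniteAt f hfz hqfz
  let π₀ := V.ι ≫ pullback.snd f j
  have ht : j (π₀ v) = p := by
    rw [← hfz, ← hv]
    show (V.ι ≫ pullback.snd f j ≫ j) v = (V.ι ≫ pullback.fst f j ≫ f) v
    rw [pullback.condition]
  let S' : T.Opens := ⟨Set.range π₀, π₀.isOpenMap.isOpen_range⟩
  haveI := hfin
  refine ⟨S'.toScheme, (π₀ ⁻¹ᵁ S').toScheme, S'.ι ≫ j ≫ hU.fromSpec, π₀ ∣_ S', inferInstance, ?_, ⟨?_⟩,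
    inferInstance, (π₀ ⁻¹ᵁ S').ι ≫ V.ι ≫ pullback.fst f j ≫ r, ?_⟩
  · refine ⟨⟨π₀ v, v, rfl⟩, ?_⟩
    show hU.fromSpec (j (π₀ v)) = s
    rw [ht]
    exact hU.fromSpec_primeIdealOf ⟨s, hsU⟩
  · rintro ⟨y, w, hw⟩
    refine ⟨⟨w, ⟨w, rfl⟩⟩, Subtype.ext ?_⟩
    rw [morphismRestrict_base_coe]
    exact hw
  · simp only [Category.assoc, hr, pullback.condition_assoc, morphismRestrict_ι_assoc, π₀]

/-- Descent of étale sheaves of sets along fppf coverings is effective. -/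
theorem isEffective_of_fppf {X' X : Scheme.{u}} (f : X' ⟶ X) [Surjective f] [Flat f] [LocallyOfFinitePresentation f]
    {F' : EtDesc.Sh X'}
    {φ : (EtDesc.pullSh (pullback.fst f f)).obj F' ≅ (EtDesc.pullSh (pullback.snd f f)).obj F'}
    (hφ : EtDesc.IsCocycle F' φ) : EtDesc.IsEffective f F' φ := by
  refine isEffective_of_finite_multisections (univSubmersive_of_universallyOpen f) hφ fun y => ?_
  obtain ⟨U0, T, u₀, h, he, hy, hs, hfin, g, w⟩ := exists_finite_multisection f y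
  haveI := hfin
  exact ⟨U0, T, u₀, he, h, g, inferInstance, hs, w, hy⟩

end EtProperH0Lib
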