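import Groth.Agent.EtProperH0Lib.EffGlue

/-!
# Germs of glued sections from local multisections
-/

set_option autoImplicit false
set_option linter.style.haveILetI false
set_option linter.unusedSectionVars false
set_option backward.isDefEq.respectTransparency false
set_option backward.isDefEq.respectTransparency.types false
universe u

open CategoryTheory CategoryTheory.Limits AlgebraicGeometry Opposite EtDescentLib Groth.Agent.EtShLib

namespace EtProperH0Lib

noncomputable section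

attribute [local irreducible] gamma mIso

variable {X' X : Scheme.{u}} {f : X' ⟶ X} {F' : EtDesc.Sh X'}
  {φ : (EtDesc.pullSh (pullback.fst f f)).obj F' ≅ (EtDesc.pullSh (pullback.snd f f)).obj F'}

/-- Compatible sections over the base change of a multisection. -/
def GoodT {U0 T : Scheme.{u}} (h : T ⟶ U0) (g : T ⟶ X') (φ : (EtDesc.pullSh (pullback.fst f f)).obj F' ≅
      (EtDesc.pullSh (pullback.snd f f)).obj F') (W : Over U0)
    (σ : (bigP F').obj (op (Over.mk (pullback.snd W.hom h ≫ g)))) : Prop :=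
  ∀ (G : Scheme.{u}) (a₁ a₂ : G ⟶ X') (w : a₁ ≫ f = a₂ ≫ f) (c₁ : Over.mk a₁ ⟶ Over.mk (pullback.snd W.hom h ≫ g))
    (c₂ : Over.mk a₂ ⟶ Over.mk (pullback.snd W.hom h ≫ g)),
    c₁.left ≫ pullback.fst W.hom h = c₂.left ≫ pullback.fst W.hom h →
    tr φ a₁ a₂ w ((bigP F').map c₁.op σ) = (bigP F').map c₂.op σ

/-- A morphism of bases, on the base changes. -/
def pbMap {U0 T : Scheme.{u}} (h : T ⟶ U0) (g : T ⟶ X') {W W' : Over U0} (k : W' ⟶ W) :
    Over.mk (pullback.snd W'.hom h ≫ g) ⟶ Over.mk (pullback.snd W.hom h ≫ g) :=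
  (Over.map g).map ((Over.pullback h).map k)

theorem pbMap_fst {U0 T : Scheme.{u}} (h : T ⟶ U0) (g : T ⟶ X') {W W' : Over U0} (k : W' ⟶ W) :
    (pbMap h g k).left ≫ pullback.fst W.hom h = pullback.fst W'.hom h ≫ k.left :=
  pullback.lift_fst _ _ _

theorem pbMap_comp {U0 T : Scheme.{u}} (h : T ⟶ U0) (g : T ⟶ X') {W W' W'' : Over U0} (l : W'' ⟶ W') (k : W' ⟶ W) :
    pbMap h g (l ≫ k) = pbMap h g l ≫ pbMap h g k := by
  unfold pbMap
  rw [Functor.map_comp, Functor.map_comp]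

/-- The structure map of the square of a multisection. -/
abbrev tSq {U0 T : Scheme.{u}} (h : T ⟶ U0) : pullback h h ⟶ U0 := pullback.fst h h ≫ h

/-- The second projection, composed to the source. -/
abbrev tSnd {U0 T : Scheme.{u}} (h : T ⟶ U0) (g : T ⟶ X') : pullback h h ⟶ X' := pullback.snd h h ≫ g

/-- The first projection of the square over a base. -/
def tFst {U0 T : Scheme.{u}} (h : T ⟶ U0) (g : T ⟶ X') (W : Over U0) :
    Over.mk (pullback.snd W.hom (tSq h) ≫ pullback.fst h h ≫ g) ⟶ Over.mk (pullback.snd W.hom h ≫ g) :=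
  Over.homMk (pullback.lift (pullback.fst W.hom (tSq h)) (pullback.snd W.hom (tSq h) ≫ pullback.fst h h)
      (by rw [Category.assoc]; exact pullback.condition))
    (by
      show pullback.lift _ _ _ ≫ pullback.snd W.hom h ≫ g = _
      rw [pullback.lift_snd_assoc, Category.assoc]
      rfl)

/-- The second projection of the square over a base. -/
def tSndHom {U0 T : Scheme.{u}} (h : T ⟶ U0) (g : T ⟶ X') (W : Over U0) :
    Over.mk (pullback.snd W.hom (tSq h) ≫ tSnd h g) ⟶ Over.mk (pullback.snd W.hom h ≫ g) :=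
  Over.homMk (pullback.lift (pullback.fst W.hom (tSq h)) (pullback.snd W.hom (tSq h) ≫ pullback.snd h h)
      (by rw [Category.assoc, ← pullback.condition (f := h) (g := h)]; exact pullback.condition))
    (by
      show pullback.lift _ _ _ ≫ pullback.snd W.hom h ≫ g = _
      rw [pullback.lift_snd_assoc, Category.assoc]
      rfl)

theorem pbMap_snd {U0 T : Scheme.{u}} (h : T ⟶ U0) (g : T ⟶ X') {W W' : Over U0} (k : W' ⟶ W) :
    (pbMap h g k).left ≫ pullback.snd W.hom h = pullback.snd W'.hom h :=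
  pullback.lift_snd _ _ _

theorem pbMap_tFst {U0 T : Scheme.{u}} (h : T ⟶ U0) (g : T ⟶ X') {W W' : Over U0} (k : W' ⟶ W) :
    pbMap (tSq h) (pullback.fst h h ≫ g) k ≫ tFst h g W = tFst h g W' ≫ pbMap h g k := by
  refine Over.OverMorphism.ext (pullback.hom_ext ?_ ?_)
  · show ((pbMap (tSq h) (pullback.fst h h ≫ g) k).left ≫ pullback.lift _ _ _) ≫ pullback.fst W.hom h =
      (pullback.lift _ _ _ ≫ (pbMap h g k).left) ≫ pullback.fst W.hom h
    rw [Category.assoc, Category.assoc, pullback.lift_fst, pbMap_fst, pbMap_fst, pullback.lift_fst_assoc]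
  · show ((pbMap (tSq h) (pullback.fst h h ≫ g) k).left ≫ pullback.lift _ _ _) ≫ pullback.snd W.hom h =
      (pullback.lift _ _ _ ≫ (pbMap h g k).left) ≫ pullback.snd W.hom h
    rw [Category.assoc, Category.assoc, pullback.lift_snd, pbMap_snd, reassoc_of% pbMap_snd (tSq h) _ k,
      pullback.lift_snd]

theorem pbMap_tSndHom {U0 T : Scheme.{u}} (h : T ⟶ U0) (g : T ⟶ X') {W W' : Over U0} (k : W' ⟶ W) :
    pbMap (tSq h) (tSnd h g) k ≫ tSndHom h g W = tSndHom h g W' ≫ pbMap h g k := by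
  refine Over.OverMorphism.ext (pullback.hom_ext ?_ ?_)
  · show ((pbMap (tSq h) (tSnd h g) k).left ≫ pullback.lift _ _ _) ≫ pullback.fst W.hom h =
      (pullback.lift _ _ _ ≫ (pbMap h g k).left) ≫ pullback.fst W.hom h
    rw [Category.assoc, Category.assoc, pullback.lift_fst, pbMap_fst, pbMap_fst, pullback.lift_fst_assoc]
  · show ((pbMap (tSq h) (tSnd h g) k).left ≫ pullback.lift _ _ _) ≫ pullback.snd W.hom h =
      (pullback.lift _ _ _ ≫ (pbMap h g k).left) ≫ pullback.snd W.hom h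
    rw [Category.assoc, Category.assoc, pullback.lift_snd, pbMap_snd, reassoc_of% pbMap_snd (tSq h) _ k,
      pullback.lift_snd]

theorem pb_comm {U0 T : Scheme.{u}} {u₀ : U0 ⟶ X} {h : T ⟶ U0} {g : T ⟶ X'} (w : g ≫ f = h ≫ u₀) (W : Over U0) :
    (pullback.snd W.hom (tSq h) ≫ pullback.fst h h ≫ g) ≫ f = (pullback.snd W.hom (tSq h) ≫ tSnd h g) ≫ f := by
  simp only [Category.assoc, w, pullback.condition_assoc]

/-- The gluing condition over the square implies the condition for all test schemes. -/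
theorem goodT_of_univ {U0 T : Scheme.{u}} {u₀ : U0 ⟶ X} {h : T ⟶ U0} {g : T ⟶ X'} (w : g ≫ f = h ≫ u₀) (W : Over U0)
    (σ : (bigP F').obj (op (Over.mk (pullback.snd W.hom h ≫ g))))
    (hσ : tr φ _ _ (pb_comm w W) ((bigP F').map (tFst h g W).op σ) = (bigP F').map (tSndHom h g W).op σ) :
    GoodT h g φ W σ := by
  intro G a₁ a₂ wa c₁ c₂ hc
  let τ₁ := c₁.left ≫ pullback.snd W.hom h
  let τ₂ := c₂.left ≫ pullback.snd W.hom h
  have h₁₂ : τ₁ ≫ h = τ₂ ≫ h := by
    show (c₁.left ≫ pullback.snd W.hom h) ≫ h = (c₂.left ≫ pullback.snd W.hom h) ≫ h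
    rw [Category.assoc, Category.assoc, ← pullback.condition, reassoc_of% hc]
  let l : G ⟶ pullback W.hom (tSq h) := pullback.lift (c₁.left ≫ pullback.fst W.hom h) (pullback.lift τ₁ τ₂ h₁₂) (by
    rw [pullback.lift_fst_assoc, Category.assoc, pullback.condition]
    exact (Category.assoc _ _ _).symm)
  let d₁ : Over.mk a₁ ⟶ Over.mk (pullback.snd W.hom (tSq h) ≫ pullback.fst h h ≫ g) := Over.homMk l (by
    show l ≫ pullback.snd W.hom (tSq h) ≫ pullback.fst h h ≫ g = a₁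
    rw [pullback.lift_snd_assoc, pullback.lift_fst_assoc]
    exact (Category.assoc _ _ _).trans (Over.w c₁))
  let d₂ : Over.mk a₂ ⟶ Over.mk (pullback.snd W.hom (tSq h) ≫ tSnd h g) := Over.homMk l (by
    show l ≫ pullback.snd W.hom (tSq h) ≫ pullback.snd h h ≫ g = a₂
    rw [pullback.lift_snd_assoc, pullback.lift_snd_assoc]
    exact (Category.assoc _ _ _).trans (Over.w c₂))
  have e₁ : d₁ ≫ tFst h g W = c₁ := by
    refine Over.OverMorphism.ext (pullback.hom_ext ?_ ?_)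
    · show (l ≫ pullback.lift _ _ _) ≫ pullback.fst W.hom h = c₁.left ≫ pullback.fst W.hom h
      simp [l]
    · show (l ≫ pullback.lift _ _ _) ≫ pullback.snd W.hom h = c₁.left ≫ pullback.snd W.hom h
      simp [l, τ₁]
  have e₂ : d₂ ≫ tSndHom h g W = c₂ := by
    refine Over.OverMorphism.ext (pullback.hom_ext ?_ ?_)
    · show (l ≫ pullback.lift _ _ _) ≫ pullback.fst W.hom h = c₂.left ≫ pullback.fst W.hom h
      simp [l, hc]
    · show (l ≫ pullback.lift _ _ _) ≫ pullback.snd W.hom h = c₂.left ≫ pullback.snd W.hom h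
      simp [l, τ₂]
  rw [← e₁, ← e₂, map_comp_apply', map_comp_apply', tr_map φ (pb_comm w W) wa d₁ d₂ rfl, hσ]

theorem GoodT.univ {U0 T : Scheme.{u}} {u₀ : U0 ⟶ X} {h : T ⟶ U0} {g : T ⟶ X'} (w : g ≫ f = h ≫ u₀) {W : Over U0}
    {σ : (bigP F').obj (op (Over.mk (pullback.snd W.hom h ≫ g)))} (hσ : GoodT h g φ W σ) :
    tr φ _ _ (pb_comm w W) ((bigP F').map (tFst h g W).op σ) = (bigP F').map (tSndHom h g W).op σ := by
  refine hσ _ _ _ (pb_comm w W) (tFst h g W) (tSndHom h g W) ?_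
  show pullback.lift _ _ _ ≫ pullback.fst W.hom h = pullback.lift _ _ _ ≫ pullback.fst W.hom h
  rw [pullback.lift_fst, pullback.lift_fst]

theorem GoodT.map {U0 T : Scheme.{u}} {h : T ⟶ U0} {g : T ⟶ X'} {W W' : Over U0} (k : W' ⟶ W)
    {σ : (bigP F').obj (op (Over.mk (pullback.snd W.hom h ≫ g)))} (hσ : GoodT h g φ W σ) :
    GoodT h g φ W' ((bigP F').map (pbMap h g k).op σ) := by
  intro G a₁ a₂ w c₁ c₂ hc
  rw [← map_comp_apply', ← map_comp_apply']
  refine hσ G a₁ a₂ w _ _ ?_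
  rw [Over.comp_left, Over.comp_left, Category.assoc, Category.assoc, pbMap_fst, reassoc_of% hc]

/-- The constant extension of a section over a multisection. -/
theorem exists_goodT_const (hφ : EtDesc.IsCocycle F' φ) {U0 T : Scheme.{u}} {u₀ : U0 ⟶ X} {h : T ⟶ U0} {g : T ⟶ X'}
    (w : g ≫ f = h ≫ u₀) (V : Over T) (z : (bigP F').obj (op ((Over.map g).obj V))) :
    ∃ w₀ : (bigP F').obj (op (Over.mk (pullback.snd ((Over.map h).obj V).hom h ≫ g))),
      GoodT h g φ ((Over.map h).obj V) w₀ ∧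
        ∀ (G : Scheme.{u}) (a : G ⟶ X') (c : Over.mk a ⟶ Over.mk (pullback.snd ((Over.map h).obj V).hom h ≫ g))
          (cV : Over.mk a ⟶ (Over.map g).obj V), cV.left = c.left ≫ pullback.fst ((Over.map h).obj V).hom h →
          (bigP F').map c.op w₀ = (bigP F').map cV.op z := by
  let pT := pullback.snd ((Over.map h).obj V).hom h
  let pV : pullback ((Over.map h).obj V).hom h ⟶ V.left := pullback.fst ((Over.map h).obj V).hom h
  let b₁ := (pV ≫ V.hom) ≫ g
  let kV : Over.mk b₁ ⟶ (Over.map g).obj V := Over.homMk pV (Category.assoc _ _ _).symm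
  have hb : b₁ ≫ f = (pT ≫ g) ≫ f := by
    have e0 : (pV ≫ V.hom) ≫ h = pT ≫ h := by
      rw [Category.assoc]
      exact pullback.condition
    simp only [b₁, Category.assoc, w]
    simpa only [Category.assoc] using congrArg (· ≫ u₀) e0
  refine ⟨tr φ b₁ (pT ≫ g) hb ((bigP F').map kV.op z), fun G a₁ a₂ wa c₁ c₂ hc => ?_, fun G a c cV hcV => ?_⟩
  · let l₁ : Over.mk (c₁.left ≫ b₁) ⟶ Over.mk b₁ := Over.homMk c₁.left rfl
    let l₂ : Over.mk (c₂.left ≫ b₁) ⟶ Over.mk b₁ := Over.homMk c₂.left rfl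
    have v₁ : (c₁.left ≫ b₁) ≫ f = a₁ ≫ f := by
      rw [Category.assoc, hb, ← Category.assoc]
      exact congrArg (· ≫ f) (Over.w c₁)
    have v₂ : (c₂.left ≫ b₁) ≫ f = a₂ ≫ f := by
      rw [Category.assoc, hb, ← Category.assoc]
      exact congrArg (· ≫ f) (Over.w c₂)
    have hl : c₁.left ≫ b₁ = c₂.left ≫ b₁ := by
      simp only [b₁, pV, Category.assoc]
      rw [reassoc_of% hc]
    rw [← tr_map φ hb v₁ l₁ c₁ rfl, ← tr_map φ hb v₂ l₂ c₂ rfl, tr_trans hφ]
    let e : Over.mk (c₂.left ≫ b₁) ⟶ Over.mk (c₁.left ≫ b₁) := eqToHom (by rw [hl])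
    have he : (bigP F').map l₂.op ((bigP F').map kV.op z) =
        (bigP F').map e.op ((bigP F').map l₁.op ((bigP F').map kV.op z)) := by
      rw [← map_comp_apply', ← map_comp_apply', ← map_comp_apply']
      refine congrArg (fun m => (bigP F').map (Quiver.Hom.op m) z) (Over.OverMorphism.ext ?_)
      have he1 : e.left = 𝟙 G := by
        simp only [e, Over.eqToHom_left]
        rfl
      show c₂.left ≫ pV = e.left ≫ c₁.left ≫ pV
      rw [he1]
      exact hc.symm.trans (Category.id_comp _).symm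
    rw [he]
    generalize (bigP F').map l₁.op ((bigP F').map kV.op z) = t
    clear he
    have : ∀ (b b' : G ⟶ X') (hbb : b = b') (v : b ≫ f = a₂ ≫ f) (v' : b' ≫ f = a₂ ≫ f) (t : (bigP F').obj (op (Over.mk b)))
        (e : Over.mk b' ⟶ Over.mk b), e = eqToHom (by rw [hbb]) →
        tr φ b a₂ v t = tr φ b' a₂ v' ((bigP F').map e.op t) := by
      rintro b b' rfl v v' t e rfl
      rw [eqToHom_refl, op_id, FunctorToTypes.map_id_apply]
    exact this _ _ hl _ v₂ t e rfl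
  · have hca : (c.left ≫ b₁) = a := by
      refine Eq.trans ?_ (Over.w cV)
      rw [hcV]
      show c.left ≫ (pV ≫ V.hom) ≫ g = (c.left ≫ pV) ≫ V.hom ≫ g
      simp only [Category.assoc]
    let l₁ : Over.mk a ⟶ Over.mk b₁ := Over.homMk c.left hca
    rw [← tr_map φ hb rfl l₁ c rfl, tr_self hφ, ← map_comp_apply']
    exact congrArg (fun m => (bigP F').map (Quiver.Hom.op m) z) (Over.OverMorphism.ext hcV.symm)

theorem mu_phi {U0 T : Scheme.{u}} (h : T ⟶ U0) (g : T ⟶ X') (U : U0.Etale)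
    (s : EtDesc.sect ((EtDesc.pushSh h).obj ((EtDesc.pullSh g).obj F')) U) {W : Over U0}
    (k : W ⟶ (EtFppf.a U0).obj U) :
    mu g F' ((Over.pullback h).obj W) ((phi h ((EtDesc.pullSh g).obj F')).hom.app (op W)
        ((bigP ((EtDesc.pushSh h).obj ((EtDesc.pullSh g).obj F'))).map k.op
          (sb ((EtDesc.pushSh h).obj ((EtDesc.pullSh g).obj F')) U s))) =
      (bigP F').map (pbMap h g k).op (tau g F' ((EtCoh.bc h).obj U) s) := by
  have h1 : (phi h ((EtDesc.pullSh g).obj F')).hom.app (op W)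
        ((bigP ((EtDesc.pushSh h).obj ((EtDesc.pullSh g).obj F'))).map k.op
          (sb ((EtDesc.pushSh h).obj ((EtDesc.pullSh g).obj F')) U s)) =
      (bigP ((EtDesc.pullSh g).obj F')).map ((Over.pullback h).map k).op
        (sb ((EtDesc.pullSh g).obj F') ((EtCoh.bc h).obj U) s) := by
    refine (NatTrans.naturality_apply (phi h ((EtDesc.pullSh g).obj F')).hom k.op _).trans ?_
    exact congrArg _ (phi_app_apply h ((EtDesc.pullSh g).obj F') U s)
  rw [h1, mu_map, ← mu_unit]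
  rfl

/-- Sections over a multisection near a geometric point. -/
theorem exists_goodT (hφ : EtDesc.IsCocycle F' φ) {U0 T : Scheme.{u}} {u₀ : U0 ⟶ X} {h : T ⟶ U0} {g : T ⟶ X'}
    (w : g ≫ f = h ≫ u₀)
    (hA : ∀ (G : EtDesc.Sh T) (V : T.Etale),
      Function.Surjective ((phi h G).hom.app (op ((Over.map h).obj ((EtFppf.a T).obj V)))))
    (hB : ∀ (G : EtDesc.Sh (pullback h h)) (V : T.Etale),
      Function.Injective ((phi (tSq h) G).hom.app (op ((Over.map h).obj ((EtFppf.a T).obj V)))))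
    {H : Scheme.{u}} (hH : IsGeo H) (τ : H ⟶ T) (x : (bigP F').obj (op (Over.mk (τ ≫ g)))) :
    ∃ (U : U0.Etale) (σ : (bigP F').obj (op (Over.mk (pullback.snd U.hom h ≫ g))))
      (c : Over.mk (τ ≫ g) ⟶ Over.mk (pullback.snd U.hom h ≫ g)),
      GoodT h g φ ((EtFppf.a U0).obj U) σ ∧ c.left ≫ pullback.snd U.hom h = τ ∧ (bigP F').map c.op σ = x := by
  let Hτ : Over T := Over.mk τ
  let G₁ := (EtDesc.pullSh g).obj F'
  let P₁ := (EtDesc.pushSh h).obj G₁
  obtain ⟨z₀, hz₀⟩ := (bijective_mu g F' Hτ).2 x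
  obtain ⟨V, -, c, s, -, hs⟩ := exists_etale_nbhd G₁ (show IsGeo Hτ.left from hH) (toTop Hτ) z₀
  let z := mu g F' _ (sb G₁ V s)
  have hz : (bigP F').map ((Over.map g).map c).op z = x := by
    rw [← mu_map, hs, hz₀]
  obtain ⟨w₀, hw₀, hval⟩ := exists_goodT_const hφ w ((EtFppf.a T).obj V) z
  let MV := (Over.map h).obj ((EtFppf.a T).obj V)
  obtain ⟨wT, hwT⟩ := (bijective_mu g F' ((Over.pullback h).obj MV)).2 w₀
  obtain ⟨wh, hwh⟩ := hA G₁ V wT
  let Hh := (Over.map h).obj Hτ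
  let hc : Hh ⟶ MV := (Over.map h).map c
  obtain ⟨U₁, -, b₁, s₁, -, hs₁⟩ := exists_etale_nbhd P₁ (show IsGeo Hh.left from hH) (toTop Hh)
    ((bigP P₁).map hc.op wh)
  let P2 : Over U0 := Over.mk (pullback.fst MV.hom U₁.hom ≫ MV.hom)
  let qV : P2 ⟶ MV := Over.homMk (pullback.fst MV.hom U₁.hom) rfl
  let qU : P2 ⟶ (EtFppf.a U0).obj U₁ := Over.homMk (pullback.snd MV.hom U₁.hom) pullback.condition.symm
  let b₁₂ : Hh ⟶ P2 := Over.homMk (pullback.lift hc.left b₁.left ((Over.w hc).trans (Over.w b₁).symm))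
    ((pullback.lift_fst_assoc _ _ _ _).trans (Over.w hc))
  have hqV : b₁₂ ≫ qV = hc := Over.OverMorphism.ext (pullback.lift_fst _ _ _)
  have hqU : b₁₂ ≫ qU = b₁ := Over.OverMorphism.ext (pullback.lift_snd _ _ _)
  obtain ⟨W', e, he, b', hb', heq⟩ := (hasGerms_bigP P₁).exists_eq b₁₂ (show IsGeo Hh.left from hH)
    ((bigP P₁).map qU.op (sb P₁ U₁ s₁)) ((bigP P₁).map qV.op wh)
    (by rw [← map_comp_apply', ← map_comp_apply', hqU, hqV, hs₁])
  haveI : Etale e.left := he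
  haveI : Etale U₁.hom := U₁.prop
  haveI : Etale V.hom := V.prop
  let V₃ : T.Etale := Scheme.Etale.mk ((e.left ≫ pullback.fst MV.hom U₁.hom) ≫ V.hom)
  let M := (Over.map h).obj ((EtFppf.a T).obj V₃)
  let r : M ⟶ W' := Over.homMk (𝟙 W'.left) (by
    show 𝟙 W'.left ≫ W'.hom = ((e.left ≫ pullback.fst MV.hom U₁.hom) ≫ V.hom) ≫ h
    rw [Category.id_comp, ← Over.w e]
    simp only [Category.assoc]
    rfl)
  let iU : M ⟶ (EtFppf.a U0).obj U₁ := r ≫ e ≫ qU
  let iV : M ⟶ MV := r ≫ e ≫ qV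
  have heq' : (bigP P₁).map iU.op (sb P₁ U₁ s₁) = (bigP P₁).map iV.op wh := by
    rw [map_comp_apply' r, map_comp_apply' e, map_comp_apply' r, map_comp_apply' e, heq]
  let σ := tau g F' ((EtCoh.bc h).obj U₁) s₁
  have hE : (bigP F').map (pbMap h g iU).op σ = (bigP F').map (pbMap h g iV).op w₀ := by
    rw [← mu_phi h g U₁ s₁ iU, heq']
    refine (congrArg (mu g F' _) ((NatTrans.naturality_apply (phi h G₁).hom iV.op wh).trans
      (congrArg ((bigP G₁).map ((Over.pullback h).map iV).op) hwh))).trans ?_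
    rw [mu_map, hwT]
    rfl
  have hgM : GoodT h g φ M ((bigP F').map (pbMap h g iU).op σ) := hE ▸ hw₀.map iV
  -- equality over the square near the point
  let G₂ := (EtDesc.pullSh (tSnd h g)).obj F'
  let P₂ := (EtDesc.pushSh (tSq h)).obj G₂
  let W₁ := (EtFppf.a U0).obj U₁
  obtain ⟨y₁, hy₁⟩ := (bijective_tau (tSnd h g) F' ((EtCoh.bc (tSq h)).obj U₁)).2
    (tr φ (pullback.snd W₁.hom (tSq h) ≫ pullback.fst h h ≫ g) (pullback.snd W₁.hom (tSq h) ≫ tSnd h g) (pb_comm w W₁)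
      ((bigP F').map (tFst h g W₁).op σ))
  obtain ⟨y₂, hy₂⟩ := (bijective_tau (tSnd h g) F' ((EtCoh.bc (tSq h)).obj U₁)).2
    ((bigP F').map (tSndHom h g W₁).op σ)
  have hn₁ := pbMap_tFst h g iU
  have hn₂ := pbMap_tSndHom h g iU
  have hM : (bigP P₂).map iU.op (sb P₂ U₁ y₁) = (bigP P₂).map iU.op (sb P₂ U₁ y₂) := by
    refine hB G₂ V₃ ((bijective_mu (tSnd h g) F' ((Over.pullback (tSq h)).obj M)).1 ?_)
    rw [mu_phi, mu_phi, hy₁, hy₂,
      ← tr_map φ (pb_comm w W₁) (pb_comm w M) (pbMap (tSq h) (pullback.fst h h ≫ g) iU) (pbMap (tSq h) (tSnd h g) iU) rfl,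
      ← map_comp_apply', ← map_comp_apply', hn₁, hn₂, map_comp_apply', map_comp_apply']
    exact GoodT.univ w hgM
  have hpt : b' ≫ e ≫ qU = b₁ := by rw [← Category.assoc, hb', hqU]
  let b₃ : Hh ⟶ M := Over.homMk b'.left (by
    show b'.left ≫ ((e.left ≫ pullback.fst MV.hom U₁.hom) ≫ V.hom) ≫ h = Hh.hom
    refine Eq.trans ?_ (Over.w b')
    rw [← Over.w e]
    simp only [Category.assoc]
    rfl)
  have hb₃ : b₃ ≫ r = b' := Over.OverMorphism.ext (Category.comp_id _)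
  have hiU : b₃ ≫ iU = b₁ := by rw [← Category.assoc, hb₃, hpt]
  have hiV : b₃ ≫ iV = hc := by rw [← Category.assoc, hb₃, ← Category.assoc, hb', hqV]
  have hH2 : (bigP P₂).map b₁.op (sb P₂ U₁ y₁) = (bigP P₂).map b₁.op (sb P₂ U₁ y₂) := by
    rw [← hiU, map_comp_apply' b₃, map_comp_apply' b₃, hM]
  obtain ⟨W₂, e₂, he₂, b₂, hb₂, heq₂⟩ := (hasGerms_bigP P₂).exists_eq b₁ (show IsGeo Hh.left from hH) _ _ hH2
  haveI : Etale e₂.left := he₂
  haveI : Etale W₂.hom := by
    rw [← Over.w e₂]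
    exact inferInstanceAs (Etale (e₂.left ≫ U₁.hom))
  let U : U0.Etale := Scheme.Etale.mk W₂.hom
  let r₂ : (EtFppf.a U0).obj U ⟶ W₂ := Over.homMk (𝟙 W₂.left) (Category.id_comp _)
  let k : (EtFppf.a U0).obj U ⟶ W₁ := r₂ ≫ e₂
  have hgU : GoodT h g φ ((EtFppf.a U0).obj U) ((bigP F').map (pbMap h g k).op σ) := by
    refine goodT_of_univ w _ _ ?_
    have hk : (bigP P₂).map k.op (sb P₂ U₁ y₁) = (bigP P₂).map k.op (sb P₂ U₁ y₂) := by
      rw [map_comp_apply' r₂, map_comp_apply' r₂, heq₂]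
    have hk' := congrArg (fun q => mu (tSnd h g) F' _ ((phi (tSq h) G₂).hom.app (op ((EtFppf.a U0).obj U)) q)) hk
    simp only at hk'
    rw [mu_phi, mu_phi, hy₁, hy₂, ← tr_map φ (pb_comm w W₁) (pb_comm w ((EtFppf.a U0).obj U))
      (pbMap (tSq h) (pullback.fst h h ≫ g) k) (pbMap (tSq h) (tSnd h g) k) rfl] at hk'
    have hm₁ := pbMap_tFst h g k
    have hm₂ := pbMap_tSndHom h g k
    rw [← map_comp_apply', ← map_comp_apply', hm₁, hm₂, map_comp_apply', map_comp_apply'] at hk'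
    exact hk'
  -- the value at the point
  let b : Hh ⟶ (EtFppf.a U0).obj U := Over.homMk b₂.left (Over.w b₂)
  have hbk : b ≫ k = b₁ := by
    rw [← hb₂]
    refine Over.OverMorphism.ext ?_
    show b₂.left ≫ 𝟙 W₂.left ≫ e₂.left = b₂.left ≫ e₂.left
    rw [Category.id_comp]
  let d : Over.mk (τ ≫ g) ⟶ Over.mk (pullback.snd Hh.hom h ≫ g) :=
    Over.homMk (pullback.lift (𝟙 H) τ (Category.id_comp _)) (by
      show pullback.lift (𝟙 H) τ _ ≫ pullback.snd Hh.hom h ≫ g = τ ≫ g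
      rw [pullback.lift_snd_assoc])
  refine ⟨U, (bigP F').map (pbMap h g k).op σ, d ≫ pbMap h g b, hgU, ?_, ?_⟩
  · show (pullback.lift (𝟙 H) τ _ ≫ pullback.lift _ _ _) ≫ pullback.snd U.hom h = τ
    simp
  · refine (map_comp_apply' (P := bigP F') _ _ _).symm.trans ?_
    rw [Category.assoc, ← pbMap_comp, hbk, ← hiU, pbMap_comp, map_comp_apply', map_comp_apply',
      hE, ← map_comp_apply' (pbMap h g b₃), ← pbMap_comp, hiV, ← map_comp_apply',
      hval H (τ ≫ g) (d ≫ pbMap h g hc) ((Over.map g).map c) ?_]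
    · exact hz
    show c.left = (pullback.lift (𝟙 H) τ _ ≫ (pbMap h g hc).left) ≫ pullback.fst MV.hom h
    rw [Category.assoc, pbMap_fst, pullback.lift_fst_assoc]
    rfl

/-- Extension of compatible sections from a multisection to the whole preimage. -/
theorem exists_good_extend (hφ : EtDesc.IsCocycle F' φ) {U0 T : Scheme.{u}} {u₀ : U0 ⟶ X} [Etale u₀] {h : T ⟶ U0}
    {g : T ⟶ X'} (w : g ≫ f = h ≫ u₀) (hh : EtDesc.IsUnivSubmersive h) (U : U0.Etale)
    (σ : (bigP F').obj (op (Over.mk (pullback.snd U.hom h ≫ g)))) (hσ : GoodT h g φ ((EtFppf.a U0).obj U) σ) :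
    ∃ (U₃ : X.Etale) (σ₃ : (bigP F').obj (op (Over.mk (bcHomX f U₃)))) (i : U.left ⟶ U₃.left),
      i ≫ U₃.hom = U.hom ≫ u₀ ∧ Good f φ U₃ σ₃ ∧
        ∀ (G : Scheme.{u}) (a₁ a₂ : G ⟶ X') (wa : a₁ ≫ f = a₂ ≫ f)
          (c₁ : Over.mk a₁ ⟶ Over.mk (pullback.snd U.hom h ≫ g)) (c₂ : Over.mk a₂ ⟶ Over.mk (bcHomX f U₃)),
          IsGeo G → c₂.left ≫ pullback.fst U₃.hom f = c₁.left ≫ pullback.fst U.hom h ≫ i →
          tr φ a₁ a₂ wa ((bigP F').map c₁.op σ) = (bigP F').map c₂.op σ₃ := by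
  haveI : Etale U.hom := U.prop
  let U₃ : X.Etale := Scheme.Etale.mk (U.hom ≫ u₀)
  let π : pullback U₃.hom f ⟶ U.left := pullback.fst U₃.hom f
  let P := pullback (pullback.fst U.hom h) π
  let p : P ⟶ pullback U.hom h := pullback.fst (pullback.fst U.hom h) π
  let q : P ⟶ pullback U₃.hom f := pullback.snd (pullback.fst U.hom h) π
  let b₁ := p ≫ pullback.snd U.hom h ≫ g
  let b₂ := q ≫ bcHomX f U₃
  have hb : b₁ ≫ f = b₂ ≫ f := by
    have e0 : pullback.fst U₃.hom f ≫ U.hom ≫ u₀ = bcHomX f U₃ ≫ f := pullback.condition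
    have e1 : p ≫ pullback.fst U.hom h = q ≫ π := pullback.condition
    have e2 := congrArg (· ≫ U.hom ≫ u₀) e1
    simp only [Category.assoc] at e2
    simp only [b₁, b₂, Category.assoc, w, ← pullback.condition_assoc]
    exact e2.trans (congrArg (q ≫ ·) e0)
  let kp : Over.mk b₁ ⟶ Over.mk (pullback.snd U.hom h ≫ g) := Over.homMk p rfl
  let L : Over X' := Over.mk (bcHomX f U₃)
  let T' : Over X' := Over.mk b₂
  let gT : T' ⟶ L := Over.homMk q rfl
  have hsq : IsPullback (p ≫ pullback.snd U.hom h) q h (π ≫ U.hom) :=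
    IsPullback.paste_horiz (IsPullback.of_hasPullback (pullback.fst U.hom h) π).flip.flip
      (IsPullback.of_hasPullback U.hom h).flip
  have agree : ∀ (G : Scheme.{u}) (a₁ a₂ b : G ⟶ X') (w₁ : a₁ ≫ f = b ≫ f) (w₂ : a₂ ≫ f = b ≫ f)
      (c₁ : Over.mk a₁ ⟶ Over.mk (pullback.snd U.hom h ≫ g)) (c₂ : Over.mk a₂ ⟶ Over.mk (pullback.snd U.hom h ≫ g)),
      c₁.left ≫ pullback.fst U.hom h = c₂.left ≫ pullback.fst U.hom h →
      tr φ a₁ b w₁ ((bigP F').map c₁.op σ) = tr φ a₂ b w₂ ((bigP F').map c₂.op σ) := by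
    intro G a₁ a₂ b w₁ w₂ c₁ c₂ hc
    exact (tr_trans hφ a₁ a₂ b (w₁.trans w₂.symm) w₂ _).symm.trans
      (congrArg (tr φ a₂ b w₂) (hσ G a₁ a₂ (w₁.trans w₂.symm) c₁ c₂ hc))
  obtain ⟨σ₃, hσ₃, -⟩ := (hasGerms_bigP F').descend (ι := PUnit.{1}) (T := L) (T' := fun _ => T') (fun _ => gT)
    (fun z => ⟨PUnit.unit, (isQuotientMap_of_isPullback hh hsq).1 z⟩)
    (fun V v _ A hA => (isQuotientMap_of_isPullback hh
      (IsPullback.paste_horiz (IsPullback.of_hasPullback gT.left v.left).flip.flip hsq)).2.isOpen_preimage.1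
        (hA PUnit.unit))
    (fun _ => tr φ b₁ b₂ hb ((bigP F').map kp.op σ)) (fun _ _ G c d hG hcd => by
      let e : Over.mk (c.left ≫ b₂) ⟶ Over.mk b₂ := Over.homMk c.left rfl
      let e' : Over.mk (c.left ≫ b₂) ⟶ Over.mk b₂ := Over.homMk d.left (by
        exact (Over.w d).trans (Over.w c).symm)
      let ι : G ⟶ Over.mk (c.left ≫ b₂) := Over.homMk (𝟙 G.left) ((Category.id_comp _).trans (Over.w c))
      have hce : ι ≫ e = c := Over.OverMorphism.ext (Category.id_comp _)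
      have hde : ι ≫ e' = d := Over.OverMorphism.ext (Category.id_comp _)
      rw [← hce, ← hde, map_comp_apply', map_comp_apply']
      refine congrArg _ ?_
      let e₁ : Over.mk (c.left ≫ b₁) ⟶ Over.mk b₁ := Over.homMk c.left rfl
      let e₁' : Over.mk (d.left ≫ b₁) ⟶ Over.mk b₁ := Over.homMk d.left rfl
      have v : (c.left ≫ b₁) ≫ f = (c.left ≫ b₂) ≫ f :=
        (Category.assoc _ _ _).trans ((congrArg (c.left ≫ ·) hb).trans (Category.assoc _ _ _).symm)
      have v' : (d.left ≫ b₁) ≫ f = (c.left ≫ b₂) ≫ f :=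
        (Category.assoc _ _ _).trans ((congrArg (d.left ≫ ·) hb).trans
          ((Category.assoc _ _ _).symm.trans (congrArg (· ≫ f) (Over.w e'))))
      rw [← tr_map φ hb v e₁ e rfl, ← tr_map φ hb v' e₁' e' rfl, ← map_comp_apply', ← map_comp_apply']
      refine agree G.left _ _ _ v v' _ _ ?_
      have h0 : c.left ≫ q = d.left ≫ q := congrArg CommaMorphism.left hcd
      show (c.left ≫ p) ≫ pullback.fst U.hom h = (d.left ≫ p) ≫ pullback.fst U.hom h
      rw [Category.assoc, Category.assoc, pullback.condition, reassoc_of% h0])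
  have key : ∀ (G : Scheme.{u}) (a₁ a₂ : G ⟶ X') (wa : a₁ ≫ f = a₂ ≫ f)
      (c₁ : Over.mk a₁ ⟶ Over.mk (pullback.snd U.hom h ≫ g)) (c₂ : Over.mk a₂ ⟶ L),
      c₂.left ≫ π = c₁.left ≫ pullback.fst U.hom h →
      tr φ a₁ a₂ wa ((bigP F').map c₁.op σ) = (bigP F').map c₂.op σ₃ := by
    intro G a₁ a₂ wa c₁ c₂ hc
    let l : G ⟶ P := pullback.lift c₁.left c₂.left hc.symm
    let d₁ : Over.mk a₁ ⟶ Over.mk b₁ := Over.homMk l (by
      show l ≫ p ≫ _ = a₁
      rw [pullback.lift_fst_assoc]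
      exact Over.w c₁)
    let d₂ : Over.mk a₂ ⟶ T' := Over.homMk l (by
      show l ≫ q ≫ _ = a₂
      rw [pullback.lift_snd_assoc]
      exact Over.w c₂)
    have h₁ : d₁ ≫ kp = c₁ := Over.OverMorphism.ext (pullback.lift_fst _ _ _)
    have h₂ : d₂ ≫ gT = c₂ := Over.OverMorphism.ext (pullback.lift_snd _ _ _)
    rw [← h₁, ← h₂, map_comp_apply', map_comp_apply', hσ₃ PUnit.unit, tr_map φ hb wa d₁ d₂ rfl]
  refine ⟨U₃, σ₃, 𝟙 U.left, Category.id_comp _, good_of_geo fun G a₁ a₂ wa c₁ c₂ hG hc => ?_,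
    fun G a₁ a₂ wa c₁ c₂ _ hc => key G a₁ a₂ wa c₁ c₂ (hc.trans (congrArg (c₁.left ≫ ·) (Category.comp_id _)))⟩
  obtain ⟨y⟩ := hG.nonempty
  obtain ⟨z, hz⟩ := (isQuotientMap_of_isPullback hh hsq).1 (c₁.left y)
  obtain ⟨G', e, d, hG', he, -⟩ := exists_extension gT c₁ (show IsGeo (Over.mk a₁).left from hG) z fun y' => by
    rw [show y' = y from hG.subsingleton y' y]
    exact hz.symm
  let e₂ : Over.mk (e.left ≫ a₂) ⟶ Over.mk a₂ := Over.homMk e.left rfl
  let e₁ : Over.mk (e.left ≫ a₁) ⟶ Over.mk a₁ := Over.homMk e.left rfl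
  refine (hasGerms_bigP F').injective e₂ hG' hG ?_
  have v : (e.left ≫ a₁) ≫ f = (e.left ≫ a₂) ≫ f := by rw [Category.assoc, Category.assoc, wa]
  let a₀ := d.left ≫ b₁
  let c₀ : Over.mk a₀ ⟶ Over.mk (pullback.snd U.hom h ≫ g) := Over.homMk (d.left ≫ p) (by
    show (d.left ≫ p) ≫ _ = d.left ≫ b₁
    rw [Category.assoc]
    rfl)
  have hde : d.left ≫ q = e.left ≫ c₁.left := (congrArg CommaMorphism.left he).symm
  have v₀ : a₀ ≫ f = (e.left ≫ a₁) ≫ f := by
    rw [Category.assoc, hb, ← Category.assoc]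
    refine congrArg (· ≫ f) ?_
    show d.left ≫ b₂ = e.left ≫ a₁
    exact (Over.w d).trans (Over.w e).symm
  have hfst : (e₁ ≫ c₁).left ≫ π = c₀.left ≫ pullback.fst U.hom h := by
    show (e.left ≫ c₁.left) ≫ π = (d.left ≫ p) ≫ pullback.fst U.hom h
    rw [← hde, Category.assoc, Category.assoc, pullback.condition]
  have hfst₂ : (e₂ ≫ c₂).left ≫ π = c₀.left ≫ pullback.fst U.hom h := by
    refine Eq.trans ?_ hfst
    show (e.left ≫ c₂.left) ≫ π = (e.left ≫ c₁.left) ≫ π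
    rw [Category.assoc, Category.assoc]
    exact congrArg (e.left ≫ ·) hc.symm
  rw [← tr_map φ wa v e₁ e₂ rfl, ← map_comp_apply', ← map_comp_apply', ← key _ a₀ _ v₀ c₀ _ hfst,
    ← key _ a₀ _ (v₀.trans v) c₀ _ hfst₂, tr_trans hφ]

/-- Glued sections realise every value once the base carries good multisections. -/
theorem Psi_surjective_geo (hφ : EtDesc.IsCocycle F' φ)
    (hloc : ∀ y : X, ∃ (U0 T : Scheme.{u}) (u₀ : U0 ⟶ X) (_ : Etale u₀) (h : T ⟶ U0) (g : T ⟶ X'),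
      g ≫ f = h ≫ u₀ ∧ y ∈ Set.range u₀.base ∧ EtDesc.IsUnivSubmersive h ∧
        (∀ (G : EtDesc.Sh T) (V : T.Etale),
          Function.Surjective ((phi h G).hom.app (op ((Over.map h).obj ((EtFppf.a T).obj V))))) ∧
        (∀ (G : EtDesc.Sh (pullback h h)) (V : T.Etale),
          Function.Injective ((phi (tSq h) G).hom.app (op ((Over.map h).obj ((EtFppf.a T).obj V))))))
    (W : Over X') (hW : IsGeo W.left) : Function.Surjective (Psi f φ W) := by
  intro x
  obtain ⟨y₀⟩ := hW.nonempty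
  obtain ⟨U0, T, u₀, hu, h, g, w, ⟨z, hz⟩, hh, hA, hB⟩ := hloc (f.base (W.hom.base y₀))
  obtain ⟨t, ht⟩ := surjective_of_univSubmersive hh z
  let L : Over X := Over.mk (h ≫ u₀)
  let XX : Over X := Over.mk (𝟙 X)
  obtain ⟨H, e, τ, hH, he, -⟩ := exists_extension (Over.homMk (h ≫ u₀) (Category.comp_id _) : L ⟶ XX)
    (Over.homMk (W.hom ≫ f) (Category.comp_id _) : (Over.map f).obj W ⟶ XX) hW t fun y => by
      show f.base (W.hom.base y) = u₀.base (h.base t)
      rw [hW.subsingleton y y₀, ht, hz]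
  let a₀ : H.left ⟶ X' := e.left ≫ W.hom
  let a : H.left ⟶ X' := τ.left ≫ g
  have ha : a₀ ≫ f = a ≫ f := by
    have h0 : e.left ≫ W.hom ≫ f = τ.left ≫ h ≫ u₀ := congrArg CommaMorphism.left he
    show (e.left ≫ W.hom) ≫ f = (τ.left ≫ g) ≫ f
    rw [Category.assoc, Category.assoc, w]
    exact h0
  let eW : Over.mk a₀ ⟶ W := Over.homMk e.left rfl
  obtain ⟨U, σ, c, hσ, hcτ, hcx⟩ := exists_goodT hφ w hA hB hH τ.left (tr φ a₀ a ha ((bigP F').map eW.op x))
  obtain ⟨U₃, σ₃, i, hi, hσ₃, hkey⟩ := exists_good_extend hφ w hh U σ hσ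
  obtain ⟨r, hr⟩ := exists_gVal f φ U₃ σ₃ hσ₃
  let b := c.left ≫ pullback.fst U.hom h ≫ i
  have hb : b ≫ U₃.hom = a₀ ≫ f := by
    show (c.left ≫ pullback.fst U.hom h ≫ i) ≫ U₃.hom = _
    rw [ha, Category.assoc, Category.assoc, hi, pullback.condition_assoc, reassoc_of% hcτ]
    exact (congrArg (τ.left ≫ ·) w.symm).trans (Category.assoc _ _ _).symm
  let d : (Over.map f).obj (Over.mk a₀) ⟶ (EtFppf.a X).obj U₃ := Over.homMk b hb
  obtain ⟨k, hk⟩ := exists_transpose f d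
  have hval : Psi f φ (Over.mk a₀) ((bigP (glued f φ)).map d.op (sb _ U₃ r)) = (bigP F').map eW.op x := by
    rw [Psi_germ f φ d k hk, hr, ← hkey H.left a a₀ ha.symm c k hH hk, hcx, tr_symm hφ]
  obtain ⟨t₀, ht₀⟩ := (hasGerms_bigP (glued f φ)).surjective ((Over.map f).map eW)
    (show IsGeo ((Over.map f).obj (Over.mk a₀)).left from hH) (show IsGeo ((Over.map f).obj W).left from hW)
    ((bigP (glued f φ)).map d.op (sb _ U₃ r))
  refine ⟨t₀, (hasGerms_bigP F').injective eW (show IsGeo (Over.mk a₀).left from hH) hW ?_⟩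
  rw [← Psi_map, ht₀, hval]

/-- The criterion for effectivity of descent of étale sheaves of sets. -/
theorem isEffective_of_multisections (hf : EtDesc.IsUnivSubmersive f) (hφ : EtDesc.IsCocycle F' φ)
    (hloc : ∀ y : X, ∃ (U0 T : Scheme.{u}) (u₀ : U0 ⟶ X) (_ : Etale u₀) (h : T ⟶ U0) (g : T ⟶ X'),
      g ≫ f = h ≫ u₀ ∧ y ∈ Set.range u₀.base ∧ EtDesc.IsUnivSubmersive h ∧
        (∀ (G : EtDesc.Sh T) (V : T.Etale),
          Function.Surjective ((phi h G).hom.app (op ((Over.map h).obj ((EtFppf.a T).obj V))))) ∧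
        (∀ (G : EtDesc.Sh (pullback h h)) (V : T.Etale),
          Function.Injective ((phi (tSq h) G).hom.app (op ((Over.map h).obj ((EtFppf.a T).obj V)))))) :
    EtDesc.IsEffective f F' φ :=
  isEffective_of_surjective f φ hf fun W hW => Psi_surjective_geo hφ hloc W hW

end

end EtProperH0Lib
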