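import Groth.Agent.EtProperH0Lib.EffTr
import Groth.Agent.EtProperH0Lib.DescSec

/-!
# The glued sheaf of a descent datum
-/

set_option autoImplicit false
set_option linter.style.haveILetI false
set_option linter.unusedSectionVars false
set_option backward.isDefEq.respectTransparency false
set_option backward.isDefEq.respectTransparency.types false
universe u

open CategoryTheory CategoryTheory.Limits AlgebraicGeometry Opposite EtDescentLib Groth.Agent.EtShLib

namespace EtProperH0Lib

noncomputable section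

attribute [local irreducible] gamma mIso

variable {X' X : Scheme.{u}} (f : X' ⟶ X) {F' : EtDesc.Sh X'}
  (φ : (EtDesc.pullSh (pullback.fst f f)).obj F' ≅ (EtDesc.pullSh (pullback.snd f f)).obj F')

/-- The structure morphism of the square. -/
abbrev sqMor : pullback f f ⟶ X := pullback.fst f f ≫ f

/-- The projection of a base change to the source. -/
abbrev bcHomX (U : X.Etale) : pullback U.hom f ⟶ X' := pullback.snd U.hom f

/-- The first projection of a base change to the square. -/
def pr₁U (U : X.Etale) : pullback U.hom (sqMor f) ⟶ pullback U.hom f :=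
  pullback.lift (pullback.fst U.hom (sqMor f)) (pullback.snd U.hom (sqMor f) ≫ pullback.fst f f)
    (by rw [Category.assoc]; exact pullback.condition)

/-- The second projection of a base change to the square. -/
def pr₂U (U : X.Etale) : pullback U.hom (sqMor f) ⟶ pullback U.hom f :=
  pullback.lift (pullback.fst U.hom (sqMor f)) (pullback.snd U.hom (sqMor f) ≫ pullback.snd f f)
    (by rw [Category.assoc, ← pullback.condition (f := f) (g := f)]; exact pullback.condition)

/-- The first projection over the source. -/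
def k₁U (U : X.Etale) :
    Over.mk (pullback.snd U.hom (sqMor f) ≫ pullback.fst f f) ⟶ Over.mk (bcHomX f U) :=
  Over.homMk (pr₁U f U) (pullback.lift_snd _ _ _)

/-- The second projection over the source. -/
def k₂U (U : X.Etale) :
    Over.mk (pullback.snd U.hom (sqMor f) ≫ pullback.snd f f) ⟶ Over.mk (bcHomX f U) :=
  Over.homMk (pr₂U f U) (pullback.lift_snd _ _ _)

theorem k_comm (U : X.Etale) :
    (pullback.snd U.hom (sqMor f) ≫ pullback.fst f f) ≫ f = (pullback.snd U.hom (sqMor f) ≫ pullback.snd f f) ≫ f := by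
  rw [Category.assoc, Category.assoc, pullback.condition]

variable (F') in
/-- The value of a section of the direct image, as a section of the big presheaf. -/
def sigOf (U : X.Etale) (s : EtDesc.sect ((EtDesc.pushSh f).obj F') U) :
    (bigP F').obj (op (Over.mk (bcHomX f U))) :=
  sb F' ((EtCoh.bc f).obj U) s

theorem bijective_sigOf (U : X.Etale) : Function.Bijective (sigOf f F' U) :=
  bijective_sb F' ((EtCoh.bc f).obj U)

/-- The base change of a morphism of étale schemes, over the source. -/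
def bcMapX {U V : X.Etale} (k : V ⟶ U) : Over.mk (bcHomX f V) ⟶ Over.mk (bcHomX f U) :=
  (EtFppf.a X').map ((EtCoh.bc f).map k)

theorem bcMapX_fst {U V : X.Etale} (k : V ⟶ U) :
    (bcMapX f k).left ≫ pullback.fst U.hom f = pullback.fst V.hom f ≫ k.left := by
  show ((EtCoh.bc f).map k).left ≫ _ = _
  exact pullback.lift_fst _ _ _

theorem bcMapX_snd {U V : X.Etale} (k : V ⟶ U) : (bcMapX f k).left ≫ bcHomX f U = bcHomX f V :=
  Over.w (bcMapX f k)

theorem sigOf_map {U V : X.Etale} (k : V ⟶ U) (s : EtDesc.sect ((EtDesc.pushSh f).obj F') U) :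
    sigOf f F' V (((EtDesc.pushSh f).obj F').obj.map k.op s) = (bigP F').map (bcMapX f k).op (sigOf f F' U s) :=
  sb_map F' ((EtCoh.bc f).map k) s

/-- Sections over the base change satisfying the gluing condition. -/
def Good (U : X.Etale) (σ : (bigP F').obj (op (Over.mk (bcHomX f U)))) : Prop :=
  tr φ _ _ (k_comm f U) ((bigP F').map (k₁U f U).op σ) = (bigP F').map (k₂U f U).op σ

/-- Sections of the second inverse image over the square. -/
abbrev sqSh : EtDesc.Sh X := (EtDesc.pushSh (sqMor f)).obj ((EtDesc.pullSh (pullback.snd f f)).obj F')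

/-- The value of a section over the square, as a section of the big presheaf. -/
def sqVal (U : X.Etale) (s : EtDesc.sect (sqSh f (F' := F')) U) :
    (bigP F').obj (op (Over.mk (pullback.snd U.hom (sqMor f) ≫ pullback.snd f f))) :=
  tau (pullback.snd f f) F' ((EtCoh.bc (sqMor f)).obj U) s

theorem bijective_sqVal (U : X.Etale) : Function.Bijective (sqVal f (F' := F') U) :=
  bijective_tau (pullback.snd f f) F' ((EtCoh.bc (sqMor f)).obj U)

/-- The base change of a morphism of étale schemes, over the square. -/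
def sqMapX {U V : X.Etale} (k : V ⟶ U) :
    Over.mk (pullback.snd V.hom (sqMor f) ≫ pullback.snd f f) ⟶ Over.mk (pullback.snd U.hom (sqMor f) ≫ pullback.snd f f) :=
  (Over.map (pullback.snd f f)).map ((EtFppf.a (pullback f f)).map ((EtCoh.bc (sqMor f)).map k))

/-- The base change of a morphism of étale schemes, over the square, first projection. -/
def sqMapX₁ {U V : X.Etale} (k : V ⟶ U) :
    Over.mk (pullback.snd V.hom (sqMor f) ≫ pullback.fst f f) ⟶ Over.mk (pullback.snd U.hom (sqMor f) ≫ pullback.fst f f) :=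
  (Over.map (pullback.fst f f)).map ((EtFppf.a (pullback f f)).map ((EtCoh.bc (sqMor f)).map k))

theorem sqVal_map {U V : X.Etale} (k : V ⟶ U) (s : EtDesc.sect (sqSh f (F' := F')) U) :
    sqVal f V ((sqSh f (F' := F')).obj.map k.op s) = (bigP F').map (sqMapX f k).op (sqVal f U s) :=
  tau_map (pullback.snd f f) F' ((EtCoh.bc (sqMor f)).map k) s

theorem sqMapX_k₁ {U V : X.Etale} (k : V ⟶ U) : sqMapX₁ f k ≫ k₁U f U = k₁U f V ≫ bcMapX f k := by
  refine Over.OverMorphism.ext ?_
  show ((EtCoh.bc (sqMor f)).map k).left ≫ pr₁U f U = pr₁U f V ≫ ((EtCoh.bc f).map k).left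
  show pullback.lift _ _ _ ≫ pr₁U f U = pr₁U f V ≫ pullback.lift _ _ _
  apply pullback.hom_ext <;> simp [pr₁U]

theorem sqMapX_k₂ {U V : X.Etale} (k : V ⟶ U) : sqMapX f k ≫ k₂U f U = k₂U f V ≫ bcMapX f k := by
  refine Over.OverMorphism.ext ?_
  show ((EtCoh.bc (sqMor f)).map k).left ≫ pr₂U f U = pr₂U f V ≫ ((EtCoh.bc f).map k).left
  show pullback.lift _ _ _ ≫ pr₂U f U = pr₂U f V ≫ pullback.lift _ _ _
  apply pullback.hom_ext <;> simp [pr₂U]

/-- The transported first restriction. -/
def glueU : (EtDesc.pushSh f).obj F' ⟶ sqSh f (F' := F') :=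
  ObjectProperty.homMk
    { app := fun U => TypeCat.ofHom fun s => (Equiv.ofBijective _ (bijective_sqVal f U.unop)).symm
        (tr φ _ _ (k_comm f U.unop) ((bigP F').map (k₁U f U.unop).op (sigOf f F' U.unop s)))
      naturality := by
        rintro ⟨U⟩ ⟨V⟩ ⟨k⟩
        ext s
        show (Equiv.ofBijective _ (bijective_sqVal f V)).symm
            (tr φ _ _ (k_comm f V) ((bigP F').map (k₁U f V).op
              (sigOf f F' V (((EtDesc.pushSh f).obj F').obj.map k.op s)))) =
          (sqSh f (F' := F')).obj.map k.op ((Equiv.ofBijective _ (bijective_sqVal f U)).symm _)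
        refine (bijective_sqVal f V).1 ?_
        rw [sqVal_map, sigOf_map, ← map_comp_apply', ← sqMapX_k₁, map_comp_apply']
        refine ((Equiv.ofBijective _ (bijective_sqVal f V)).apply_symm_apply _).trans ?_
        refine Eq.trans ?_ (congrArg _ ((Equiv.ofBijective _ (bijective_sqVal f U)).apply_symm_apply _).symm)
        exact tr_map φ (k_comm f U) (k_comm f V) (sqMapX₁ f k) (sqMapX f k) rfl _ }

variable (F') in
/-- The second restriction. -/
def glueV : (EtDesc.pushSh f).obj F' ⟶ sqSh f (F' := F') :=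
  ObjectProperty.homMk
    { app := fun U => TypeCat.ofHom fun s => (Equiv.ofBijective _ (bijective_sqVal f U.unop)).symm
        ((bigP F').map (k₂U f U.unop).op (sigOf f F' U.unop s))
      naturality := by
        rintro ⟨U⟩ ⟨V⟩ ⟨k⟩
        ext s
        show (Equiv.ofBijective _ (bijective_sqVal f V)).symm
            ((bigP F').map (k₂U f V).op (sigOf f F' V (((EtDesc.pushSh f).obj F').obj.map k.op s))) =
          (sqSh f (F' := F')).obj.map k.op ((Equiv.ofBijective _ (bijective_sqVal f U)).symm _)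
        refine (bijective_sqVal f V).1 ?_
        rw [sqVal_map, sigOf_map, ← map_comp_apply', ← sqMapX_k₂, map_comp_apply']
        refine ((Equiv.ofBijective _ (bijective_sqVal f V)).apply_symm_apply _).trans ?_
        exact congrArg _ ((Equiv.ofBijective _ (bijective_sqVal f U)).apply_symm_apply _).symm }

/-- The glued sheaf. -/
def glued : EtDesc.Sh X := equalizer (glueU f φ) (glueV f F')

/-- The inclusion of the glued sheaf in the direct image. -/
def gluedι : glued f φ ⟶ (EtDesc.pushSh f).obj F' := equalizer.ι (glueU f φ) (glueV f F')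

/-- The value of a section of the glued sheaf. -/
def gVal (U : X.Etale) (r : EtDesc.sect (glued f φ) U) : (bigP F').obj (op (Over.mk (bcHomX f U))) :=
  sigOf f F' U ((gluedι f φ).hom.app (op U) r)

theorem gVal_map {U V : X.Etale} (k : V ⟶ U) (r : EtDesc.sect (glued f φ) U) :
    gVal f φ V ((glued f φ).obj.map k.op r) = (bigP F').map (bcMapX f k).op (gVal f φ U r) :=
  (congrArg (sigOf f F' V) (sheaf_app_map (gluedι f φ) k r)).trans (sigOf_map f k _)

instance mono_gluedι : Mono (gluedι f φ) := inferInstanceAs (Mono (equalizer.ι (glueU f φ) (glueV f F')))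

theorem gVal_injective (U : X.Etale) : Function.Injective (gVal f φ U) := fun r r' h =>
  app_injective_of_mono (gluedι f φ) U ((bijective_sigOf f U).1 h)

theorem good_gVal (U : X.Etale) (r : EtDesc.sect (glued f φ) U) : Good f φ U (gVal f φ U r) :=
  (Equiv.ofBijective _ (bijective_sqVal f U)).symm.injective
    (congrArg (fun k => k.hom.app (op U) r) (equalizer.condition (glueU f φ) (glueV f F')))

theorem exists_gVal (U : X.Etale) (σ : (bigP F').obj (op (Over.mk (bcHomX f U)))) (hσ : Good f φ U σ) :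
    ∃ r, gVal f φ U r = σ := by
  obtain ⟨s, rfl⟩ := (bijective_sigOf f U).2 σ
  have hs : (glueU f φ).hom.app (op U) s = (glueV f F').hom.app (op U) s :=
    congrArg (Equiv.ofBijective _ (bijective_sqVal f U)).symm hσ
  let ev : EtDesc.Sh X ⥤ Type (u + 1) := sheafToPresheaf _ _ ⋙ (evaluation _ _).obj (op U)
  have hlim := isLimitForkMapOfIsLimit ev (equalizer.condition (glueU f φ) (glueV f F'))
    (equalizerIsEqualizer (glueU f φ) (glueV f F'))
  obtain ⟨l, hl⟩ := Fork.IsLimit.lift' hlim (TypeCat.ofHom fun _ : PUnit.{u + 2} => s) (by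
    ext x
    exact hs)
  exact ⟨l PUnit.unit, congrArg (sigOf f F' U) (ConcreteCategory.congr_hom hl PUnit.unit)⟩

variable {f φ}

/-- The gluing condition, for arbitrary test schemes. -/
theorem Good.apply {U : X.Etale} {σ : (bigP F').obj (op (Over.mk (bcHomX f U)))} (h : Good f φ U σ)
    {G : Scheme.{u}} {a₁ a₂ : G ⟶ X'} (w : a₁ ≫ f = a₂ ≫ f) (c₁ : Over.mk a₁ ⟶ Over.mk (bcHomX f U))
    (c₂ : Over.mk a₂ ⟶ Over.mk (bcHomX f U)) (hc : c₁.left ≫ pullback.fst U.hom f = c₂.left ≫ pullback.fst U.hom f) :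
    tr φ a₁ a₂ w ((bigP F').map c₁.op σ) = (bigP F').map c₂.op σ := by
  let l : G ⟶ pullback U.hom (sqMor f) := pullback.lift (c₁.left ≫ pullback.fst U.hom f) (pullback.lift a₁ a₂ w) (by
    rw [Category.assoc, pullback.condition, pullback.lift_fst_assoc]
    exact (Category.assoc _ _ _).symm.trans (congrArg (· ≫ f) (Over.w c₁)))
  let d₁ : Over.mk a₁ ⟶ Over.mk (pullback.snd U.hom (sqMor f) ≫ pullback.fst f f) := Over.homMk l (by
    show l ≫ pullback.snd U.hom (sqMor f) ≫ pullback.fst f f = a₁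
    rw [pullback.lift_snd_assoc, pullback.lift_fst])
  let d₂ : Over.mk a₂ ⟶ Over.mk (pullback.snd U.hom (sqMor f) ≫ pullback.snd f f) := Over.homMk l (by
    show l ≫ pullback.snd U.hom (sqMor f) ≫ pullback.snd f f = a₂
    rw [pullback.lift_snd_assoc, pullback.lift_snd])
  have e₁ : d₁ ≫ k₁U f U = c₁ := by
    refine Over.OverMorphism.ext (pullback.hom_ext ?_ ?_)
    · show (l ≫ pr₁U f U) ≫ pullback.fst U.hom f = c₁.left ≫ pullback.fst U.hom f
      simp [l, pr₁U]
    · refine (?_ : _ = a₁).trans (Over.w c₁).symm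
      exact Over.w (d₁ ≫ k₁U f U)
  have e₂ : d₂ ≫ k₂U f U = c₂ := by
    refine Over.OverMorphism.ext (pullback.hom_ext ?_ ?_)
    · show (l ≫ pr₂U f U) ≫ pullback.fst U.hom f = c₂.left ≫ pullback.fst U.hom f
      simp [l, pr₂U, hc]
    · refine (?_ : _ = a₂).trans (Over.w c₂).symm
      exact Over.w (d₂ ≫ k₂U f U)
  rw [← e₁, ← e₂, map_comp_apply', map_comp_apply', tr_map φ (k_comm f U) w d₁ d₂ rfl, show tr φ _ _ (k_comm f U) _ = _ from h]

/-- The gluing condition can be checked at geometric points. -/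
theorem good_of_geo {U : X.Etale} {σ : (bigP F').obj (op (Over.mk (bcHomX f U)))}
    (h : ∀ (G : Scheme.{u}) (a₁ a₂ : G ⟶ X') (w : a₁ ≫ f = a₂ ≫ f) (c₁ : Over.mk a₁ ⟶ Over.mk (bcHomX f U))
      (c₂ : Over.mk a₂ ⟶ Over.mk (bcHomX f U)), IsGeo G →
      c₁.left ≫ pullback.fst U.hom f = c₂.left ≫ pullback.fst U.hom f →
      tr φ a₁ a₂ w ((bigP F').map c₁.op σ) = (bigP F').map c₂.op σ) :
    Good f φ U σ := by
  refine (hasGerms_bigP F').ext fun H c hH => ?_
  let a₁ := c.left ≫ pullback.snd U.hom (sqMor f) ≫ pullback.fst f f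
  let a₂ := c.left ≫ pullback.snd U.hom (sqMor f) ≫ pullback.snd f f
  have w : a₁ ≫ f = a₂ ≫ f := by
    simp only [a₁, a₂, Category.assoc, pullback.condition]
  let d₁ : Over.mk a₁ ⟶ Over.mk (pullback.snd U.hom (sqMor f) ≫ pullback.fst f f) := Over.homMk c.left rfl
  let d₂ : Over.mk a₂ ⟶ Over.mk (pullback.snd U.hom (sqMor f) ≫ pullback.snd f f) := Over.homMk c.left rfl
  let e : H ⟶ Over.mk a₂ := Over.homMk (𝟙 H.left) (by
    show 𝟙 H.left ≫ a₂ = H.hom
    rw [Category.id_comp]
    exact Over.w c)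
  have he : e ≫ d₂ = c := Over.OverMorphism.ext (Category.id_comp _)
  rw [← he, map_comp_apply', map_comp_apply', ← tr_map φ (k_comm f U) w d₁ d₂ rfl, ← map_comp_apply',
    ← map_comp_apply' d₂]
  refine congrArg _ (h H.left a₁ a₂ w _ _ hH ?_)
  show (c.left ≫ pr₁U f U) ≫ pullback.fst U.hom f = (c.left ≫ pr₂U f U) ≫ pullback.fst U.hom f
  simp [pr₁U, pr₂U]

theorem Good.map {U V : X.Etale} (k : V ⟶ U) {σ : (bigP F').obj (op (Over.mk (bcHomX f U)))} (h : Good f φ U σ) :
    Good f φ V ((bigP F').map (bcMapX f k).op σ) := by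
  refine good_of_geo fun G a₁ a₂ w c₁ c₂ _ hc => ?_
  rw [← map_comp_apply', ← map_comp_apply']
  refine h.apply w _ _ ?_
  show (c₁.left ≫ (bcMapX f k).left) ≫ pullback.fst U.hom f = (c₂.left ≫ (bcMapX f k).left) ≫ pullback.fst U.hom f
  rw [Category.assoc, Category.assoc, bcMapX_fst, reassoc_of% hc]

variable (f φ)

/-- The comparison of the glued sheaf with the descent datum. -/
def gluedPsi : (EtDesc.pullSh f).obj (glued f φ) ⟶ F' := ((EtDesc.adjSh f).homEquiv _ _).symm (gluedι f φ)

theorem gluedPsi_unit (U : X.Etale) (r : EtDesc.sect (glued f φ) U) :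
    sb F' ((EtCoh.bc f).obj U)
      ((gluedPsi f φ).hom.app (op ((EtCoh.bc f).obj U)) (((EtDesc.adjSh f).unit.app (glued f φ)).hom.app (op U) r)) =
      gVal f φ U r := by
  have h : (EtDesc.adjSh f).unit.app (glued f φ) ≫ (EtDesc.pushSh f).map (gluedPsi f φ) = gluedι f φ :=
    ((EtDesc.adjSh f).homEquiv_unit _ _ _).symm.trans (((EtDesc.adjSh f).homEquiv _ _).apply_symm_apply _)
  exact congrArg (fun k => sigOf f F' U (k.hom.app (op U) r)) h

/-- The comparison on the big presheaves. -/
def Psi (W : Over X') (t : (bigP (glued f φ)).obj (op ((Over.map f).obj W))) : (bigP F').obj (op W) :=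
  (bigMap (gluedPsi f φ)).app (op W) ((Equiv.ofBijective _ (bijective_mu f (glued f φ) W)).symm t)

theorem Psi_mu (W : Over X') (t : (bigP ((EtDesc.pullSh f).obj (glued f φ))).obj (op W)) :
    Psi f φ W (mu f (glued f φ) W t) = (bigMap (gluedPsi f φ)).app (op W) t :=
  congrArg ((bigMap (gluedPsi f φ)).app (op W))
    ((Equiv.ofBijective _ (bijective_mu f (glued f φ) W)).symm_apply_apply t)

theorem Psi_map {W W' : Over X'} (k : W' ⟶ W) (t : (bigP (glued f φ)).obj (op ((Over.map f).obj W))) :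
    Psi f φ W' ((bigP (glued f φ)).map ((Over.map f).map k).op t) = (bigP F').map k.op (Psi f φ W t) := by
  obtain ⟨t₀, ht⟩ := (bijective_mu f (glued f φ) W).2 t
  rw [← ht, ← mu_map, Psi_mu, Psi_mu, bigMap_map]

theorem Psi_germ {W : Over X'} {U : X.Etale} (d : (Over.map f).obj W ⟶ (EtFppf.a X).obj U)
    (k : W ⟶ Over.mk (bcHomX f U)) (hk : k.left ≫ pullback.fst U.hom f = d.left) (r : EtDesc.sect (glued f φ) U) :
    Psi f φ W ((bigP (glued f φ)).map d.op (sb (glued f φ) U r)) = (bigP F').map k.op (gVal f φ U r) := by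
  let k' : W ⟶ (EtFppf.a X').obj ((EtCoh.bc f).obj U) := k
  have hd : (Over.map f).map k' ≫ gOf f U = d := by
    refine Over.OverMorphism.ext ?_
    show k.left ≫ (gOf f U).left = d.left
    rw [gOf_left]
    exact hk
  rw [← hd, map_comp_apply', Psi_map, ← tau_adjUnit]
  refine congrArg ((bigP F').map k.op) ?_
  refine (congrArg (Psi f φ _) (mu_unit f (glued f φ) _ _).symm).trans ((Psi_mu f φ _ _).trans ?_)
  exact (sb_app (gluedPsi f φ) _ _).symm.trans (gluedPsi_unit f φ U r)

theorem exists_transpose {W : Over X'} {U : X.Etale} (d : (Over.map f).obj W ⟶ (EtFppf.a X).obj U) :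
    ∃ k : W ⟶ Over.mk (bcHomX f U), k.left ≫ pullback.fst U.hom f = d.left :=
  ⟨Over.homMk (pullback.lift d.left W.hom (Over.w d)) (pullback.lift_snd _ _ _), pullback.lift_fst _ _ _⟩

variable {f φ}

/-- The comparison is injective at geometric points. -/
theorem Psi_injective_geo (hf : EtDesc.IsUnivSubmersive f) {W : Over X'} (hW : IsGeo W.left) :
    Function.Injective (Psi f φ W) := by
  intro t t' ht
  have hW' : IsGeo ((Over.map f).obj W).left := hW
  obtain ⟨U₁, p₁, d₁, r₁, -, hr₁⟩ := exists_etale_nbhd (glued f φ) hW' (toTop ((Over.map f).obj W)) t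
  obtain ⟨U, p, d, r, hd, hr⟩ := exists_etale_nbhd (glued f φ) hW' d₁ t'
  rw [← hd, map_comp_apply', ← sb_map] at hr₁
  rw [← hr₁, ← hr] at ht ⊢
  generalize (glued f φ).obj.map p.op r₁ = s at ht ⊢
  obtain ⟨k, hk⟩ := exists_transpose f d
  rw [Psi_germ f φ d k hk, Psi_germ f φ d k hk] at ht
  let L := Over.mk (bcHomX f U)
  let E := eqLocus L (gVal f φ U s) (gVal f φ U r)
  have hsat : ∀ q q' : L.left, q ∈ E → (pullback.fst U.hom f) q = (pullback.fst U.hom f) q' → q' ∈ E := by
    intro q q' hq hqq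
    obtain ⟨H, a, hH, ha⟩ := exists_geo_at ((Over.map f).obj L) q'
    obtain ⟨G₀, e, c, hG₀, he, hc⟩ := exists_extension (gOf f U) (a ≫ gOf f U) hH q fun y => by
      show (gOf f U).left.base (a.left.base y) = _
      rw [ha y, gOf_left]
      exact hqq.symm
    let a₁ := c.left ≫ bcHomX f U
    let a₂ := (e ≫ a).left ≫ bcHomX f U
    let c₁ : Over.mk a₁ ⟶ L := Over.homMk c.left rfl
    let c₂ : Over.mk a₂ ⟶ L := Over.homMk (e ≫ a).left rfl
    have hfst : c₁.left ≫ pullback.fst U.hom f = c₂.left ≫ pullback.fst U.hom f := by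
      have h0 := congrArg CommaMorphism.left he
      simp only [Over.comp_left, gOf_left] at h0
      show c.left ≫ _ = (e.left ≫ a.left) ≫ _
      rw [Category.assoc]
      exact h0.symm
    have w : a₁ ≫ f = a₂ ≫ f := by
      have h0 := congrArg (· ≫ U.hom) hfst
      simp only [Category.assoc, pullback.condition] at h0
      exact (Category.assoc _ _ _).trans (h0.trans (Category.assoc _ _ _).symm)
    obtain ⟨y⟩ := hG₀.nonempty
    have h1 := eq_of_mem_eqLocus hq c₁ hG₀ hc
    have h2 : (bigP F').map c₂.op (gVal f φ U s) = (bigP F').map c₂.op (gVal f φ U r) := by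
      rw [← (good_gVal f φ U s).apply w c₁ c₂ hfst, ← (good_gVal f φ U r).apply w c₁ c₂ hfst, h1]
    have hmem := (hasGerms_bigP F').mem_eqLocus c₂ hG₀ h2 y
    exact Eq.mp (congrArg (· ∈ E) (ha (e.left y))) hmem
  let A : Set U.left := {z | ∀ q, (gOf f U).left q = z → q ∈ E}
  have hA : (gOf f U).left.base ⁻¹' A = E :=
    Set.ext fun q => ⟨fun h => h q rfl, fun h q' hq' => hsat q q' h (by
      rw [gOf_left] at hq'
      exact hq'.symm)⟩
  have hopen : IsOpen A := by
    refine (isQuotientMap_gOf hf U).2.isOpen_preimage.1 ?_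
    exact hA ▸ isOpen_eqLocus L _ _
  obtain ⟨y⟩ := hW.nonempty
  have hy : d.left y ∈ A := by
    have h1 : k.left y ∈ E := (hasGerms_bigP F').mem_eqLocus k hW ht y
    rw [← hA] at h1
    refine Eq.mp (congrArg (· ∈ A) ?_) h1
    show (gOf f U).left.base (k.left.base y) = _
    exact congrArg (fun m => m.base y) ((congrArg (k.left ≫ ·) (gOf_left f U)).trans hk)
  let Ao : U.left.Opens := ⟨A, hopen⟩
  haveI : Etale U.hom := U.prop
  let V : X.Etale := Scheme.Etale.mk (Ao.ι ≫ U.hom)
  let j : V ⟶ U := MorphismProperty.Over.homMk Ao.ι rfl trivial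
  haveI : Etale ((EtFppf.a X).map j).left := inferInstanceAs (Etale Ao.ι)
  obtain ⟨b, hb, -⟩ := exists_lift ((EtFppf.a X).map j) d hW ⟨d.left y, hy⟩ fun y' => by
    rw [hW.subsingleton y' y]
    rfl
  have heq : (glued f φ).obj.map j.op s = (glued f φ).obj.map j.op r := by
    refine gVal_injective f φ V ((hasGerms_bigP F').ext fun H c hH => ?_)
    rw [gVal_map, gVal_map, ← map_comp_apply', ← map_comp_apply']
    obtain ⟨y'⟩ := hH.nonempty
    have hmem : (c ≫ bcMapX f j).left y' ∈ E := by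
      rw [← hA]
      show (gOf f U).left.base ((c ≫ bcMapX f j).left.base y') ∈ A
      refine Eq.mpr (congrArg (fun m => m.base y' ∈ A) (congrArg ((c ≫ bcMapX f j).left ≫ ·) (gOf_left f U))) ?_
      have h0 : (c ≫ bcMapX f j).left ≫ pullback.fst U.hom f = (c.left ≫ pullback.fst V.hom f) ≫ Ao.ι := by
        rw [Over.comp_left, Category.assoc, bcMapX_fst, Category.assoc]
        rfl
      refine Eq.mpr (congrArg (fun m => m.base y' ∈ A) h0) ?_
      exact ((c.left ≫ pullback.fst V.hom f) y').2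
    exact eq_of_mem_eqLocus hmem _ hH fun y'' => by rw [hH.subsingleton y'' y']
  rw [← hb, map_comp_apply', map_comp_apply', ← sb_map, ← sb_map, heq]

theorem mono_gluedPsi (hf : EtDesc.IsUnivSubmersive f) : Mono (gluedPsi f φ) := by
  refine mono_of_app_injective _ fun U x y hxy => (bijective_sb _ U).1 ((hasGerms_bigP _).ext fun H c hH => ?_)
  refine (bijective_mu f _ H).1 (Psi_injective_geo hf hH ?_)
  rw [Psi_mu, Psi_mu, bigMap_map, bigMap_map, ← sb_app, ← sb_app, hxy]

/-- The comparison is an isomorphism once it is surjective at geometric points. -/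
theorem isIso_gluedPsi (hf : EtDesc.IsUnivSubmersive f)
    (hs : ∀ W : Over X', IsGeo W.left → Function.Surjective (Psi f φ W)) : IsIso (gluedPsi f φ) := by
  haveI := mono_gluedPsi (φ := φ) hf
  haveI : ∀ U, IsIso ((gluedPsi f φ).hom.app U) := fun U => (isIso_iff_bijective _).2
    ⟨app_injective_of_mono (gluedPsi f φ) U.unop, fun y =>
      exists_sect_of_mem (gluedPsi f φ) U.unop y (mem_range_of_geo (gluedPsi f φ) _ fun H c hH => by
        obtain ⟨t, ht⟩ := hs H hH ((bigP F').map c.op (sb F' U.unop y))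
        exact ⟨(Equiv.ofBijective _ (bijective_mu f (glued f φ) H)).symm t, ht⟩)⟩
  haveI : IsIso (gluedPsi f φ).hom := NatIso.isIso_of_isIso_app _
  haveI : IsIso ((sheafToPresheaf _ _).map (gluedPsi f φ)) := ‹IsIso (gluedPsi f φ).hom›
  exact isIso_of_reflects_iso _ (sheafToPresheaf _ _)

/-- The comparison carries the canonical datum to the given one. -/
theorem Psi_tr {G : Scheme.{u}} (a₁ a₂ : G ⟶ X') (w : a₁ ≫ f = a₂ ≫ f) (hG : IsGeo G)
    (t₁ : (bigP (glued f φ)).obj (op ((Over.map f).obj (Over.mk a₁))))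
    (t₂ : (bigP (glued f φ)).obj (op ((Over.map f).obj (Over.mk a₂))))
    (e : (Over.map f).obj (Over.mk a₂) ⟶ (Over.map f).obj (Over.mk a₁)) (he : e.left = 𝟙 G)
    (ht : t₂ = (bigP (glued f φ)).map e.op t₁) :
    tr φ a₁ a₂ w (Psi f φ _ t₁) = Psi f φ _ t₂ := by
  obtain ⟨U, p, d, r, -, rfl⟩ := exists_etale_nbhd (glued f φ) (show IsGeo ((Over.map f).obj (Over.mk a₁)).left from hG)
    (toTop _) t₁
  obtain ⟨k₁, hk₁⟩ := exists_transpose f d
  obtain ⟨k₂, hk₂⟩ := exists_transpose f (e ≫ d)
  rw [ht, ← map_comp_apply', Psi_germ f φ d k₁ hk₁, Psi_germ f φ (e ≫ d) k₂ hk₂]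
  refine (good_gVal f φ U r).apply w k₁ k₂ ?_
  rw [hk₁, hk₂, Over.comp_left, he]
  exact (Category.id_comp _).symm

theorem tau_pullPsi {Z : Scheme.{u}} (p : Z ⟶ X') (b : Z ⟶ X) (wb : p ≫ f = b) (U : Z.Etale)
    (x : EtDesc.sect ((EtDesc.pullSh p).obj ((EtDesc.pullSh f).obj (glued f φ))) U) :
    tau p F' U (((EtDesc.pullSh p).map (gluedPsi f φ)).hom.app (op U) x) =
      Psi f φ ((Over.map p).obj ((EtFppf.a Z).obj U))
        ((bigP (glued f φ)).map (inv (cObj p f b wb ((EtFppf.a Z).obj U))).op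
          (tau b (glued f φ) U ((EtDesc.pullVia p f b wb (glued f φ)).hom.hom.app (op U) x))) := by
  rw [tau_pullVia', ← map_comp_apply', IsIso.inv_hom_id, op_id, FunctorToTypes.map_id_apply, tau_pullMap p,
    Psi_mu]

theorem comp_rearrange {Z : Scheme.{u}} {A₁ A₂ A B₁ B₂ : EtDesc.Sh Z} (e₁ : A₁ ≅ A) (e₂ : A₂ ≅ A) (P₁ : A₁ ⟶ B₁)
    (P₂ : A₂ ⟶ B₂) (φ₀ : B₁ ⟶ B₂)
    (h : ∀ (U : Z.Etale) (x : EtDesc.sect A₁ U) (y : EtDesc.sect A₂ U),
      e₁.hom.hom.app (op U) x = e₂.hom.hom.app (op U) y → φ₀.hom.app (op U) (P₁.hom.app (op U) x) = P₂.hom.app (op U) y) :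
    (e₁ ≪≫ e₂.symm).hom ≫ P₂ = P₁ ≫ φ₀ := by
  refine Sheaf.hom_ext (NatTrans.ext (funext fun ⟨U⟩ => ?_))
  ext x
  refine (h U x (e₂.inv.hom.app (op U) (e₁.hom.hom.app (op U) x)) ?_).symm
  exact (congrArg (fun k => k.hom.app (op U) (e₁.hom.hom.app (op U) x)) e₂.inv_hom_id).symm

/-- The comparison carries the canonical datum to the given one, on objects over the square. -/
theorem Phi_Psi (b : pullback f f ⟶ X) (hb : pullback.fst f f ≫ f = b) (wb : pullback.snd f f ≫ f = b)
    (W : Over (pullback f f)) (t : (bigP (glued f φ)).obj (op ((Over.map b).obj W))) :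
    Phi (pullback.fst f f) (pullback.snd f f) φ.hom W
        (Psi f φ _ ((bigP (glued f φ)).map (inv (cObj (pullback.fst f f) f b hb W)).op t)) =
      Psi f φ _ ((bigP (glued f φ)).map (inv (cObj (pullback.snd f f) f b wb W)).op t) := by
  refine (hasGerms_bigP F').ext fun H c hH => ?_
  let l := c.left ≫ W.hom
  let a₁ := l ≫ pullback.fst f f
  let a₂ := l ≫ pullback.snd f f
  have w : a₁ ≫ f = a₂ ≫ f := by simp [a₁, a₂, pullback.condition, wb, hb]
  let L : Over (pullback f f) := Over.mk l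
  let K : L ⟶ W := Over.homMk c.left rfl
  let e₀ : H ⟶ (Over.map (pullback.snd f f)).obj L := Over.homMk (𝟙 H.left) (by
    show 𝟙 H.left ≫ (c.left ≫ W.hom) ≫ pullback.snd f f = H.hom
    rw [Category.id_comp, Category.assoc]
    exact Over.w c)
  have hc : e₀ ≫ (Over.map (pullback.snd f f)).map K = c := Over.OverMorphism.ext (Category.id_comp _)
  rw [← hc, map_comp_apply', map_comp_apply', ← Phi_map, ← Psi_map, ← Psi_map, ← map_comp_apply', ← map_comp_apply']
  refine congrArg _ ?_
  let k₁ : Over.mk a₁ ⟶ (Over.map (pullback.fst f f)).obj L := Over.homMk (𝟙 H.left) (Category.id_comp _)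
  let k₂ : Over.mk a₂ ⟶ (Over.map (pullback.snd f f)).obj L := Over.homMk (𝟙 H.left) (Category.id_comp _)
  haveI : IsIso k₂ := by
    haveI : IsIso ((Over.forget X').map k₂) := inferInstanceAs (IsIso (𝟙 H.left))
    exact isIso_of_reflects_iso _ (Over.forget X')
  refine ((isIso_iff_bijective ((bigP F').map k₂.op)).1 inferInstance).1 ?_
  generalize hz : (bigP (glued f φ)).map ((Over.map f).map ((Over.map (pullback.fst f f)).map K) ≫
    inv (cObj (pullback.fst f f) f (b) hb W)).op t = z₁
  generalize hz' : (bigP (glued f φ)).map ((Over.map f).map ((Over.map (pullback.snd f f)).map K) ≫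
    inv (cObj (pullback.snd f f) f (b) wb W)).op t = z₂
  rw [← Psi_map]
  have htr : (bigP F').map k₂.op (Phi (pullback.fst f f) (pullback.snd f f) φ.hom L (Psi f φ _ z₁)) =
      tr φ a₁ a₂ w ((bigP F').map k₁.op (Psi f φ _ z₁)) := by
    let M : Over.mk (pullback.lift a₁ a₂ w) ⟶ L := Over.homMk (𝟙 H.left) (by
      show 𝟙 H.left ≫ l = pullback.lift a₁ a₂ w
      rw [Category.id_comp]
      apply pullback.hom_ext <;> simp [a₁, a₂])
    have e₁ : fstHom a₁ a₂ w ≫ k₁ = (Over.map (pullback.fst f f)).map M := Over.OverMorphism.ext (by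
      show 𝟙 H.left ≫ 𝟙 H.left = 𝟙 H.left
      simp)
    have e₂ : sndHom a₁ a₂ w ≫ (Over.map (pullback.snd f f)).map M = k₂ := Over.OverMorphism.ext (by
      show 𝟙 H.left ≫ 𝟙 H.left = 𝟙 H.left
      simp)
    unfold tr
    rw [← map_comp_apply', e₁, Phi_map, ← map_comp_apply', e₂]
  rw [htr, ← Psi_map]
  let m₁ := (Over.map f).map k₁
  let m₂ := (Over.map f).map k₂
  haveI : IsIso k₁ := by
    haveI : IsIso ((Over.forget X').map k₁) := inferInstanceAs (IsIso (𝟙 H.left))
    exact isIso_of_reflects_iso _ (Over.forget X')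
  let e : (Over.map f).obj (Over.mk a₂) ⟶ (Over.map f).obj (Over.mk a₁) := Over.homMk (𝟙 H.left) (by
    show 𝟙 H.left ≫ a₁ ≫ f = a₂ ≫ f
    rw [Category.id_comp, w])
  refine Psi_tr a₁ a₂ w hH _ _ e rfl ?_
  rw [← hz, ← hz', ← map_comp_apply', ← map_comp_apply', ← map_comp_apply']
  refine congrArg (fun m => (bigP (glued f φ)).map (Quiver.Hom.op m) t) ?_
  rw [← cancel_mono (cObj (pullback.fst f f) f (b) hb W)]
  simp only [Category.assoc, IsIso.inv_hom_id, Category.comp_id]
  refine Over.OverMorphism.ext ?_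
  have hinv : (inv (cObj (pullback.snd f f) f (b) wb W)).left ≫ 𝟙 W.left = 𝟙 W.left :=
    congrArg CommaMorphism.left (IsIso.inv_hom_id (cObj (pullback.snd f f) f (b) wb W))
  show 𝟙 H.left ≫ c.left ≫ (inv (cObj (pullback.snd f f) f (b) wb W)).left ≫ 𝟙 W.left =
    𝟙 H.left ≫ 𝟙 H.left ≫ c.left
  rw [hinv, Category.id_comp, Category.id_comp, Category.id_comp]
  exact Category.comp_id _

variable (f φ) in
/-- The comparison is compatible with the descent data. -/
theorem gluedPsi_compat :
    (EtDesc.canIso f (glued f φ)).hom ≫ (EtDesc.pullSh (pullback.snd f f)).map (gluedPsi f φ) =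
      (EtDesc.pullSh (pullback.fst f f)).map (gluedPsi f φ) ≫ φ.hom := by
  rw [canIso_eq]
  refine comp_rearrange _ _ _ _ φ.hom fun U x y hxy => ?_
  refine (bijective_tau (pullback.snd f f) F' U).1 ?_
  rw [tau_Phi, tau_pullPsi (pullback.fst f f) (pullback.fst f f ≫ f) rfl,
    tau_pullPsi (pullback.snd f f) (pullback.fst f f ≫ f) pullback.condition.symm, ← hxy]
  exact Phi_Psi (pullback.fst f f ≫ f) rfl pullback.condition.symm _ _

variable (f φ) in
/-- A descent datum is effective once the comparison is surjective at geometric points. -/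
theorem isEffective_of_surjective (hf : EtDesc.IsUnivSubmersive f)
    (hs : ∀ W : Over X', IsGeo W.left → Function.Surjective (Psi f φ W)) : EtDesc.IsEffective f F' φ := by
  haveI := isIso_gluedPsi hf hs
  refine ⟨glued f φ, asIso (gluedPsi f φ), Iso.ext ?_⟩
  simp only [Iso.trans_hom, Iso.symm_hom, Functor.mapIso_inv, Functor.mapIso_hom, asIso_hom, asIso_inv]
  rw [gluedPsi_compat f φ, ← Category.assoc, ← Functor.map_comp, IsIso.inv_hom_id, CategoryTheory.Functor.map_id,
    Category.id_comp]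

end

end EtProperH0Lib
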