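import Groth.Agent.EtProperH0Lib.EffDiscrete
import Groth.Agent.EtProperH0Lib.SepFibres

/-!
# Effective descent along flat morphisms with separable fibres
-/

set_option autoImplicit false
set_option linter.style.haveILetI false
set_option linter.unusedSectionVars false
set_option backward.isDefEq.respectTransparency false
set_option backward.isDefEq.respectTransparency.types false
universe u

open CategoryTheory CategoryTheory.Limits AlgebraicGeometry Opposite EtDescentLib Groth.Agent.EtShLib

namespace EtProperH0Lib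

noncomputable section

theorem univSubmersive_of_fpqc {T S : Scheme.{u}} (h : T ⟶ S) [Flat h] [QuasiCompact h] [Surjective h] :
    EtDesc.IsUnivSubmersive h := fun Y g => by
  haveI : Flat (pullback.snd h g) := MorphismProperty.pullback_snd _ _ inferInstance
  haveI : QuasiCompact (pullback.snd h g) := MorphismProperty.pullback_snd _ _ inferInstance
  exact ⟨(pullback.snd h g).surjective, Flat.isQuotientMap_of_surjective _⟩

/-- The data needed for descent along a morphism with an étale local multisection. -/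
theorem isEffective_of_uloc_multisections {X' X : Scheme.{u}} {f : X' ⟶ X} {F' : EtDesc.Sh X'}
    {φ : (EtDesc.pullSh (pullback.fst f f)).obj F' ≅ (EtDesc.pullSh (pullback.snd f f)).obj F'}
    (hf : EtDesc.IsUnivSubmersive f) (hφ : EtDesc.IsCocycle F' φ)
    (hloc : ∀ y : X, ∃ (U0 T : Scheme.{u}) (u₀ : U0 ⟶ X) (_ : Etale u₀) (h : T ⟶ U0) (g : T ⟶ X')
      (_ : QuasiCompact h) (_ : QuasiSeparated h), g ≫ f = h ≫ u₀ ∧ y ∈ Set.range u₀.base ∧
        EtDesc.IsUnivSubmersive h ∧ EtAcyc.IsULocZeroAcyclic h) :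
    EtDesc.IsEffective f F' φ := by
  refine isEffective_of_multisections hf hφ fun y => ?_
  obtain ⟨U0, T, u₀, hu, h, g, hq, hs, w, hy, hh, hl⟩ := hloc y
  haveI := hq; haveI := hs
  haveI : QuasiCompact (pullback.fst h h) := MorphismProperty.pullback_fst _ _ hq
  haveI : QuasiSeparated (pullback.fst h h) := MorphismProperty.pullback_fst _ _ hs
  haveI : QuasiCompact (tSq h) := MorphismProperty.comp_mem _ _ _ ‹QuasiCompact (pullback.fst h h)› hq
  haveI : QuasiSeparated (tSq h) := MorphismProperty.comp_mem _ _ _ ‹QuasiSeparated (pullback.fst h h)› hs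
  exact ⟨U0, T, u₀, hu, h, g, w, hy, hh,
    fun G V => (phi_bijective_of_bc h h G (isIso_baseChange0Sh_of_uloc (IsPullback.of_hasPullback h h) hl G) V).2,
    fun G V => (phi_bijective_of_bc (tSq h) h G
      (isIso_baseChange0Sh_of_uloc (IsPullback.of_hasPullback (tSq h) h) hl G) V).1⟩

/-- An open flat morphism with separable fibres is locally affine over the base. -/
theorem exists_affine_section {X Y : Scheme.{u}} (g : X ⟶ Y) [Surjective g] [UniversallyOpen g] [Flat g]
    [GeometricallyReduced g] (h : (IsLocallyNoetherian X ∧ IsLocallyNoetherian Y) ∨ LocallyOfFinitePresentation g)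
    (y : Y) :
    ∃ (U T : Scheme.{u}) (u₀ : U ⟶ Y) (_ : IsOpenImmersion u₀) (k : T ⟶ U) (j : T ⟶ X) (_ : IsOpenImmersion j),
      y ∈ Set.range u₀.base ∧ j ≫ g = k ≫ u₀ ∧ UniversallyOpen k ∧ Surjective k ∧ IsAffineHom k ∧
        EtAcyc.IsULocZeroAcyclic k := by
  obtain ⟨U, hU, hyU, -⟩ := exists_isAffineOpen_mem_and_subset (x := y) (U := (⊤ : Y.Opens)) trivial
  obtain ⟨x, hx⟩ := g.surjective y
  obtain ⟨V, hV, hxV, hVU⟩ := exists_isAffineOpen_mem_and_subset (x := x) (U := g ⁻¹ᵁ U)
    (by show g x ∈ U; rw [hx]; exact hyU)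
  haveI : IsAffine V.toScheme := hV
  haveI : IsAffine U.toScheme := hU
  let k₀ : V.toScheme ⟶ U.toScheme := g.resLE U V hVU
  have hsq : IsPullback (g ⁻¹ᵁ U).ι (g ∣_ U) g U.ι := isPullback_morphismRestrict g U |>.flip
  haveI : Flat (g ∣_ U) := MorphismProperty.of_isPullback (P := @Flat) hsq inferInstance
  haveI : GeometricallyReduced (g ∣_ U) := MorphismProperty.of_isPullback (P := @GeometricallyReduced) hsq inferInstance
  haveI : UniversallyOpen (g ∣_ U) := MorphismProperty.of_isPullback (P := @UniversallyOpen) hsq inferInstance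
  haveI : UniversallyOpen k₀ := by
    show UniversallyOpen (X.homOfLE hVU ≫ g ∣_ U)
    infer_instance
  let W : U.toScheme.Opens := ⟨Set.range k₀.base, k₀.isOpenMap.isOpen_range⟩
  have hsq₀ : IsPullback (k₀ ⁻¹ᵁ W).ι (k₀ ∣_ W) k₀ W.ι := isPullback_morphismRestrict k₀ W |>.flip
  refine ⟨W.toScheme, (k₀ ⁻¹ᵁ W).toScheme, W.ι ≫ U.ι, inferInstance, k₀ ∣_ W, (k₀ ⁻¹ᵁ W).ι ≫ V.ι, inferInstance,
    ?_, ?_, ?_, ⟨?_⟩, ?_, ?_⟩
  · exact ⟨⟨⟨y, hyU⟩, ⟨x, hxV⟩, Subtype.ext (by simp [k₀, Scheme.Hom.resLE, hx])⟩, rfl⟩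
  · simp [k₀]
  · exact MorphismProperty.of_isPullback (P := @UniversallyOpen) hsq₀ inferInstance
  · rintro ⟨w, v, hv⟩
    refine ⟨⟨v, v, rfl⟩, Subtype.ext ?_⟩
    rw [morphismRestrict_base_coe]
    exact hv
  · exact MorphismProperty.of_isPullback (P := @IsAffineHom) hsq₀ inferInstance
  · refine isULocZeroAcyclic_of_isPullback (g := k₀) ?_ hsq₀
    show EtAcyc.IsULocZeroAcyclic (X.homOfLE hVU ≫ g ∣_ U)
    haveI := geometricallyReduced_comp_weaklyEtale (X.homOfLE hVU) (g ∣_ U)
    refine isULocZeroAcyclic_of_flat_sep (X.homOfLE hVU ≫ g ∣_ U) (h.imp (fun hn => ?_) fun hp => ?_)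
    · haveI := hn.1
      haveI := hn.2
      exact ⟨inferInstance, inferInstance⟩
    · haveI := hp
      haveI : LocallyOfFinitePresentation (g ∣_ U) :=
        MorphismProperty.of_isPullback (P := @LocallyOfFinitePresentation) hsq hp
      infer_instance

theorem geometricallyReduced_of_fields {X Y : Scheme.{u}} (g : X ⟶ Y)
    (hsep : ∀ (K : Type u) [Field K] (k : Spec (CommRingCat.of K) ⟶ Y), IsReduced (pullback g k)) :
    GeometricallyReduced g :=
  ⟨geometrically_iff_of_isClosedUnderIsomorphisms.mpr fun K _ k => hsep K k⟩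

/-- Flat surjections with separable fibres are universally of effective descent. -/
theorem isEffective_of_flat_sep {X Y X₁ Y₁ : Scheme.{u}} (g : X ⟶ Y) [Surjective g] [Flat g] [GeometricallyReduced g]
    (h : (IsLocallyNoetherian X ∧ IsLocallyNoetherian Y ∧ ((QuasiCompact g ∧ QuasiSeparated g) ∨ UniversallyOpen g)) ∨
      LocallyOfFinitePresentation g)
    {g₁ : X₁ ⟶ Y₁} {b' : X₁ ⟶ X} {b : Y₁ ⟶ Y} (H : IsPullback b' g₁ g b) {F' : EtDesc.Sh X₁}
    {φ : (EtDesc.pullSh (pullback.fst g₁ g₁)).obj F' ≅ (EtDesc.pullSh (pullback.snd g₁ g₁)).obj F'}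
    (hφ : EtDesc.IsCocycle F' φ) : EtDesc.IsEffective g₁ F' φ := by
  have hl : EtAcyc.IsULocZeroAcyclic g := isULocZeroAcyclic_of_flat_sep g (h.imp (fun a => ⟨a.1, a.2.1⟩) id)
  haveI : Surjective g₁ := MorphismProperty.of_isPullback (P := @Surjective) H ‹_›
  haveI : Flat g₁ := MorphismProperty.of_isPullback (P := @Flat) H ‹_›
  have ho : (QuasiCompact g ∧ QuasiSeparated g) ∨ UniversallyOpen g :=
    h.elim (fun a => a.2.2) fun a => Or.inr (haveI := a; inferInstance)
  rcases ho with ⟨hq, hs⟩ | ho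
  · haveI : QuasiCompact g₁ := MorphismProperty.of_isPullback (P := @QuasiCompact) H hq
    haveI : QuasiSeparated g₁ := MorphismProperty.of_isPullback (P := @QuasiSeparated) H hs
    exact isEffective_of_uloc_multisections (univSubmersive_of_fpqc g₁) hφ fun y =>
      ⟨Y₁, X₁, 𝟙 Y₁, inferInstance, g₁, 𝟙 X₁, inferInstance, inferInstance, by simp, ⟨y, rfl⟩,
        univSubmersive_of_fpqc g₁, isULocZeroAcyclic_of_isPullback hl H⟩
  · haveI := ho
    haveI : UniversallyOpen g₁ := MorphismProperty.of_isPullback (P := @UniversallyOpen) H ho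
    refine isEffective_of_uloc_multisections (univSubmersive_of_universallyOpen g₁) hφ fun y => ?_
    obtain ⟨U, T, u₀, hu, k, j, hj, hy, w, hko, hks, hka, hkl⟩ := exists_affine_section g (h.imp (fun a => ⟨a.1, a.2.1⟩) id) (b.base y)
    haveI := hu; haveI := hko; haveI := hks; haveI := hka
    have sq := IsPullback.of_hasPullback k (pullback.snd b u₀)
    haveI : IsAffineHom (pullback.snd k (pullback.snd b u₀)) := MorphismProperty.pullback_snd _ _ hka
    refine ⟨pullback b u₀, pullback k (pullback.snd b u₀), pullback.fst b u₀, inferInstance,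
      pullback.snd k (pullback.snd b u₀),
      H.lift (pullback.fst k (pullback.snd b u₀) ≫ j) (pullback.snd k (pullback.snd b u₀) ≫ pullback.fst b u₀) ?_,
      inferInstance, inferInstance, H.lift_snd _ _ _, ?_,
      univSubmersive_of_isPullback (univSubmersive_of_universallyOpen k) sq, isULocZeroAcyclic_of_isPullback hkl sq⟩
    · rw [Category.assoc, w, pullback.condition_assoc, ← pullback.condition, Category.assoc]
    · rw [IsOpenImmersion.range_pullbackFst]
      exact hy

end

end EtProperH0Lib
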