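import Groth.Agent.EtProperH0Lib.DescHom
import Groth.Agent.EtProperH0Lib.DescMono

/-!
# Transport along descent data
-/

set_option autoImplicit false
set_option linter.style.haveILetI false
set_option linter.unusedSectionVars false
set_option backward.isDefEq.respectTransparency false
set_option backward.isDefEq.respectTransparency.types false
universe u

open CategoryTheory CategoryTheory.Limits AlgebraicGeometry Opposite EtDescentLib Groth.Agent.EtShLib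

namespace EtProperH0Lib

noncomputable section

attribute [local irreducible] gamma mIso

/-- Transport of a map of inverse images along two morphisms. -/
def Phi {Z S : Scheme.{u}} (p₁ p₂ : Z ⟶ S) {F' : EtDesc.Sh S}
    (φ : (EtDesc.pullSh p₁).obj F' ⟶ (EtDesc.pullSh p₂).obj F') (W : Over Z)
    (t : (bigP F').obj (op ((Over.map p₁).obj W))) : (bigP F').obj (op ((Over.map p₂).obj W)) :=
  mu p₂ F' W ((bigMap φ).app (op W) ((Equiv.ofBijective _ (bijective_mu p₁ F' W)).symm t))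

theorem Phi_mu {Z S : Scheme.{u}} (p₁ p₂ : Z ⟶ S) {F' : EtDesc.Sh S}
    (φ : (EtDesc.pullSh p₁).obj F' ⟶ (EtDesc.pullSh p₂).obj F') (W : Over Z)
    (t : (bigP ((EtDesc.pullSh p₁).obj F')).obj (op W)) :
    Phi p₁ p₂ φ W (mu p₁ F' W t) = mu p₂ F' W ((bigMap φ).app (op W) t) :=
  congrArg (fun z => mu p₂ F' W ((bigMap φ).app (op W) z))
    ((Equiv.ofBijective _ (bijective_mu p₁ F' W)).symm_apply_apply t)

theorem Phi_map {Z S : Scheme.{u}} (p₁ p₂ : Z ⟶ S) {F' : EtDesc.Sh S}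
    (φ : (EtDesc.pullSh p₁).obj F' ⟶ (EtDesc.pullSh p₂).obj F') {W W' : Over Z} (k : W' ⟶ W)
    (t : (bigP F').obj (op ((Over.map p₁).obj W))) :
    Phi p₁ p₂ φ W' ((bigP F').map ((Over.map p₁).map k).op t) =
      (bigP F').map ((Over.map p₂).map k).op (Phi p₁ p₂ φ W t) := by
  obtain ⟨t₀, ht⟩ := (bijective_mu p₁ F' W).2 t
  rw [← ht, ← mu_map, Phi_mu, Phi_mu, bigMap_map, mu_map]

theorem bigMap_bijective {X : Scheme.{u}} {F G : EtDesc.Sh X} (α : F ⟶ G) [IsIso α] (W : Over X) :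
    Function.Bijective ((bigMap α).app (op W)) := by
  haveI : IsIso ((bigMap α).app (op W)) :=
    inferInstanceAs (IsIso ((pPull (Type (u + 1)) X ⋙ sheafToPresheaf _ _ ⋙ (evaluation _ _).obj (op W)).map α))
  exact (isIso_iff_bijective _).1 inferInstance

theorem Phi_injective {Z S : Scheme.{u}} (p₁ p₂ : Z ⟶ S) {F' : EtDesc.Sh S}
    (φ : (EtDesc.pullSh p₁).obj F' ⟶ (EtDesc.pullSh p₂).obj F') [IsIso φ] (W : Over Z) :
    Function.Injective (Phi p₁ p₂ φ W) := fun s t h =>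
  (Equiv.ofBijective _ (bijective_mu p₁ F' W)).symm.injective
    ((bigMap_bijective φ W).1 ((bijective_mu p₂ F' W).1 h))

theorem tau_Phi {Z S : Scheme.{u}} (p₁ p₂ : Z ⟶ S) {F' : EtDesc.Sh S}
    (φ : (EtDesc.pullSh p₁).obj F' ⟶ (EtDesc.pullSh p₂).obj F') (U : Z.Etale)
    (x : EtDesc.sect ((EtDesc.pullSh p₁).obj F') U) :
    tau p₂ F' U (φ.hom.app (op U) x) = Phi p₁ p₂ φ _ (tau p₁ F' U x) :=
  (tau_app p₂ φ U x).trans ((Phi_mu p₁ p₂ φ _ _).symm.trans (congrArg (Phi p₁ p₂ φ _) (mu_unit p₁ F' U x)))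

variable {X' X : Scheme.{u}} {f : X' ⟶ X} {F' : EtDesc.Sh X'}
  (φ : (EtDesc.pullSh (pullback.fst f f)).obj F' ≅ (EtDesc.pullSh (pullback.snd f f)).obj F')

/-- The first comparison object of a pair of lifts. -/
def fstHom {G : Scheme.{u}} (a₁ a₂ : G ⟶ X') (w : a₁ ≫ f = a₂ ≫ f) :
    (Over.map (pullback.fst f f)).obj (Over.mk (pullback.lift a₁ a₂ w)) ⟶ Over.mk a₁ :=
  Over.homMk (𝟙 G) (by
    show 𝟙 G ≫ a₁ = pullback.lift a₁ a₂ w ≫ pullback.fst f f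
    rw [Category.id_comp, pullback.lift_fst])

/-- The second comparison object of a pair of lifts. -/
def sndHom {G : Scheme.{u}} (a₁ a₂ : G ⟶ X') (w : a₁ ≫ f = a₂ ≫ f) :
    Over.mk a₂ ⟶ (Over.map (pullback.snd f f)).obj (Over.mk (pullback.lift a₁ a₂ w)) :=
  Over.homMk (𝟙 G) (by
    show 𝟙 G ≫ pullback.lift a₁ a₂ w ≫ pullback.snd f f = a₂
    rw [Category.id_comp, pullback.lift_snd])

/-- Transport of values along a descent datum. -/
def tr {G : Scheme.{u}} (a₁ a₂ : G ⟶ X') (w : a₁ ≫ f = a₂ ≫ f) (t : (bigP F').obj (op (Over.mk a₁))) :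
    (bigP F').obj (op (Over.mk a₂)) :=
  (bigP F').map (sndHom a₁ a₂ w).op
    (Phi (pullback.fst f f) (pullback.snd f f) φ.hom (Over.mk (pullback.lift a₁ a₂ w))
      ((bigP F').map (fstHom a₁ a₂ w).op t))

theorem tr_map {G G' : Scheme.{u}} {a₁ a₂ : G ⟶ X'} (w : a₁ ≫ f = a₂ ≫ f) {b₁ b₂ : G' ⟶ X'} (w' : b₁ ≫ f = b₂ ≫ f)
    (k₁ : Over.mk b₁ ⟶ Over.mk a₁) (k₂ : Over.mk b₂ ⟶ Over.mk a₂) (hk : k₁.left = k₂.left)
    (t : (bigP F').obj (op (Over.mk a₁))) :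
    tr φ b₁ b₂ w' ((bigP F').map k₁.op t) = (bigP F').map k₂.op (tr φ a₁ a₂ w t) := by
  let K : Over.mk (pullback.lift b₁ b₂ w') ⟶ Over.mk (pullback.lift a₁ a₂ w) := Over.homMk k₁.left (by
    show k₁.left ≫ pullback.lift a₁ a₂ w = pullback.lift b₁ b₂ w'
    apply pullback.hom_ext
    · rw [Category.assoc, pullback.lift_fst, pullback.lift_fst]
      exact Over.w k₁
    · rw [Category.assoc, pullback.lift_snd, pullback.lift_snd, hk]
      exact Over.w k₂)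
  unfold tr
  rw [← map_comp_apply', ← map_comp_apply']
  have h1 : fstHom b₁ b₂ w' ≫ k₁ = (Over.map (pullback.fst f f)).map K ≫ fstHom a₁ a₂ w := by
    refine Over.OverMorphism.ext ?_
    show 𝟙 G' ≫ k₁.left = k₁.left ≫ 𝟙 G
    simp
  have h2 : k₂ ≫ sndHom a₁ a₂ w = sndHom b₁ b₂ w' ≫ (Over.map (pullback.snd f f)).map K := by
    refine Over.OverMorphism.ext ?_
    show k₂.left ≫ 𝟙 G = 𝟙 G' ≫ k₁.left
    simp [hk]
  rw [h1, map_comp_apply', Phi_map, ← map_comp_apply', h2]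

theorem tr_injective {G : Scheme.{u}} (a₁ a₂ : G ⟶ X') (w : a₁ ≫ f = a₂ ≫ f) :
    Function.Injective (tr φ a₁ a₂ w) := by
  intro s t h
  unfold tr at h
  refine (bij_map' (bigP F') _ ?_).1 (Phi_injective _ _ φ.hom _ ((bij_map' (bigP F') _ ?_).1 h))
  all_goals exact inferInstanceAs (IsIso (𝟙 _))
where
  bij_map' {S : Scheme.{u}} (P : (Over S)ᵒᵖ ⥤ Type (u + 1)) {W W' : Over S} (k : W' ⟶ W) (hk : IsIso k.left) :
      Function.Bijective (P.map k.op) := by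
    haveI : IsIso ((Over.forget S).map k) := hk
    haveI : IsIso k := isIso_of_reflects_iso k (Over.forget S)
    exact (isIso_iff_bijective _).1 inferInstance

/-- Transport along the pullback of a descent datum. -/
theorem tau_pullIsoVia (g : EtDesc.X3 f ⟶ EtDesc.X2 f) (b₁ b₂ : EtDesc.X3 f ⟶ X') (w₁ : g ≫ pullback.fst f f = b₁)
    (w₂ : g ≫ pullback.snd f f = b₂) (w : b₁ ≫ f = b₂ ≫ f) (U : (EtDesc.X3 f).Etale)
    (x : EtDesc.sect ((EtDesc.pullSh b₁).obj F') U) :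
    tau b₂ F' U ((EtDesc.pullIsoVia g b₁ b₂ w₁ w₂ F' φ).hom.hom.app (op U) x) =
      tr φ (U.hom ≫ b₁) (U.hom ≫ b₂) (by rw [Category.assoc, Category.assoc, w]) (tau b₁ F' U x) := by
  let e₁ := EtDesc.pullVia g (pullback.fst f f) b₁ w₁ F'
  let e₂ := EtDesc.pullVia g (pullback.snd f f) b₂ w₂ F'
  obtain ⟨y, hy⟩ : ∃ y, e₁.hom.hom.app (op U) y = x :=
    ⟨e₁.inv.hom.app (op U) x, congrArg (fun k => k.hom.app (op U) x) e₁.inv_hom_id⟩
  have hy' : e₁.inv.hom.app (op U) x = y := by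
    rw [← hy]
    exact congrArg (fun k => k.hom.app (op U) y) e₁.hom_inv_id
  have hL : (EtDesc.pullIsoVia g b₁ b₂ w₁ w₂ F' φ).hom.hom.app (op U) x =
      e₂.hom.hom.app (op U) (((EtDesc.pullSh g).map φ.hom).hom.app (op U) y) := by
    rw [← hy']
    rfl
  let W : Over (EtDesc.X3 f) := (EtFppf.a (EtDesc.X3 f)).obj U
  let L : Over (EtDesc.X2 f) := Over.mk (pullback.lift (U.hom ≫ b₁) (U.hom ≫ b₂) (by rw [Category.assoc, Category.assoc, w]))
  let K : L ⟶ (Over.map g).obj W := Over.homMk (𝟙 U.left) (by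
    show 𝟙 U.left ≫ U.hom ≫ g = L.hom
    rw [Category.id_comp]
    apply pullback.hom_ext
    · rw [Category.assoc, w₁]
      exact (pullback.lift_fst _ _ _).symm
    · rw [Category.assoc, w₂]
      exact (pullback.lift_snd _ _ _).symm)
  rw [hL, tau_pullVia', tau_pullMap g φ.hom, ← Phi_mu, ← hy, tau_pullVia']
  generalize mu (pullback.fst f f) F' _ (tau g ((EtDesc.pullSh (pullback.fst f f)).obj F') U y) = z
  unfold tr
  let v : (U.hom ≫ b₁) ≫ f = (U.hom ≫ b₂) ≫ f := by rw [Category.assoc, Category.assoc, w]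
  have h1 : (bigP F').map (fstHom (U.hom ≫ b₁) (U.hom ≫ b₂) v).op ((bigP F').map (cObj g (pullback.fst f f) b₁ w₁ W).op z) =
      (bigP F').map ((Over.map (pullback.fst f f)).map K).op z := by
    refine (map_comp_apply' (P := bigP F') _ _ _).symm.trans ?_
    refine congrArg (fun m => (bigP F').map (Quiver.Hom.op m) z) (Over.OverMorphism.ext ?_)
    show 𝟙 U.left ≫ 𝟙 U.left = 𝟙 U.left
    simp
  refine Eq.trans ?_ (congrArg (fun z' => (bigP F').map (sndHom (U.hom ≫ b₁) (U.hom ≫ b₂) v).op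
    (Phi (pullback.fst f f) (pullback.snd f f) φ.hom L z')) h1).symm
  rw [Phi_map]
  refine Eq.trans ?_ (map_comp_apply' (P := bigP F') _ _ _)
  refine congrArg (fun m => (bigP F').map (Quiver.Hom.op m) _) (Over.OverMorphism.ext ?_)
  show 𝟙 U.left = 𝟙 U.left ≫ 𝟙 U.left
  simp

theorem q12_comm : EtDesc.q1 (f := f) ≫ f = EtDesc.q2 (f := f) ≫ f := by
  show (_ ≫ _) ≫ f = (_ ≫ _) ≫ f
  rw [Category.assoc, Category.assoc, pullback.condition]

theorem q23_comm : EtDesc.q2 (f := f) ≫ f = EtDesc.q3 (f := f) ≫ f := by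
  rw [← EtDesc.p23_fst]
  show (_ ≫ _) ≫ f = (_ ≫ _) ≫ f
  rw [Category.assoc, Category.assoc, pullback.condition]

variable {φ}

theorem app_of_comp {Z : Scheme.{u}} {A B C : EtDesc.Sh Z} (e₁ : A ≅ B) (e₂ : B ≅ C) (e₃ : A ≅ C)
    (h : e₁.hom ≫ e₂.hom = e₃.hom) (U : Z.Etale) (x : EtDesc.sect A U) :
    e₂.hom.hom.app (op U) (e₁.hom.hom.app (op U) x) = e₃.hom.hom.app (op U) x :=
  congrArg (fun k => k.hom.app (op U) x) h

theorem cocycle_app (hφ : EtDesc.IsCocycle F' φ) (U : (EtDesc.X3 f).Etale)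
    (t : (bigP F').obj (op (Over.mk (U.hom ≫ EtDesc.q1 (f := f)))))
    (w₁₂ : (U.hom ≫ EtDesc.q1 (f := f)) ≫ f = (U.hom ≫ EtDesc.q2 (f := f)) ≫ f)
    (w₂₃ : (U.hom ≫ EtDesc.q2 (f := f)) ≫ f = (U.hom ≫ EtDesc.q3 (f := f)) ≫ f) :
    tr φ _ _ w₂₃ (tr φ _ _ w₁₂ t) = tr φ _ _ (w₁₂.trans w₂₃) t := by
  have h12 := q12_comm (f := f)
  have h23 := q23_comm (f := f)
  obtain ⟨x, rfl⟩ := (bijective_tau (EtDesc.q1 (f := f)) F' U).2 t
  rw [← tau_pullIsoVia φ (EtDesc.p12 f) _ _ rfl rfl h12 U x,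
    ← tau_pullIsoVia φ (EtDesc.p23 f) _ _ EtDesc.p23_fst rfl h23 U,
    ← tau_pullIsoVia φ (EtDesc.p13 f) _ _ EtDesc.p13_fst EtDesc.p13_snd (h12.trans h23) U x]
  exact congrArg (tau EtDesc.q3 F' U) (app_of_comp _ _ _ hφ U x)

/-- The cocycle condition for transport. -/
theorem tr_trans (hφ : EtDesc.IsCocycle F' φ) {G : Scheme.{u}} (a₁ a₂ a₃ : G ⟶ X') (w₁₂ : a₁ ≫ f = a₂ ≫ f)
    (w₂₃ : a₂ ≫ f = a₃ ≫ f) (t : (bigP F').obj (op (Over.mk a₁))) :
    tr φ _ _ w₂₃ (tr φ _ _ w₁₂ t) = tr φ _ _ (w₁₂.trans w₂₃) t := by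
  refine (hasGerms_bigP F').ext fun H c hH => ?_
  let b₁ := c.left ≫ a₁
  let b₂ := c.left ≫ a₂
  let b₃ := c.left ≫ a₃
  let k₁ : Over.mk b₁ ⟶ Over.mk a₁ := Over.homMk c.left rfl
  let k₂ : Over.mk b₂ ⟶ Over.mk a₂ := Over.homMk c.left rfl
  let k₃ : Over.mk b₃ ⟶ Over.mk a₃ := Over.homMk c.left rfl
  have v₁₂ : b₁ ≫ f = b₂ ≫ f := by simp [b₁, b₂, w₁₂]
  have v₂₃ : b₂ ≫ f = b₃ ≫ f := by simp [b₂, b₃, w₂₃]
  let e : H ⟶ Over.mk b₃ := Over.homMk (𝟙 H.left) (by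
    show 𝟙 H.left ≫ c.left ≫ a₃ = H.hom
    rw [Category.id_comp]
    exact Over.w c)
  have he : e ≫ k₃ = c := Over.OverMorphism.ext (Category.id_comp _)
  rw [← he, map_comp_apply', map_comp_apply']
  refine congrArg _ ?_
  rw [← tr_map φ w₂₃ v₂₃ k₂ k₃ rfl, ← tr_map φ w₁₂ v₁₂ k₁ k₂ rfl,
    ← tr_map φ (w₁₂.trans w₂₃) (v₁₂.trans v₂₃) k₁ k₃ rfl]
  generalize (bigP F').map k₁.op t = t'
  let l : H.left ⟶ EtDesc.X3 f := pullback.lift (pullback.lift b₁ b₂ v₁₂) (pullback.lift b₂ b₃ v₂₃) (by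
    rw [pullback.lift_snd, pullback.lift_fst])
  have l₁ : l ≫ EtDesc.q1 (f := f) = b₁ := by
    show l ≫ pullback.fst _ _ ≫ _ = _
    rw [pullback.lift_fst_assoc, pullback.lift_fst]
  have l₂ : l ≫ EtDesc.q2 (f := f) = b₂ := by
    show l ≫ pullback.fst _ _ ≫ _ = _
    rw [pullback.lift_fst_assoc, pullback.lift_snd]
  have l₃ : l ≫ EtDesc.q3 (f := f) = b₃ := by
    show l ≫ pullback.snd _ _ ≫ _ = _
    rw [pullback.lift_snd_assoc, pullback.lift_snd]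
  obtain ⟨W, p, hp, k, s, hk, hs⟩ := (hasGerms_bigP F').exists_germ (T := Over.mk (EtDesc.q1 (f := f)))
    (Over.homMk l l₁ : Over.mk b₁ ⟶ Over.mk (EtDesc.q1 (f := f))) hH t'
  haveI : Etale p.left := hp
  let U : (EtDesc.X3 f).Etale := Scheme.Etale.mk p.left
  have hkl : k.left ≫ U.hom = l := congrArg CommaMorphism.left hk
  let r : Over.mk (U.hom ≫ EtDesc.q1 (f := f)) ⟶ W := Over.homMk (𝟙 W.left) (by
    show 𝟙 W.left ≫ W.hom = p.left ≫ EtDesc.q1 (f := f)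
    rw [Category.id_comp]
    exact (Over.w p).symm)
  let m₁ : Over.mk b₁ ⟶ Over.mk (U.hom ≫ EtDesc.q1 (f := f)) := Over.homMk k.left (by
    show k.left ≫ U.hom ≫ _ = b₁
    rw [reassoc_of% hkl, l₁])
  let m₂ : Over.mk b₂ ⟶ Over.mk (U.hom ≫ EtDesc.q2 (f := f)) := Over.homMk k.left (by
    show k.left ≫ U.hom ≫ _ = b₂
    rw [reassoc_of% hkl, l₂])
  let m₃ : Over.mk b₃ ⟶ Over.mk (U.hom ≫ EtDesc.q3 (f := f)) := Over.homMk k.left (by
    show k.left ≫ U.hom ≫ _ = b₃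
    rw [reassoc_of% hkl, l₃])
  have hmr : m₁ ≫ r = k := Over.OverMorphism.ext (Category.comp_id _)
  have c12 : (U.hom ≫ EtDesc.q1 (f := f)) ≫ f = (U.hom ≫ EtDesc.q2 (f := f)) ≫ f :=
    (Category.assoc _ _ _).trans ((congrArg (U.hom ≫ ·) q12_comm).trans (Category.assoc _ _ _).symm)
  have c23 : (U.hom ≫ EtDesc.q2 (f := f)) ≫ f = (U.hom ≫ EtDesc.q3 (f := f)) ≫ f :=
    (Category.assoc _ _ _).trans ((congrArg (U.hom ≫ ·) q23_comm).trans (Category.assoc _ _ _).symm)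
  rw [← hs, ← hmr, map_comp_apply', tr_map φ c12 v₁₂ m₁ m₂ rfl, tr_map φ c23 v₂₃ m₂ m₃ rfl,
    tr_map φ (c12.trans c23) (v₁₂.trans v₂₃) m₁ m₃ rfl, cocycle_app hφ U]

theorem tr_self (hφ : EtDesc.IsCocycle F' φ) {G : Scheme.{u}} (a : G ⟶ X') (t : (bigP F').obj (op (Over.mk a))) :
    tr φ a a rfl t = t :=
  tr_injective φ a a rfl (tr_trans hφ a a a rfl rfl t)

theorem tr_symm (hφ : EtDesc.IsCocycle F' φ) {G : Scheme.{u}} (a₁ a₂ : G ⟶ X') (w : a₁ ≫ f = a₂ ≫ f)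
    (t : (bigP F').obj (op (Over.mk a₁))) : tr φ a₂ a₁ w.symm (tr φ a₁ a₂ w t) = t :=
  (tr_trans hφ a₁ a₂ a₁ w w.symm t).trans (tr_self hφ a₁ t)

end

end EtProperH0Lib
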