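import Groth.Agent.EtProperH0Lib.ShIdent
import Mathlib.LinearAlgebra.TensorProduct.Vanishing
import Mathlib.LinearAlgebra.TensorProduct.Finiteness
import Groth.Agent.SchFinLib.Conn
import Groth.Agent.HenselBranchLib.IndEtLocal

/-!
# Connectedness of fibres of strictly henselian ind-étale algebras, tested on étale stages
-/

set_option autoImplicit false
set_option linter.style.haveILetI false
set_option linter.unusedSectionVars false
set_option backward.isDefEq.respectTransparency false
universe u

open IsLocalRing TensorProduct AlgSpRegLib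

namespace EtProperH0Lib

variable (A R' : Type u) [CommRing A] [CommRing R'] [HenselianLocalRing R'] [IsSepClosed (ResidueField R')]
  [Algebra A R'] [Algebra.WeaklyEtale A R']

/-- A finite family of elements comes from one étale algebra over a given one. -/
theorem exists_stage_lift {B : Type u} [CommRing B] [Algebra A B] [Algebra.Etale A B] (ξ : B →ₐ[A] R')
    {ι : Type*} (s : Finset ι) (y : ι → R') :
    ∃ (B' : Type u) (_ : CommRing B') (_ : Algebra A B') (_ : Algebra.Etale A B') (g : B →ₐ[A] B') (ξ' : B' →ₐ[A] R'),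
      ξ'.comp g = ξ ∧ ∀ i ∈ s, ∃ b, ξ' b = y i := by
  classical
  induction s using Finset.induction_on with
  | empty => exact ⟨B, inferInstance, inferInstance, inferInstance, AlgHom.id A B, ξ, AlgHom.comp_id _, by simp⟩
  | insert j s hj ih =>
    obtain ⟨B', _, _, _, g, ξ', hg, hs⟩ := ih
    obtain ⟨C, _, _, _, η, c, hc⟩ := exists_indEtale_rep A R' (y j)
    haveI : Algebra.Etale A (B' ⊗[A] C) := Algebra.Etale.comp A B' (B' ⊗[A] C)
    let θ : B' ⊗[A] C →ₐ[A] R' := Algebra.TensorProduct.lift ξ' η fun _ _ => Commute.all _ _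
    refine ⟨B' ⊗[A] C, inferInstance, inferInstance, inferInstance, Algebra.TensorProduct.includeLeft.comp g, θ,
      AlgHom.ext fun b => ?_, fun i hi => ?_⟩
    · simp [θ, ← hg]
    rcases Finset.mem_insert.1 hi with rfl | hi
    · exact ⟨1 ⊗ₜ c, by simp [θ, hc]⟩
    · obtain ⟨b, hb⟩ := hs i hi
      exact ⟨b ⊗ₜ 1, by simp [θ, hb]⟩

/-- A finite family of elements vanishing in the algebra vanishes on an étale algebra. -/
theorem exists_stage_zero {B : Type u} [CommRing B] [Algebra A B] [Algebra.Etale A B] (ξ : B →ₐ[A] R')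
    {ι : Type*} (s : Finset ι) (d : ι → B) (hd : ∀ i ∈ s, ξ (d i) = 0) :
    ∃ (B' : Type u) (_ : CommRing B') (_ : Algebra A B') (_ : Algebra.Etale A B') (g : B →ₐ[A] B') (ξ' : B' →ₐ[A] R'),
      ξ'.comp g = ξ ∧ ∀ i ∈ s, g (d i) = 0 := by
  classical
  have hd' : ∀ i ∈ s, ∃ a : B, IsUnit (ξ a) ∧ a * d i = 0 := fun i hi =>
    HenselBranchLib.exists_isUnit_mul_eq_zero ξ.toRingHom (HenselBranchLib.flat_of_etale_hom ξ) _ (hd i hi)
  choose a ha ha' using hd'
  let b := ∏ i ∈ s.attach, a i.1 i.2
  have hb : IsUnit (ξ b) := by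
    rw [map_prod]
    exact IsUnit.prod_iff.2 fun i _ => ha i.1 i.2
  haveI : Algebra.Etale A (Localization.Away b) := Algebra.Etale.comp A B (Localization.Away b)
  refine ⟨Localization.Away b, inferInstance, inferInstance, inferInstance,
    IsScalarTower.toAlgHom A B (Localization.Away b),
    IsLocalization.Away.liftAlgHom b (f := ξ) hb (S := Localization.Away b), AlgHom.ext fun x => by simp, fun i hi => ?_⟩
  show algebraMap B (Localization.Away b) (d i) = 0
  rw [IsLocalization.map_eq_zero_iff (Submonoid.powers b)]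
  refine ⟨⟨b, Submonoid.mem_powers b⟩, ?_⟩
  show b * d i = 0
  rw [show b = a i hi * ∏ j ∈ s.attach.erase ⟨i, hi⟩, a j.1 j.2 from
    (Finset.mul_prod_erase s.attach (fun j => a j.1 j.2) (Finset.mem_attach s ⟨i, hi⟩)).symm, mul_right_comm, ha', zero_mul]

variable (R : Type u) [CommRing R] [Algebra R A] [Algebra R R'] [IsScalarTower R A R'] [Module.Flat R R']
  (K : Type u) [CommRing K] [Algebra R K]

/-- The map on tensor products attached to a stage. -/
noncomputable abbrev stageMap {B B' : Type u} [CommRing B] [CommRing B'] [Algebra A B] [Algebra A B'] [Algebra R B]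
    [Algebra R B'] [IsScalarTower R A B] [IsScalarTower R A B'] (g : B →ₐ[A] B') : K ⊗[R] B →ₐ[R] K ⊗[R] B' :=
  Algebra.TensorProduct.map (AlgHom.id R K) (g.restrictScalars R)

theorem stageMap_stageMap {B B' B'' : Type u} [CommRing B] [CommRing B'] [CommRing B''] [Algebra A B] [Algebra A B']
    [Algebra A B''] [Algebra R B] [Algebra R B'] [Algebra R B''] [IsScalarTower R A B] [IsScalarTower R A B']
    [IsScalarTower R A B''] (g : B →ₐ[A] B') (h : B' →ₐ[A] B'') (z : K ⊗[R] B) :
    stageMap A R K h (stageMap A R K g z) = stageMap A R K (h.comp g) z := by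
  induction z using TensorProduct.induction_on with
  | zero => simp
  | add a b ha hb => simp only [map_add, ha, hb]
  | tmul a b => simp

/-- Trivial idempotents on all étale stages give a connected fibre. -/
theorem trivIdem_of_stages
    (H : ∀ (B : Type u) [CommRing B] [Algebra A B] [Algebra.Etale A B] [Algebra R B] [IsScalarTower R A B]
      (ξ : B →ₐ[A] R') (z : K ⊗[R] B), IsIdempotentElem z → stageMap A R K ξ z = 0 ∨ stageMap A R K ξ z = 1)
    (e : K ⊗[R] R') (he : IsIdempotentElem e) : e = 0 ∨ e = 1 := by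
  classical
  obtain ⟨S, rfl⟩ := TensorProduct.exists_finset e
  obtain ⟨B, _, _, _, g₀, ξ, -, hS⟩ := exists_stage_lift A R' (Algebra.ofId A R') S Prod.snd
  letI : Algebra R B := ((algebraMap A B).comp (algebraMap R A)).toAlgebra
  haveI : IsScalarTower R A B := IsScalarTower.of_algebraMap_eq fun _ => rfl
  choose b hb using hS
  let z : K ⊗[R] B := ∑ i ∈ S.attach, i.1.1 ⊗ₜ b i.1 i.2
  have hz : stageMap A R K ξ z = ∑ i ∈ S, i.1 ⊗ₜ[R] i.2 := by
    rw [map_sum, ← Finset.sum_attach S (fun i => i.1 ⊗ₜ[R] i.2)]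
    exact Finset.sum_congr rfl fun i _ => by simp [hb]
  obtain ⟨T, hT⟩ := TensorProduct.exists_finset (z * z - z)
  have h0 : stageMap A R K ξ (z * z - z) = 0 := by rw [map_sub, map_mul, hz, he.eq, sub_self]
  rw [hT, map_sum, ← Finset.sum_coe_sort] at h0
  simp only [Algebra.TensorProduct.map_tmul, AlgHom.id_apply, AlgHom.restrictScalars_apply] at h0
  obtain ⟨κ, a, y, hy, ha⟩ := TensorProduct.vanishesTrivially_of_sum_tmul_eq_zero_of_rTensor_injective R
    (m := fun i : T => i.1.1) (n := fun i : T => ξ i.1.2)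
    (Module.Flat.rTensor_preserves_injective_linearMap _ Subtype.val_injective) h0
  obtain ⟨B₁, _, _, _, g₁, ξ₁, hξ₁, hy₁⟩ := exists_stage_lift A R' ξ Finset.univ y
  letI : Algebra R B₁ := ((algebraMap A B₁).comp (algebraMap R A)).toAlgebra
  haveI : IsScalarTower R A B₁ := IsScalarTower.of_algebraMap_eq fun _ => rfl
  choose y' hy' using fun j => hy₁ j (Finset.mem_univ j)
  let d : T → B₁ := fun i => g₁ i.1.2 - ∑ j, a i j • y' j
  obtain ⟨B₂, _, _, _, g₂, ξ₂, hξ₂, hd⟩ := exists_stage_zero A R' ξ₁ Finset.univ d fun i _ => by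
    have h1 : ξ₁ (∑ j, a i j • y' j) = ξ i.1.2 := by
      rw [map_sum]
      refine Eq.trans ?_ (hy i).symm
      exact Finset.sum_congr rfl fun j _ => by rw [← AlgHom.restrictScalars_apply R ξ₁, map_smul, AlgHom.restrictScalars_apply, hy']
    rw [map_sub, h1, ← AlgHom.comp_apply, hξ₁, sub_self]
  letI : Algebra R B₂ := ((algebraMap A B₂).comp (algebraMap R A)).toAlgebra
  haveI : IsScalarTower R A B₂ := IsScalarTower.of_algebraMap_eq fun _ => rfl
  have key : stageMap A R K (g₂.comp g₁) (z * z - z) = 0 := by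
    rw [hT, map_sum, ← Finset.sum_coe_sort]
    have h2 : ∀ i : T, (g₂.comp g₁) i.1.2 = ∑ j, a i j • g₂ (y' j) := fun i => by
      have h3 := hd i (Finset.mem_univ i)
      rw [map_sub, sub_eq_zero, map_sum] at h3
      rw [AlgHom.comp_apply, h3]
      exact Finset.sum_congr rfl fun j _ => by rw [← AlgHom.restrictScalars_apply R g₂, map_smul, AlgHom.restrictScalars_apply]
    simp only [Algebra.TensorProduct.map_tmul, AlgHom.id_apply, AlgHom.restrictScalars_apply, h2, tmul_sum, tmul_smul,
      ← smul_tmul']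
    rw [Finset.sum_comm]
    exact Finset.sum_eq_zero fun j _ => by
      simp only [smul_tmul', ← TensorProduct.sum_tmul, ha j, zero_tmul]
  have hidem : IsIdempotentElem (stageMap A R K (g₂.comp g₁) z) := by
    have h4 := key
    rw [map_sub, map_mul, sub_eq_zero] at h4
    exact h4
  have := H B₂ ξ₂ _ hidem
  rwa [stageMap_stageMap, ← AlgHom.comp_assoc, hξ₂, hξ₁, hz] at this

end EtProperH0Lib
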