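import Groth.Agent.EtProperH0Lib.Fibre
import Groth.Agent.EtProperH0Lib.StrictMain
import Mathlib.RingTheory.Unramified.Field
import Mathlib.RingTheory.Etale.Field

/-!
# Base change in degree zero over a field
-/

set_option autoImplicit false
set_option linter.style.haveILetI false
set_option backward.isDefEq.respectTransparency false
set_option backward.isDefEq.respectTransparency.types false
universe u

open CategoryTheory CategoryTheory.Limits AlgebraicGeometry Opposite EtDescentLib AlgSpRegLib TensorProduct

namespace EtProperH0Lib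

theorem isUnit_of_basicOpen_eq_univ {B : Type u} [CommRing B] {e : B}
    (h : (PrimeSpectrum.basicOpen e : Set (PrimeSpectrum B)) = Set.univ) : IsUnit e := by
  by_contra he
  obtain ⟨m, hm, hem⟩ := exists_max_ideal_of_mem_nonunits (mem_nonunits_iff.2 he)
  exact (h.ge (Set.mem_univ (⟨m, hm.isPrime⟩ : PrimeSpectrum B))) hem

theorem connectedSpace_of_local (B : Type u) [CommRing B] [IsLocalRing B] : ConnectedSpace (PrimeSpectrum B) := by
  haveI : PreconnectedSpace (PrimeSpectrum B) := preconnectedSpace_iff_clopen.2 fun s hs => by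
    by_cases h : IsLocalRing.closedPoint B ∈ s
    · exact Or.inr (Set.eq_univ_of_forall fun z => (IsLocalRing.specializes_closedPoint z).mem_open hs.isOpen h)
    · exact Or.inl (Set.eq_empty_of_forall_notMem fun z hz =>
        (IsLocalRing.specializes_closedPoint z).mem_open hs.compl.isOpen h hz)
  exact ⟨⟨IsLocalRing.closedPoint B⟩⟩

theorem isSepClosed_of_field (R : Type u) [Field R] [IsSepClosed (IsLocalRing.ResidueField R)] : IsSepClosed R := by
  let e : R ≃+* IsLocalRing.ResidueField R := RingEquiv.ofBijective (IsLocalRing.residue R)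
    ⟨(IsLocalRing.residue R).injective, IsLocalRing.residue_surjective⟩
  letI : Algebra (IsLocalRing.ResidueField R) R := (e.symm : IsLocalRing.ResidueField R →+* R).toAlgebra
  haveI : Algebra.IsAlgebraic (IsLocalRing.ResidueField R) R := ⟨fun x => by
    obtain ⟨a, rfl⟩ := e.symm.surjective x
    exact isAlgebraic_algebraMap a⟩
  exact Algebra.IsAlgebraic.isSepClosed (F := IsLocalRing.ResidueField R)

open ConnBC in
theorem trivIdem_of_connected {B : Type u} [CommRing B] (h : ConnectedSpace (PrimeSpectrum B)) : TrivIdem B :=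
  fun e he => by
  rcases isClopen_iff.1 (PrimeSpectrum.isClopen_iff.2 ⟨e, he, rfl⟩) with h' | h'
  · exact Or.inl (he.eq_zero_of_isNilpotent (PrimeSpectrum.basicOpen_eq_bot_iff e |>.1 (TopologicalSpace.Opens.ext h')))
  · exact Or.inr ((IsIdempotentElem.iff_eq_one_of_isUnit (isUnit_of_basicOpen_eq_univ h')).1 he)

open ConnBC in
/-- A connected affine scheme over a separably closed field is geometrically connected. -/
theorem geometricallyConnected_of_sepClosed' (k B : Type u) [Field k] [IsSepClosed k] [CommRing B] [Algebra k B]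
    [ConnectedSpace (PrimeSpectrum B)] : GeometricallyConnected (Spec.map (CommRingCat.ofHom (algebraMap k B))) := by
  haveI : Nontrivial B := PrimeSpectrum.nonempty_iff_nontrivial.1 ConnectedSpace.toNonempty
  refine ⟨geometrically_iff_of_isClosedUnderIsomorphisms.mpr fun F _ y => ?_⟩
  obtain ⟨φ, rfl⟩ := Spec.map_surjective y
  algebraize [φ.hom]
  let F' := AlgebraicClosure F
  let Ω := AlgebraicClosure k
  let ι : Ω →ₐ[k] F' := IsAlgClosed.lift
  letI : Algebra Ω F' := ι.toRingHom.toAlgebra
  haveI : IsScalarTower k Ω F' := IsScalarTower.of_algebraMap_eq fun x => (ι.commutes x).symm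
  have hh := PrimeSpectrum.isHomeomorph_comap_of_isPurelyInseparable (k := k) (K := Ω) (R := B)
  haveI : ConnectedSpace (PrimeSpectrum (B ⊗[k] Ω)) := hh.homeomorph.symm.surjective.connectedSpace (Homeomorph.continuous _)
  have h1 : TrivIdem (Ω ⊗[k] B) := TrivIdem.of_injective (Algebra.TensorProduct.comm k Ω B).toAlgHom.toRingHom
    (AlgEquiv.injective _) (trivIdem_of_connected inferInstance)
  have h2 : TrivIdem (F' ⊗[Ω] (Ω ⊗[k] B)) := trivIdem_tensor_field h1
  have h3 : TrivIdem (F' ⊗[k] B) := TrivIdem.of_injective
    (Algebra.TensorProduct.cancelBaseChange k Ω Ω F' B).symm.toAlgHom.toRingHom (AlgEquiv.injective _) h2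
  let g : B ⊗[k] F →ₐ[k] B ⊗[k] F' := Algebra.TensorProduct.map (AlgHom.id k B) (IsScalarTower.toAlgHom k F F')
  have hg : Function.Injective g := fun x y hxy =>
    Module.Flat.lTensor_preserves_injective_linearMap (M := B) (IsScalarTower.toAlgHom k F F').toLinearMap
      (algebraMap F F').injective hxy
  have h4 : TrivIdem (B ⊗[k] F) := TrivIdem.of_injective ((Algebra.TensorProduct.comm k B F').toAlgHom.comp g).toRingHom
    ((Algebra.TensorProduct.comm k B F').injective.comp hg) h3
  haveI : Nontrivial (B ⊗[k] F) :=
    Algebra.TensorProduct.nontrivial_of_algebraMap_injective_of_flat_left (R := k) (A := B) (B := F)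
      (algebraMap k F).injective
  have h5 := connectedSpace_spec h4
  exact (pullbackSpecIso k B F).hom.homeomorph.connectedSpace_iff.mpr h5

/-- An étale algebra over a field is von Neumann regular. -/
theorem exists_eq_sq_mul (k : Type u) [Field k] {B : Type u} [CommRing B] [Algebra k B] [Algebra.Etale k B] (b : B) :
    ∃ c : B, b = b ^ 2 * c := by
  haveI : _root_.IsReduced B := Algebra.FormallyUnramified.isReduced_of_field k B
  haveI : Module.Finite k B := Algebra.FormallyUnramified.finite_of_free k B
  haveI : IsArtinianRing B := IsArtinianRing.of_finite k B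
  let e := IsArtinianRing.equivPi B
  classical
  refine ⟨e.symm fun i => if h : e b i = 0 then 0 else ?_, e.injective ?_⟩
  · exact (Classical.choose (((Ideal.Quotient.maximal_ideal_iff_isField_quotient _).1 i.isMaximal).mul_inv_cancel h))
  funext i
  rw [map_mul, map_pow, AlgEquiv.apply_symm_apply, Pi.mul_apply, Pi.pow_apply]
  split_ifs with h
  · rw [h, zero_pow two_ne_zero, zero_mul]
  · have h' := Classical.choose_spec (((Ideal.Quotient.maximal_ideal_iff_isField_quotient _).1 i.isMaximal).mul_inv_cancel h)
    rw [pow_two, mul_assoc, h', mul_one]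

/-- Strict henselizations of étale algebras over fields are fields. -/
theorem isField_shAt (k : Type u) [Field k] {A : CommRingCat.{u}} [Algebra k A] [Algebra.Etale k A] (p : Ideal A)
    [p.IsPrime] : IsField (ShAt p) := by
  rw [IsLocalRing.isField_iff_maximalIdeal_eq, eq_bot_iff]
  intro z hz
  obtain ⟨B, _, _, _, ξ, -, b, rfl⟩ := exists_etale_rep (p := p) z
  letI : Algebra k B := ((algebraMap A B).comp (algebraMap k A)).toAlgebra
  haveI : IsScalarTower k A B := IsScalarTower.of_algebraMap_eq fun _ => rfl
  haveI : Algebra.Etale k B := Algebra.Etale.comp k A B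
  obtain ⟨c, hc⟩ := exists_eq_sq_mul k b
  have h1 : ξ b * (1 - ξ b * ξ c) = 0 := by
    rw [mul_sub, mul_one, ← mul_assoc, ← pow_two, ← map_pow, ← map_mul, ← hc, sub_self]
  exact (IsLocalRing.isUnit_one_sub_self_of_mem_nonunits _ (Ideal.mul_mem_right _ _ hz)).mul_left_eq_zero.1 h1

variable {T S : Scheme.{u}} {f : T ⟶ S} {P : (Over T)ᵒᵖ ⥤ Type (u + 1)}

/-- Extending a separably closed field to a connected affine scheme does not change sections. -/
theorem bijective_of_sepClosed_connected (hP : HasGerms P) {k B : Type u} [Field k] [IsSepClosed k] [CommRing B]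
    [ConnectedSpace (PrimeSpectrum B)] (φ : k →+* B) (h : Spec (CommRingCat.of k) ⟶ S) :
    Function.Bijective (P.map ((Over.pullback f).map
      (Over.homMk (Spec.map (CommRingCat.ofHom φ)) rfl :
        Over.mk (Spec.map (CommRingCat.ofHom φ) ≫ h) ⟶ Over.mk h)).op) := by
  letI : Algebra k B := φ.toAlgebra
  let c := Spec.map (CommRingCat.ofHom φ)
  haveI : GeometricallyConnected c := geometricallyConnected_of_sepClosed' k B
  haveI : UniversallyOpen c := inferInstance
  let q := pullback.fst h f
  let i := pullback.fst q c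
  haveI : GeometricallyConnected i := inferInstance
  haveI : UniversallyOpen i := inferInstance
  haveI : Surjective i := inferInstance
  have hb := bijective_map_of_restrict (pullback.snd h f) i
    ((hasGerms_restrict hP (pullback.snd h f)).bijective_of_connected i
      (fun S' g => IsOpenMap.isQuotientMap (pullback.snd i g).isOpenMap (Scheme.Hom.continuous _)
        (pullback.snd i g).surjective)
      fun Ω _ _ s => GeometricallyConnected.connectedSpace_of_subsingleton (f := pullback.snd i s))
  let ι : pullback (c ≫ h) f ≅ pullback (pullback.fst h f) c :=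
    (pullbackRightPullbackFstIso h f c).symm ≪≫ pullbackSymmetry _ _
  have h₁ : ι.hom ≫ pullback.fst (pullback.fst h f) c =
      pullback.lift (pullback.fst (c ≫ h) f ≫ c) (pullback.snd _ _) (by simp [pullback.condition]) := by
    apply pullback.hom_ext <;> simp [ι, pullback.condition]
  let e : (Over.pullback f).obj (Over.mk (c ≫ h)) ≅
      Over.mk (pullback.fst (pullback.fst h f) c ≫ pullback.snd h f) :=
    Over.isoMk ι (by
      show ι.hom ≫ pullback.fst (pullback.fst h f) c ≫ pullback.snd h f = pullback.snd (c ≫ h) f
      rw [reassoc_of% h₁, pullback.lift_snd])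
  exact bijective_map_of_iso e
    (Over.homMk (pullback.fst (pullback.fst h f) c) :
      Over.mk (pullback.fst (pullback.fst h f) c ≫ pullback.snd h f) ⟶ Over.mk (pullback.snd h f))
    (Over.OverMorphism.ext h₁) hb

theorem bijective_of_isField_connected (hP : HasGerms P) {R B : Type u} [CommRing R] [IsLocalRing R] (hR : IsField R)
    [hs : IsSepClosed (IsLocalRing.ResidueField R)] [CommRing B] [ConnectedSpace (PrimeSpectrum B)] (φ : R →+* B)
    (h : Spec (CommRingCat.of R) ⟶ S) :
    Function.Bijective (P.map ((Over.pullback f).map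
      (Over.homMk (Spec.map (CommRingCat.ofHom φ)) rfl :
        Over.mk (Spec.map (CommRingCat.ofHom φ) ≫ h) ⟶ Over.mk h)).op) := by
  letI : Field R := hR.toField
  haveI : IsSepClosed R := isSepClosed_of_field R
  exact bijective_of_sepClosed_connected hP φ h

/-- Over a field, strict localisations see the same sections. -/
theorem strictBij_of_field {k : Type u} [Field k] {f : T ⟶ Spec (CommRingCat.of k)} (hP : HasGerms P)
    {A A' : CommRingCat.{u}} (g : Spec A ⟶ Spec (CommRingCat.of k)) [Etale g]
    (g' : Spec A' ⟶ Spec (CommRingCat.of k)) (κ : A ⟶ A') : StrictBij f P g g' κ := by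
  intro p _ p' _ ψ _ _ m hm
  obtain ⟨φ, hφ⟩ := Spec.map_surjective g
  letI : Algebra k A := φ.hom.toAlgebra
  haveI : Algebra.Etale k A := by
    have h1 : Etale (Spec.map φ) := by rw [hφ]; infer_instance
    rw [HasRingHomProperty.Spec_iff (P := @Etale)] at h1
    exact RingHom.etale_algebraMap.1 h1
  haveI hsep : IsSepClosed (IsLocalRing.ResidueField (ShAt p)) :=
    (Hensel.IsStrictHenselization.isSepClosure (R := Localization.AtPrime p) (S := ShAt p)).sep_closed
  haveI : ConnectedSpace (PrimeSpectrum (ShAt p')) := connectedSpace_of_local _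
  have hb : Function.Bijective (P.map ((Over.pullback f).map (Over.homMk (Spec.map (CommRingCat.ofHom ψ)) rfl :
      Over.mk (Spec.map (CommRingCat.ofHom ψ) ≫ (shObj g p).hom) ⟶ Over.mk (shObj g p).hom)).op) :=
    bijective_of_isField_connected hP (isField_shAt k p) ψ (shObj g p).hom
  let e : shObj g' p' ≅ Over.mk (Spec.map (CommRingCat.ofHom ψ) ≫ (shObj g p).hom) :=
    Over.isoMk (Iso.refl _) (by
      show 𝟙 _ ≫ Spec.map (CommRingCat.ofHom ψ) ≫ (shObj g p).hom = (shObj g' p').hom
      rw [Category.id_comp, ← hm]
      exact Over.w m)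
  refine bijective_map_of_iso ((Over.pullback f).mapIso e) _ ?_ hb
  rw [Functor.mapIso_hom, ← Functor.map_comp]
  congr 1
  exact Over.OverMorphism.ext ((Category.id_comp _).trans hm.symm)

end EtProperH0Lib
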