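import Groth.Agent.EtDescentLib.Core
import Groth.Agent.ProperClopenLib.General

/-!
# Base change of cofiltered diagrams along morphisms to a stage
-/

set_option autoImplicit false
set_option linter.style.haveILetI false
set_option backward.isDefEq.respectTransparency false
set_option backward.isDefEq.respectTransparency.types false
universe u

open CategoryTheory CategoryTheory.Limits AlgebraicGeometry Opposite

namespace EtProperH0Lib

noncomputable section

variable {T : Scheme.{u}}

/-- The fibre product in the category of schemes over a base. -/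
abbrev pb {W W' M : Over T} (h : W ⟶ M) (g : W' ⟶ M) : Over T :=
  Over.mk (pullback.fst h.left g.left ≫ W.hom)

/-- The first projection. -/
abbrev pbFst {W W' M : Over T} (h : W ⟶ M) (g : W' ⟶ M) : pb h g ⟶ W :=
  Over.homMk (pullback.fst h.left g.left) rfl

/-- The second projection. -/
abbrev pbSnd {W W' M : Over T} (h : W ⟶ M) (g : W' ⟶ M) : pb h g ⟶ W' :=
  Over.homMk (pullback.snd h.left g.left) (by
    show pullback.snd h.left g.left ≫ W'.hom = pullback.fst h.left g.left ≫ W.hom
    rw [← Over.w g, ← pullback.condition_assoc, Over.w h])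

theorem pb_condition {W W' M : Over T} (h : W ⟶ M) (g : W' ⟶ M) : pbFst h g ≫ h = pbSnd h g ≫ g :=
  Over.OverMorphism.ext pullback.condition

/-- The morphism to the fibre product. -/
abbrev pbLift {G W W' M : Over T} {h : W ⟶ M} {g : W' ⟶ M} (a : G ⟶ W) (b : G ⟶ W') (e : a ≫ h = b ≫ g) :
    G ⟶ pb h g :=
  Over.homMk (pullback.lift a.left b.left (congrArg CommaMorphism.left e))
    ((pullback.lift_fst_assoc _ _ _ _).trans (Over.w a))

theorem pbLift_fst {G W W' M : Over T} {h : W ⟶ M} {g : W' ⟶ M} (a : G ⟶ W) (b : G ⟶ W') (e : a ≫ h = b ≫ g) :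
    pbLift a b e ≫ pbFst h g = a :=
  Over.OverMorphism.ext (pullback.lift_fst _ _ _)

theorem pbLift_snd {G W W' M : Over T} {h : W ⟶ M} {g : W' ⟶ M} (a : G ⟶ W) (b : G ⟶ W') (e : a ≫ h = b ≫ g) :
    pbLift a b e ≫ pbSnd h g = b :=
  Over.OverMorphism.ext (pullback.lift_snd _ _ _)

variable {I : Type u} [SmallCategory I] [IsCofiltered I] (D : I ⥤ Over T) (c : Cone D)

/-- The part of a diagram over a stage. -/
def sliceDiag (j : I) : Over j ⥤ Over (D.obj j).left where
  obj k := Over.mk (D.map k.hom).left
  map {k l} a := Over.homMk (D.map a.left).left (by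
    show (D.map a.left).left ≫ (D.map l.hom).left = (D.map k.hom).left
    rw [← Over.comp_left, ← D.map_comp, Over.w a])
  map_id k := Over.OverMorphism.ext (by
    show (D.map (𝟙 k.left)).left = 𝟙 (D.obj k.left).left
    rw [D.map_id]; rfl)
  map_comp {k l m} a b := Over.OverMorphism.ext (by
    show (D.map (a.left ≫ b.left)).left = (D.map a.left).left ≫ (D.map b.left).left
    rw [D.map_comp]; rfl)

/-- The cone over the part of a diagram over a stage. -/
def sliceCone (j : I) : Cone (sliceDiag D j) where
  pt := Over.mk (c.π.app j).left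
  π :=
    { app := fun k => Over.homMk (c.π.app k.left).left (by
        show (c.π.app k.left).left ≫ (D.map k.hom).left = (c.π.app j).left
        rw [← Over.comp_left, c.w])
      naturality := fun k l a => Over.OverMorphism.ext (by
        show 𝟙 c.pt.left ≫ (c.π.app l.left).left = (c.π.app k.left).left ≫ (D.map a.left).left
        rw [Category.id_comp, ← Over.comp_left, c.w]) }

variable (hc : IsLimit ((Over.forget T).mapCone c))

include hc in
theorem nonempty_isLimit_sliceCone (j : I) : Nonempty (IsLimit (sliceCone D c j)) := by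
  haveI : IsConnected (Over j) := isConnected_of_hasTerminal _
  exact ⟨isLimitOfReflects (Over.forget _) (IsLimit.ofIsoLimit
    ((Functor.Initial.isLimitWhiskerEquiv (Over.forget j) ((Over.forget T).mapCone c)).symm hc)
    (Cone.ext (Iso.refl _) fun k => (Category.id_comp _).symm))⟩

/-- The base change of a diagram along a morphism to a stage. -/
abbrev pullDiag (j : I) {N : Scheme.{u}} (f : N ⟶ (D.obj j).left) : Over j ⥤ Scheme.{u} :=
  (sliceDiag D j ⋙ Over.pullback f) ⋙ Over.forget N

/-- The base change of a cone along a morphism to a stage. -/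
abbrev pullCone (j : I) {N : Scheme.{u}} (f : N ⟶ (D.obj j).left) : Cone (pullDiag D j f) :=
  (Over.forget N).mapCone ((Over.pullback f).mapCone (sliceCone D c j))

include hc in
theorem nonempty_isLimit_pullCone (j : I) {N : Scheme.{u}} (f : N ⟶ (D.obj j).left) :
    Nonempty (IsLimit (pullCone D c j f)) := by
  haveI : IsConnected (Over j) := isConnected_of_hasTerminal _
  obtain ⟨h⟩ := nonempty_isLimit_sliceCone D c hc j
  exact ⟨isLimitOfPreserves (Over.forget N) (isLimitOfPreserves (Over.pullback f) h)⟩

variable [∀ {i j : I} (a : i ⟶ j), IsAffineHom (D.map a).left]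

instance isAffineHom_pullDiag (j : I) {N : Scheme.{u}} (f : N ⟶ (D.obj j).left) {k l : Over j} (a : k ⟶ l) :
    IsAffineHom ((pullDiag D j f).map a) :=
  MorphismProperty.overPullbackMap (P := @IsAffineHom) f ((sliceDiag D j).map a)
    (inferInstanceAs (IsAffineHom (D.map a.left).left))

include hc in
/-- A closed subset missing the limit is empty at some stage. -/
theorem exists_pull_eq_empty (j : I) {N : Scheme.{u}} (f : N ⟶ (D.obj j).left) [CompactSpace N] (Z : Set N)
    (hZ : IsClosed Z) (h : ∀ p : ↑(pullback (c.π.app j).left f), pullback.snd (c.π.app j).left f p ∉ Z) :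
    ∃ k : Over j, ∀ p : ↑(pullback (D.map k.hom).left f), pullback.snd (D.map k.hom).left f p ∉ Z := by
  obtain ⟨hl⟩ := nonempty_isLimit_pullCone D c hc j f
  haveI : ∀ k : Over j, CompactSpace ((pullDiag D j f).obj k) := fun k => by
    haveI : IsAffineHom (pullback.snd (D.map k.hom).left f) :=
      MorphismProperty.pullback_snd (P := @IsAffineHom) _ _ inferInstance
    exact QuasiCompact.compactSpace_of_compactSpace (pullback.snd (D.map k.hom).left f)
  have hc' : ∀ k : Over j, IsClosed ((pullback.snd (D.map k.hom).left f) ⁻¹' Z) := fun k =>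
    hZ.preimage (Scheme.Hom.continuous _)
  obtain ⟨k, hk⟩ := ProperClopenLib.exists_eq_empty (pullDiag D j f) (pullCone D c j f) hl
    (fun k => (pullback.snd (D.map k.hom).left f) ⁻¹' Z) hc' (fun k => (hc' k).isCompact)
    (fun {k l} a z hz => by
      show ((pullDiag D j f).map a ≫ pullback.snd (D.map l.hom).left f) z ∈ Z
      rw [show (pullDiag D j f).map a ≫ pullback.snd (D.map l.hom).left f = pullback.snd (D.map k.hom).left f from
        pullback.lift_snd _ _ _]
      exact hz)
    fun p => ⟨Over.mk (𝟙 j), fun hp => h p (by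
      have e : (pullCone D c j f).π.app (Over.mk (𝟙 j)) ≫ pullback.snd (D.map (𝟙 j)).left f =
          pullback.snd (c.π.app j).left f := pullback.lift_snd _ _ _
      rw [← e]
      exact hp)⟩
  exact ⟨k, fun p hp => (Set.eq_empty_iff_forall_notMem.1 hk) p hp⟩

end

end EtProperH0Lib
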