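import Groth.Agent.EtProperH0Lib.LimitDiag

/-!
# Sections of sheaves with étale germs on cofiltered limits
-/

set_option autoImplicit false
set_option linter.style.haveILetI false
set_option backward.isDefEq.respectTransparency false
set_option backward.isDefEq.respectTransparency.types false
universe u v

open CategoryTheory CategoryTheory.Limits AlgebraicGeometry Opposite EtDescentLib

namespace EtProperH0Lib

noncomputable section

variable {T : Scheme.{u}} {P : (Over T)ᵒᵖ ⥤ Type v} {I : Type u} [SmallCategory I] [IsCofiltered I]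
  (D : I ⥤ Over T) (c : Cone D)

/-- A section over a scheme over a stage agreeing with a given section on the limit. -/
def Matches (y : P.obj (op c.pt)) {j : I} {W : Over T} (h : W ⟶ D.obj j) (t : P.obj (op W)) : Prop :=
  ∀ (G : Over T) (a : G ⟶ c.pt) (b : G ⟶ W), IsGeo G.left → a ≫ c.π.app j = b ≫ h →
    P.map b.op t = P.map a.op y

variable (hc : IsLimit ((Over.forget T).mapCone c)) [∀ {i j : I} (a : i ⟶ j), IsAffineHom (D.map a).left]

include hc in
theorem exists_local (hP : HasGerms P) (y : P.obj (op c.pt)) (x : c.pt.left) :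
    ∃ (j : I) (W : Over T) (h : W ⟶ D.obj j) (_ : Etale h.left) (_ : IsAffine W.left) (t : P.obj (op W)),
      (c.π.app j).left x ∈ Set.range h.left ∧ Matches D c y h t := by
  obtain ⟨j₀⟩ := IsCofiltered.nonempty (C := I)
  obtain ⟨G, a, hG, ha⟩ := exists_geo_at c.pt x
  obtain ⟨y₀⟩ := hG.nonempty
  obtain ⟨W₀, h₀, hh₀, b₀, t₀, hb₀, ht₀⟩ := hP.exists_germ (a ≫ c.π.app j₀) hG (P.map a.op y)
  haveI := hh₀
  let N : Over T := pb (c.π.app j₀) h₀
  let d : G ⟶ N := pbLift a b₀ hb₀.symm
  let L := eqLocus N (P.map (pbFst (c.π.app j₀) h₀).op y) (P.map (pbSnd (c.π.app j₀) h₀).op t₀)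
  have hu : d.left y₀ ∈ L := hP.mem_eqLocus d hG (by
    rw [← map_comp_apply', ← map_comp_apply', pbLift_fst, pbLift_snd, ht₀]
    rfl) y₀
  obtain ⟨hl⟩ := nonempty_isLimit_pullCone D c hc j₀ h₀.left
  obtain ⟨_, ⟨_, ⟨k, V, hV, rfl⟩, rfl⟩, huV, hVL⟩ :=
    (isBasis_preimage_isAffineOpen _ _ hl).exists_subset_of_mem_open (show d.left y₀ ∈ L from hu)
      (isOpen_eqLocus _ _ _)
  let p₁ : (pullDiag D j₀ h₀.left).obj k ⟶ (D.obj k.left).left := pullback.fst (D.map k.hom).left h₀.left
  let p₂ : (pullDiag D j₀ h₀.left).obj k ⟶ W₀.left := pullback.snd (D.map k.hom).left h₀.left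
  let W : Over T := Over.mk (V.ι ≫ p₁ ≫ (D.obj k.left).hom)
  let h : W ⟶ D.obj k.left := Over.homMk (V.ι ≫ p₁) (Category.assoc _ _ _)
  let e : W ⟶ W₀ := Over.homMk (V.ι ≫ p₂) (by
    show (V.ι ≫ p₂) ≫ W₀.hom = V.ι ≫ p₁ ≫ (D.obj k.left).hom
    rw [Category.assoc, ← Over.w h₀, ← Over.w (D.map k.hom)]
    exact congrArg (V.ι ≫ ·) (pullback.condition_assoc _).symm)
  have hhe : Etale h.left := by
    haveI : Etale p₁ := MorphismProperty.pullback_fst (P := @Etale) _ _ hh₀
    exact inferInstanceAs (Etale (V.ι ≫ p₁))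
  let π := (pullCone D c j₀ h₀.left).π.app k
  have hπ₁ : π ≫ p₁ = pullback.fst (c.π.app j₀).left h₀.left ≫ (c.π.app k.left).left := pullback.lift_fst _ _ _
  have hπ₂ : π ≫ p₂ = pullback.snd (c.π.app j₀).left h₀.left := pullback.lift_snd _ _ _
  refine ⟨k.left, W, h, hhe, hV, P.map e.op t₀, ⟨⟨π (d.left y₀), huV⟩, ?_⟩, fun G' a' b' hG' he => ?_⟩
  · show (π ≫ p₁) (d.left y₀) = _
    rw [hπ₁, Scheme.Hom.comp_apply]
    refine congrArg (c.π.app k.left).left ?_
    show (d.left ≫ pullback.fst _ _) y₀ = x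
    rw [show d.left ≫ pullback.fst _ _ = a.left from pullback.lift_fst _ _ _]
    exact ha y₀
  · have he' : a' ≫ c.π.app j₀ = (b' ≫ e) ≫ h₀ := by
      rw [← c.w k.hom, ← Category.assoc, he, Category.assoc, Category.assoc]
      exact congrArg (b' ≫ ·) (Over.OverMorphism.ext (by
        show (V.ι ≫ p₁) ≫ (D.map k.hom).left = (V.ι ≫ p₂) ≫ h₀.left
        rw [Category.assoc, Category.assoc, pullback.condition]))
    let d' : G' ⟶ N := pbLift a' (b' ≫ e) he'
    obtain ⟨y'⟩ := hG'.nonempty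
    have hd : d'.left ≫ π = b'.left ≫ V.ι := by
      refine pullback.hom_ext ?_ ?_
      · show (d'.left ≫ π) ≫ p₁ = (b'.left ≫ V.ι) ≫ p₁
        rw [Category.assoc, hπ₁, ← Category.assoc,
          show d'.left ≫ pullback.fst _ _ = a'.left from pullback.lift_fst _ _ _, Category.assoc]
        exact congrArg CommaMorphism.left he
      · show (d'.left ≫ π) ≫ p₂ = (b'.left ≫ V.ι) ≫ p₂
        rw [Category.assoc, hπ₂, Category.assoc]
        exact pullback.lift_snd _ _ _
    have hmem : d'.left y' ∈ L := hVL (by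
      have hv : (d'.left ≫ π) y' ∈ V := by
        rw [hd]
        exact (b'.left y').2
      exact hv)
    have := eq_of_mem_eqLocus hmem d' hG' fun y'' => by rw [hG'.subsingleton y'' y']
    rw [← map_comp_apply', ← map_comp_apply', pbLift_fst, pbLift_snd] at this
    rw [← map_comp_apply']
    exact this.symm

include hc in
/-- Sections over a limit of quasi-compact quasi-separated schemes come from some stage. -/
theorem exists_stage_section (hP : HasGerms P) [∀ i, CompactSpace (D.obj i).left]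
    [∀ i, QuasiSeparatedSpace (D.obj i).left] (y : P.obj (op c.pt)) :
    ∃ (i : I) (t : P.obj (op (D.obj i))), P.map (c.π.app i).op t = y := by
  classical
  haveI : ∀ {i j : I} (a : i ⟶ j), IsAffineHom ((D ⋙ Over.forget T).map a) := fun a =>
    inferInstanceAs (IsAffineHom (D.map a).left)
  haveI : ∀ i, CompactSpace ((D ⋙ Over.forget T).obj i) := fun i => inferInstanceAs (CompactSpace (D.obj i).left)
  haveI : CompactSpace c.pt.left := Scheme.compactSpace_of_isLimit _ _ hc
  choose j W h hh hW t hx hm using fun x : c.pt.left => exists_local D c hc hP y x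
  haveI := hh
  obtain ⟨s, hs⟩ := isCompact_univ.elim_finite_subcover
    (fun x => {q : c.pt.left | (c.π.app (j x)).left q ∈ Set.range (h x).left})
    (fun x => (h x).left.isOpenMap.isOpen_range.preimage (c.π.app (j x)).left.continuous)
    (fun x _ => Set.mem_iUnion.2 ⟨x, hx x⟩)
  obtain ⟨m, hm'⟩ := IsCofiltered.inf_objs_exists (s.image j)
  let ι := {x : c.pt.left // x ∈ s}
  have g : ∀ i : ι, m ⟶ j i.1 := fun i => (hm' (Finset.mem_image_of_mem j i.2)).some
  let W₁ : ι → Over T := fun i => pb (h i.1) (D.map (g i))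
  let h₁ : ∀ i, W₁ i ⟶ D.obj m := fun i => pbSnd (h i.1) (D.map (g i))
  let t₁ : ∀ i, P.obj (op (W₁ i)) := fun i => P.map (pbFst (h i.1) (D.map (g i))).op (t i.1)
  have hm₁ : ∀ i, Matches D c y (h₁ i) (t₁ i) := fun i G a b hG he => by
    rw [← map_comp_apply']
    refine hm i.1 G a _ hG ?_
    rw [← c.w (g i), ← Category.assoc, he, Category.assoc, Category.assoc, pb_condition]
  haveI : ∀ i, Etale (h₁ i).left := fun i => MorphismProperty.pullback_snd (P := @Etale) _ _ (hh i.1)
  haveI : ∀ i, IsAffine (W₁ i).left := fun i => by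
    haveI := hW i.1
    haveI : IsAffineHom (pullback.fst (h i.1).left (D.map (g i)).left) :=
      MorphismProperty.pullback_fst (P := @IsAffineHom) _ _ inferInstance
    exact isAffine_of_isAffineHom (pullback.fst (h i.1).left (D.map (g i)).left)
  let O : Set (D.obj m).left := ⋃ i, Set.range (h₁ i).left
  have hO : IsOpen O := isOpen_iUnion fun i => (h₁ i).left.isOpenMap.isOpen_range
  obtain ⟨k₀, hk₀⟩ := exists_pull_eq_empty D c hc m (𝟙 (D.obj m).left) Oᶜ hO.isClosed_compl fun p hp => hp (by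
    let q := pullback.fst (c.π.app m).left (𝟙 (D.obj m).left) p
    obtain ⟨x, hxs, hxq⟩ := Set.mem_iUnion₂.1 (hs (Set.mem_univ q))
    obtain ⟨w, hw⟩ := hxq
    have e1 : pullback.snd (c.π.app m).left (𝟙 (D.obj m).left) p = (c.π.app m).left q := by
      rw [← Scheme.Hom.comp_apply, pullback.condition, Category.comp_id]
    have e2 : (h x).left w = (D.map (g ⟨x, hxs⟩)).left ((c.π.app m).left q) := by
      rw [hw, ← Scheme.Hom.comp_apply, ← Over.comp_left, c.w]
      rfl
    obtain ⟨z, -, hz⟩ := Scheme.Pullback.exists_preimage_pullback w ((c.π.app m).left q) e2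
    exact Set.mem_iUnion.2 ⟨⟨x, hxs⟩, z, hz.trans e1.symm⟩)
  let N : ι × ι → Over T := fun r => pb (h₁ r.1) (h₁ r.2)
  haveI : ∀ r, CompactSpace (N r).left := fun r => by
    haveI : QuasiCompact (h₁ r.2).left := quasiCompact_of_compactSpace _
    exact QuasiCompact.compactSpace_of_compactSpace (pullback.fst (h₁ r.1).left (h₁ r.2).left)
  let L : ∀ r, Set (N r).left := fun r => eqLocus (N r) (P.map (pbFst (h₁ r.1) (h₁ r.2)).op (t₁ r.1))
    (P.map (pbSnd (h₁ r.1) (h₁ r.2)).op (t₁ r.2))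
  have hpair : ∀ r, ∃ k : Over m, ∀ p : ↑(pullback (D.map k.hom).left (pbFst (h₁ r.1) (h₁ r.2) ≫ h₁ r.1).left),
      pullback.snd (D.map k.hom).left (pbFst (h₁ r.1) (h₁ r.2) ≫ h₁ r.1).left p ∉ (L r)ᶜ := fun r =>
    exists_pull_eq_empty D c hc m (pbFst (h₁ r.1) (h₁ r.2) ≫ h₁ r.1).left (L r)ᶜ
      (isOpen_eqLocus _ _ _).isClosed_compl fun p hp => hp (by
        let f := pbFst (h₁ r.1) (h₁ r.2) ≫ h₁ r.1
        obtain ⟨G, a, hG, ha⟩ := exists_geo_at (pb (c.π.app m) f) p
        obtain ⟨y'⟩ := hG.nonempty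
        have hp' : (a ≫ pbSnd _ f).left y' = pullback.snd (c.π.app m).left f.left p :=
          congrArg (pullback.snd (c.π.app m).left f.left) (ha y')
        have := hP.mem_eqLocus (a ≫ pbSnd (c.π.app m) f) hG
          (s := P.map (pbFst (h₁ r.1) (h₁ r.2)).op (t₁ r.1)) (t := P.map (pbSnd (h₁ r.1) (h₁ r.2)).op (t₁ r.2))
          (((map_comp_apply' _ _ _).symm.trans (hm₁ r.1 G (a ≫ pbFst _ f) _ hG
              (by simp only [Category.assoc, pb_condition, f]))).trans
            ((map_comp_apply' _ _ _).symm.trans (hm₁ r.2 G (a ≫ pbFst _ f) _ hG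
              (by simp only [Category.assoc, pb_condition, f]))).symm) y'
        rwa [hp'] at this)
  choose k hk using hpair
  obtain ⟨K, hK⟩ := IsCofiltered.inf_objs_exists (insert k₀ (Finset.univ.image k))
  obtain ⟨u₀⟩ := hK (Finset.mem_insert_self _ _)
  let W₂ : ι → Over T := fun i => pb (h₁ i) (D.map K.hom)
  let h₂ : ∀ i, W₂ i ⟶ D.obj K.left := fun i => pbSnd (h₁ i) (D.map K.hom)
  haveI : ∀ i, Etale (h₂ i).left := fun i => MorphismProperty.pullback_snd (P := @Etale) _ _ inferInstance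
  have hcov : ∀ q : (D.obj K.left).left, ∃ i w, (h₂ i).left w = q := fun q => by
    let p := pullback.lift (f := (D.map k₀.hom).left) (g := 𝟙 _) (𝟙 _) (D.map k₀.hom).left (by simp)
      ((D.map u₀.left).left q)
    have hp : pullback.snd (D.map k₀.hom).left (𝟙 _) p = (D.map K.hom).left q := by
      rw [← Scheme.Hom.comp_apply, pullback.lift_snd, ← Scheme.Hom.comp_apply, ← Over.comp_left, ← D.map_comp,
        Over.w u₀]
    have hmem : (D.map K.hom).left q ∈ O := hp ▸ not_not.1 (hk₀ p)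
    obtain ⟨i, w, hw⟩ := Set.mem_iUnion.1 hmem
    obtain ⟨z, -, hz⟩ := Scheme.Pullback.exists_preimage_pullback w q hw
    exact ⟨i, z, hz⟩
  obtain ⟨σ, hσ⟩ := hP.exists_glue W₂ h₂ (fun i => inferInstance) hcov
    (fun i => P.map (pbFst (h₁ i) (D.map K.hom)).op (t₁ i)) fun i l G a b hG hab => by
      let n : G ⟶ N (i, l) := pbLift (a ≫ pbFst (h₁ i) (D.map K.hom)) (b ≫ pbFst (h₁ l) (D.map K.hom)) (by
        rw [Category.assoc, Category.assoc, pb_condition, pb_condition, ← Category.assoc, hab, Category.assoc])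
      obtain ⟨u⟩ := hK (Finset.mem_insert_of_mem (Finset.mem_image_of_mem k (Finset.mem_univ (i, l))))
      let f := pbFst (h₁ (i, l).1) (h₁ (i, l).2) ≫ h₁ (i, l).1
      have hn : (a ≫ h₂ i ≫ D.map u.left) ≫ D.map (k (i, l)).hom = n ≫ f := by
        rw [Category.assoc, Category.assoc, ← D.map_comp, Over.w u, ← pb_condition]
        exact ((reassoc_of% (pbLift_fst _ _ _ : n ≫ pbFst _ _ = _)) (h₁ i)).symm
      let d : G ⟶ pb (D.map (k (i, l)).hom) f := pbLift _ n hn
      obtain ⟨y'⟩ := hG.nonempty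
      have hmem : n.left y' ∈ L (i, l) := by
        have h0 := not_not.1 (hk (i, l) (d.left y'))
        have e : (d.left ≫ pullback.snd _ _) y' = n.left y' :=
          congrArg (fun m => m y') (congrArg CommaMorphism.left (pbLift_snd _ _ hn))
        exact e ▸ h0
      have := eq_of_mem_eqLocus hmem n hG fun y'' => by rw [hG.subsingleton y'' y']
      have e1 := congrArg (fun m => P.map m.op (t₁ i))
        (pbLift_fst _ _ _ : n ≫ pbFst (h₁ i) (h₁ l) = a ≫ pbFst (h₁ i) (D.map K.hom))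
      have e2 := congrArg (fun m => P.map m.op (t₁ l))
        (pbLift_snd _ _ _ : n ≫ pbSnd (h₁ i) (h₁ l) = b ≫ pbFst (h₁ l) (D.map K.hom))
      exact ((map_comp_apply' _ _ _).symm.trans e1.symm).trans
        ((map_comp_apply' _ _ _).trans (this.trans ((map_comp_apply' _ _ _).symm.trans
          (e2.trans (map_comp_apply' _ _ _)))))
  refine ⟨K.left, σ, hP.ext fun G a hG => ?_⟩
  obtain ⟨y'⟩ := hG.nonempty
  obtain ⟨i, w, hw⟩ := hcov ((a ≫ c.π.app K.left).left y')
  obtain ⟨b, hb, -⟩ := exists_lift (h₂ i) (a ≫ c.π.app K.left) hG w fun y'' => by rw [hG.subsingleton y'' y', hw]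
  rw [← map_comp_apply', ← hb, map_comp_apply', hσ, ← map_comp_apply']
  refine hm₁ i G a _ hG ?_
  rw [Category.assoc, pb_condition, ← Category.assoc, hb, Category.assoc, c.w]

end

end EtProperH0Lib
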