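import Groth.Agent.EtProperH0Lib.LocalCrit

/-!
# Degree-zero base change along flat morphisms with connected geometric fibres, and étale localisation
-/

set_option autoImplicit false
set_option linter.style.haveILetI false
set_option linter.unusedSectionVars false
set_option backward.isDefEq.respectTransparency false
set_option backward.isDefEq.respectTransparency.types false
universe u

open CategoryTheory CategoryTheory.Limits AlgebraicGeometry Opposite EtDescentLib Groth.Agent.EtShLib

namespace EtProperH0Lib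

noncomputable section

/-- Base change is local on the source and on the target for the étale topology. -/
theorem isIso_baseChange0Sh_of_local {X S Y T : Scheme.{u}} {f : X ⟶ S} {g : T ⟶ S} {h : Y ⟶ X} {e : Y ⟶ T}
    (c : IsPullback e h g f) (F : EtDesc.Sh T)
    {ι : Type u} (U : ι → X.Etale) (hU : ∀ x : X, ∃ i z, (U i).hom.base z = x) (V : ι → S.Etale)
    (a : ∀ i, (U i).left ⟶ (V i).left) (ha : ∀ i, a i ≫ (V i).hom = (U i).hom ≫ f)
    (Ti Yi : ι → Scheme.{u}) (gi : ∀ i, Ti i ⟶ (V i).left) (ti : ∀ i, Ti i ⟶ T)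
    (cT : ∀ i, IsPullback (ti i) (gi i) g (V i).hom)
    (hi : ∀ i, Yi i ⟶ (U i).left) (ei : ∀ i, Yi i ⟶ Ti i) (cY : ∀ i, IsPullback (ei i) (hi i) (gi i) (a i))
    (hloc : ∀ i, IsIso (EtBC.baseChange0Sh (gi i) (a i) (hi i) (ei i) (cY i).w ((EtDesc.pullSh (ti i)).obj F))) :
    IsIso (EtBC.baseChange0Sh g f h e c.w F) := by
  rw [← bcMor_eq_sh c F, isIso_bcMor_iff]
  -- objects étale over some member of the covering
  have hb : ∀ (i : ι) (Z : (U i).left.Etale),
      Function.Bijective ((phi g F).hom.app (op ((Over.map f).obj (Over.mk (Z.hom ≫ (U i).hom))))) := fun i Z => by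
    haveI : IsIso (bcMor (cY i) ((EtDesc.pullSh (ti i)).obj F)) := by
      rw [bcMor_eq_sh (cY i) ((EtDesc.pullSh (ti i)).obj F)]
      exact hloc i
    haveI : Etale (V i).hom := (V i).prop
    have h1 := (phi_bijective_local g (V i).hom (cT i) F ((Over.map (a i)).obj ((EtFppf.a (U i).left).obj Z))).2
      ((isIso_bcMor_iff (cY i) ((EtDesc.pullSh (ti i)).obj F)).1 inferInstance Z)
    have e1 : (Over.map (V i).hom).obj ((Over.map (a i)).obj ((EtFppf.a (U i).left).obj Z)) =
        (Over.map f).obj (Over.mk (Z.hom ≫ (U i).hom)) := by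
      show Over.mk ((Z.hom ≫ a i) ≫ (V i).hom) = Over.mk ((Z.hom ≫ (U i).hom) ≫ f)
      rw [Category.assoc, ha, Category.assoc]
    rw [← e1]
    exact h1
  intro W
  let Z : ι → Over S := fun i => Over.mk ((pullback.snd W.hom (U i).hom ≫ (U i).hom) ≫ f)
  let m : ∀ i, Z i ⟶ (Over.map f).obj ((EtFppf.a X).obj W) := fun i =>
    Over.homMk (pullback.fst W.hom (U i).hom) (by
      show pullback.fst W.hom (U i).hom ≫ W.hom ≫ f = (pullback.snd W.hom (U i).hom ≫ (U i).hom) ≫ f
      rw [pullback.condition_assoc, Category.assoc])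
  haveI : ∀ i, Etale (U i).hom := fun i => (U i).prop
  haveI : Etale W.hom := W.prop
  haveI : ∀ i, Etale (m i).left := fun i => inferInstanceAs (Etale (pullback.fst W.hom (U i).hom))
  refine bijective_app_of_cover (phi g F) Z m inferInstance (fun w => ?_)
    (fun i => hb i (Scheme.Etale.mk (pullback.snd W.hom (U i).hom))) (fun i j => ?_)
  · obtain ⟨i, z, hz⟩ := hU (W.hom.base w)
    obtain ⟨y, hy, -⟩ := Scheme.Pullback.exists_preimage_pullback (f := W.hom) (g := (U i).hom) w z hz.symm
    exact ⟨i, y, hy⟩
  · haveI : Etale (pullback.fst (m i).left (m j).left ≫ pullback.snd W.hom (U i).hom) := inferInstance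
    have := hb i (Scheme.Etale.mk (pullback.fst (m i).left (m j).left ≫ pullback.snd W.hom (U i).hom))
    have e1 : (Over.map f).obj (Over.mk ((pullback.fst (m i).left (m j).left ≫ pullback.snd W.hom (U i).hom) ≫ (U i).hom)) =
        Over.mk (pullback.fst (m i).left (m j).left ≫ (Z i).hom) := by
      show Over.mk (((pullback.fst (m i).left (m j).left ≫ pullback.snd W.hom (U i).hom) ≫ (U i).hom) ≫ f) =
        Over.mk (pullback.fst (m i).left (m j).left ≫ (pullback.snd W.hom (U i).hom ≫ (U i).hom) ≫ f)
      simp only [Category.assoc]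
    rw [← e1]
    exact this.1

/-- Universally submersive morphisms with connected geometric fibres see the sections of base changes. -/
theorem bijective_pullback_of_submConn {T S : Scheme.{u}} {g : T ⟶ S} {P : (Over T)ᵒᵖ ⥤ Type (u + 1)} (hP : HasGerms P)
    {Z V : Scheme.{u}} (a : Z ⟶ V) (hc : SubmConn a) (h : V ⟶ S) :
    Function.Bijective (P.map ((Over.pullback g).map (Over.homMk a rfl : Over.mk (a ≫ h) ⟶ Over.mk h)).op) := by
  let q := pullback.fst h g
  let i := pullback.fst q a
  have hi := hc.pullback_fst q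
  have hb := bijective_map_of_restrict (pullback.snd h g) i
    ((hasGerms_restrict hP (pullback.snd h g)).bijective_of_connected i hi.1 hi.2)
  let κ : pullback (a ≫ h) g ≅ pullback (pullback.fst h g) a :=
    (pullbackRightPullbackFstIso h g a).symm ≪≫ pullbackSymmetry _ _
  have h₁ : κ.hom ≫ pullback.fst (pullback.fst h g) a =
      pullback.lift (pullback.fst (a ≫ h) g ≫ a) (pullback.snd _ _) (by simp [pullback.condition]) := by
    apply pullback.hom_ext <;> simp [κ, pullback.condition]
  let e : (Over.pullback g).obj (Over.mk (a ≫ h)) ≅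
      Over.mk (pullback.fst (pullback.fst h g) a ≫ pullback.snd h g) :=
    Over.isoMk κ (by
      show κ.hom ≫ pullback.fst (pullback.fst h g) a ≫ pullback.snd h g = pullback.snd (a ≫ h) g
      rw [reassoc_of% h₁, pullback.lift_snd])
  refine bijective_map_of_iso e
    (Over.homMk (pullback.fst (pullback.fst h g) a) :
      Over.mk (pullback.fst (pullback.fst h g) a ≫ pullback.snd h g) ⟶ Over.mk (pullback.snd h g)) ?_ hb
  refine Over.OverMorphism.ext ?_
  show κ.hom ≫ pullback.fst (pullback.fst h g) a = _
  rw [h₁]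
  apply pullback.hom_ext <;> simp

/-- A morphism between schemes étale over the source and target of a flat morphism is flat. -/
theorem flat_of_etale {X S U V : Scheme.{u}} (f : X ⟶ S) [Flat f] (u : U ⟶ X) [Etale u] (v : V ⟶ S) [Etale v]
    (a : U ⟶ V) (ha : a ≫ v = u ≫ f) : Flat a := by
  let s : U ⟶ pullback (u ≫ f) v := pullback.lift (𝟙 U) a (by rw [Category.id_comp, ha])
  haveI : Etale (s ≫ pullback.fst (u ≫ f) v) := by rw [pullback.lift_fst]; infer_instance
  haveI : Etale s := Etale.of_comp s (pullback.fst (u ≫ f) v)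
  have h : s ≫ pullback.snd (u ≫ f) v = a := pullback.lift_snd _ _ _
  rw [← h]
  infer_instance

/-- Base change along flat morphisms which locally factor through quasi-compact morphisms with geometrically connected fibres. -/
theorem isIso_baseChange0Sh_of_geomConnected {X S Y T : Scheme.{u}} {f : X ⟶ S} [Flat f] {g : T ⟶ S} {h : Y ⟶ X}
    {e : Y ⟶ T} (c : IsPullback e h g f)
    (hcov : ∀ U : X.Etale, ∃ (ι : Type u) (Uc : ι → X.Etale) (mU : ∀ i, Uc i ⟶ U),
      (∀ y : U.left, ∃ (i : ι) (z : (Uc i).left), (mU i).left.base z = y) ∧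
      ∀ i, ∃ (V : S.Etale) (a : (Uc i).left ⟶ V.left),
        a ≫ V.hom = (Uc i).hom ≫ f ∧ QuasiCompact a ∧ GeometricallyConnected a)
    (F : EtDesc.Sh T) :
    IsIso (EtBC.baseChange0Sh g f h e c.w F) := by
  rw [← bcMor_eq_sh c F, isIso_bcMor_iff]
  let PS := ((pPull (Type (u + 1)) S).obj ((pushS (Type (u + 1)) g).obj F)).obj
  let PT := ((pPull (Type (u + 1)) T).obj F).obj
  have good : ∀ (U : X.Etale) (V : S.Etale) (a : U.left ⟶ V.left), a ≫ V.hom = U.hom ≫ f → QuasiCompact a →
      GeometricallyConnected a →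
      Function.Bijective ((phi g F).hom.app (op ((Over.map f).obj ((EtFppf.a X).obj U)))) := by
    intro U V a ha hqc hgc
    haveI := hqc
    haveI : Etale U.hom := U.prop
    haveI : Etale V.hom := V.prop
    haveI : Flat a := flat_of_etale f U.hom V.hom a ha
    have hconn : ∀ (Ω : Type u) [Field Ω] [IsAlgClosed Ω] (η : Spec (CommRingCat.of Ω) ⟶ V.left),
        ConnectedSpace ↥(pullback a η) := fun Ω _ _ η => pullback_of_geometrically hgc.geometrically_connectedSpace Ω η
    haveI := surjective_of_conn a hconn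
    have hs : SubmConn a := ⟨fun S' b => Flat.isQuotientMap_of_surjective (pullback.snd a b), hconn⟩
    let W₁ : Over S := Over.mk (a ≫ V.hom)
    have eW : (Over.map f).obj ((EtFppf.a X).obj U) = W₁ := by
      show Over.mk (U.hom ≫ f) = Over.mk (a ≫ V.hom)
      rw [ha]
    rw [eW]
    let m : W₁ ⟶ (EtFppf.a S).obj V := Over.homMk a rfl
    have hX : Function.Bijective (PS.map m.op) := bijective_map_of_restrict V.hom a
      ((hasGerms_restrict (hasGerms_type S _) V.hom).bijective_of_connected a hs.1 hs.2)
    have hY : Function.Bijective (PT.map ((Over.pullback g).map m).op) :=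
      bijective_pullback_of_submConn (hasGerms_type T F) a hs V.hom
    have hV : Function.Bijective ((phi g F).hom.app (op ((EtFppf.a S).obj V))) := by
      haveI := isIso_res_phi g F
      haveI : IsIso (((pRes (Type (u + 1)) S).map (phi g F)).hom.app (op V)) :=
        inferInstanceAs (IsIso ((sheafToPresheaf _ _ ⋙ (evaluation _ _).obj (op V)).map
          ((pRes (Type (u + 1)) S).map (phi g F))))
      exact (isIso_iff_bijective (((pRes (Type (u + 1)) S).map (phi g F)).hom.app (op V))).1 inferInstance
    have hn : ⇑((phi g F).hom.app (op W₁)) ∘ ⇑(PS.map m.op) =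
        ⇑(PT.map ((Over.pullback g).map m).op) ∘ ⇑((phi g F).hom.app (op ((EtFppf.a S).obj V))) :=
      funext fun z => NatTrans.naturality_apply (phi g F).hom m.op z
    rw [← Function.Bijective.of_comp_iff _ hX, hn]
    exact hY.comp hV
  have inj : ∀ U : X.Etale, Function.Injective ((phi g F).hom.app (op ((Over.map f).obj ((EtFppf.a X).obj U)))) := by
    intro U s t hst
    obtain ⟨ι, Uc, mU, hsurj, hgood⟩ := hcov U
    have hX := (Presieve.isSheafFor_iff_generate _).2 ((isSheaf_iff_isSheaf_of_type _ _).1
      ((pPull (Type (u + 1)) S).obj ((pushS (Type (u + 1)) g).obj F)).property _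
      (ofArrows_mem (fun i => (Over.map f).obj ((EtFppf.a X).obj (Uc i)))
        (fun i => (Over.map f).map ((EtFppf.a X).map (mU i)))
        (fun i => by
          haveI : Etale (Uc i).hom := (Uc i).prop
          haveI : Etale U.hom := U.prop
          haveI : Etale ((mU i).left ≫ U.hom) := by rw [MorphismProperty.Over.w (mU i)]; infer_instance
          exact Etale.of_comp (mU i).left U.hom)
        (fun z => hsurj z)))
    refine hX.isSeparatedFor.ext ?_
    rintro _ _ ⟨i⟩
    obtain ⟨V, a, ha, hqc, hgc⟩ := hgood i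
    refine (good (Uc i) V a ha hqc hgc).1 ?_
    rw [NatTrans.naturality_apply, NatTrans.naturality_apply, hst]
  intro U
  obtain ⟨ι, Uc, mU, hsurj, hgood⟩ := hcov U
  haveI : Etale U.hom := U.prop
  haveI het : ∀ i, Etale (mU i).left := fun i => by
    haveI : Etale (Uc i).hom := (Uc i).prop
    haveI : Etale ((mU i).left ≫ U.hom) := by rw [MorphismProperty.Over.w (mU i)]; infer_instance
    exact Etale.of_comp (mU i).left U.hom
  refine bijective_app_of_cover (phi g F) _ (fun i => (Over.map f).map ((EtFppf.a X).map (mU i))) het hsurj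
    (fun i => ?_) (fun i j => ?_)
  · obtain ⟨V, a, ha, hqc, hgc⟩ := hgood i
    exact good (Uc i) V a ha hqc hgc
  · haveI : Etale (Uc i).hom := (Uc i).prop
    have := inj (Scheme.Etale.mk (pullback.fst (mU i).left (mU j).left ≫ (Uc i).hom))
    have e1 : (Over.map f).obj ((EtFppf.a X).obj (Scheme.Etale.mk (pullback.fst (mU i).left (mU j).left ≫ (Uc i).hom))) =
        Over.mk (pullback.fst (mU i).left (mU j).left ≫ ((Over.map f).obj ((EtFppf.a X).obj (Uc i))).hom) := by
      show Over.mk ((pullback.fst (mU i).left (mU j).left ≫ (Uc i).hom) ≫ f) =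
        Over.mk (pullback.fst (mU i).left (mU j).left ≫ (Uc i).hom ≫ f)
      rw [Category.assoc]
    rw [e1] at this
    exact this

end

end EtProperH0Lib
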