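import Groth.Agent.EtProperH0Lib.FlatRedNoeth
import Groth.Agent.GrpdFieldLib.ClosedSub

/-!
# Strict localisations of schemes over a perfect field: connected fibres
-/

set_option autoImplicit false
set_option linter.style.haveILetI false
set_option linter.unusedSectionVars false
set_option backward.isDefEq.respectTransparency false
set_option backward.isDefEq.respectTransparency.types false
universe u

open CategoryTheory CategoryTheory.Limits AlgebraicGeometry IsLocalRing TensorProduct AlgSpRegLib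

namespace EtProperH0Lib

theorem isScalarTower_self (A B : Type u) [CommRing A] [CommRing B] [Algebra A B] : IsScalarTower A A B :=
  ⟨fun a b c => by simp only [Algebra.smul_def, smul_eq_mul, map_mul, mul_assoc, Algebra.algebraMap_self, RingHom.id_apply]⟩

/-- Tensoring an injection with a flat algebra keeps it injective after base change. -/
theorem injective_map_flat {R M₀ M₁ M E₀ K : Type u} [CommRing R] [CommRing M₀] [CommRing M₁] [CommRing M] [CommRing E₀]
    [CommRing K] [Algebra R M₀] [Algebra R M₁] [Algebra R M] [Algebra M₀ M₁] [Algebra M₀ M] [IsScalarTower R M₀ M₁]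
    [IsScalarTower R M₀ M] [Algebra M₀ E₀] [Module.Flat M₀ E₀] [Algebra R K] (f : M₁ →ₐ[M₀] M)
    (hK : Function.Injective (Algebra.TensorProduct.map (f.restrictScalars R) (AlgHom.id R K))) :
    Function.Injective (Algebra.TensorProduct.map (AlgHom.id R K)
      ((Algebra.TensorProduct.map f (AlgHom.id M₀ E₀)).restrictScalars R)) := by
  let e₁ := AlgebraTensorModule.rightComm R M₀ M₀ M₁ E₀ K
  let e := AlgebraTensorModule.rightComm R M₀ M₀ M E₀ K
  let g : M₁ ⊗[R] K →ₗ[M₀] M ⊗[R] K := AlgebraTensorModule.map f.toLinearMap LinearMap.id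
  have hg : Function.Injective g := by
    have hgf : ⇑g = ⇑(Algebra.TensorProduct.map (f.restrictScalars R) (AlgHom.id R K)) := by
      funext w
      induction w using TensorProduct.induction_on with
      | zero => simp
      | tmul a b => rfl
      | add a b ha hb => simp only [map_add, ha, hb]
    rw [hgf]
    exact hK
  have key : ∀ w : K ⊗[R] (M₁ ⊗[M₀] E₀), e (TensorProduct.comm R K (M ⊗[M₀] E₀) (Algebra.TensorProduct.map (AlgHom.id R K)
      ((Algebra.TensorProduct.map f (AlgHom.id M₀ E₀)).restrictScalars R) w)) =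
      g.rTensor E₀ (e₁ (TensorProduct.comm R K (M₁ ⊗[M₀] E₀) w)) := by
    intro w
    induction w using TensorProduct.induction_on with
    | zero => simp
    | add a b ha hb => simp only [map_add, ha, hb]
    | tmul κ v =>
      induction v using TensorProduct.induction_on with
      | zero => simp
      | add a b ha hb => simp only [tmul_add, map_add, ha, hb]
      | tmul m x => simp [e, e₁, g]
  intro w w' h
  have h' := (key w).symm.trans ((congrArg (fun v => e (TensorProduct.comm R K (M ⊗[M₀] E₀) v)) h).trans (key w'))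
  exact (TensorProduct.comm R K (M₁ ⊗[M₀] E₀)).injective
    (e₁.injective (Module.Flat.rTensor_preserves_injective_linearMap g hg h'))

theorem injective_map_subalgebra {k R B K : Type u} [Field k] [CommRing R] [CommRing B] [CommRing K] [Algebra k R]
    [Algebra k B] [Algebra R K] (B₁ : Subalgebra k B) :
    Function.Injective (Algebra.TensorProduct.map
      (Algebra.TensorProduct.map (AlgHom.id R R) B₁.val) (AlgHom.id R K)) := by
  letI : Algebra k K := ((algebraMap R K).comp (algebraMap k R)).toAlgebra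
  haveI : IsScalarTower k R K := IsScalarTower.of_algebraMap_eq fun _ => rfl
  have hinj : Function.Injective (Algebra.TensorProduct.map (AlgHom.id k K) B₁.val) :=
    Module.Flat.lTensor_preserves_injective_linearMap (M := K) B₁.val.toLinearMap Subtype.val_injective
  let Ψ₁ := (Algebra.TensorProduct.comm R (R ⊗[k] B₁) K).trans
    ((Algebra.TensorProduct.cancelBaseChange k R K K B₁).restrictScalars R)
  let Ψ := (Algebra.TensorProduct.comm R (R ⊗[k] B) K).trans
    ((Algebra.TensorProduct.cancelBaseChange k R K K B).restrictScalars R)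
  have key : ∀ w, Ψ (Algebra.TensorProduct.map (Algebra.TensorProduct.map (AlgHom.id R R) B₁.val) (AlgHom.id R K) w) =
      Algebra.TensorProduct.map (AlgHom.id k K) B₁.val (Ψ₁ w) := by
    intro w
    induction w using TensorProduct.induction_on with
    | zero => simp
    | add a b ha hb => simp only [map_add, ha, hb]
    | tmul v κ =>
      induction v using TensorProduct.induction_on with
      | zero => simp
      | add a b ha hb => simp only [add_tmul, map_add, ha, hb]
      | tmul r b => simp [Ψ, Ψ₁]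
  intro w w' h
  exact Ψ₁.injective (hinj ((key w).symm.trans ((congrArg Ψ h).trans (key w'))))

/-- Strict localisations of a reduced algebra over a perfect field have connected fibres. -/
theorem connected_fibre_of_perfect {k B R R' : Type u} [Field k] [PerfectField k] [CommRing B] [IsReduced B]
    [Algebra k B] [CommRing R] [HenselianLocalRing R] [IsSepClosed (ResidueField R)] [Algebra k R] [CommRing R']
    [HenselianLocalRing R'] [IsSepClosed (ResidueField R')] [Algebra R R'] [IsLocalHom (algebraMap R R')]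
    [Algebra (R ⊗[k] B) R'] [IsScalarTower R (R ⊗[k] B) R'] [Algebra.WeaklyEtale (R ⊗[k] B) R']
    (K : Type u) [Field K] [Algebra R K] : ConnectedSpace (PrimeSpectrum (K ⊗[R] R')) := by
  haveI : Module.Flat R R' := Module.Flat.trans R (R ⊗[k] B) R'
  haveI : Module.FaithfullyFlat R R' := Module.FaithfullyFlat.of_flat_of_isLocalHom
  refine Groth.Agent.SchFinLib.connectedSpace_iff_idempotent.2
    ⟨Module.FaithfullyFlat.rTensor_nontrivial R R' K,
      fun w hw => trivIdem_of_stages (R ⊗[k] B) R' R K (fun E _ _ _ _ _ ξ z hz => ?_) w hw⟩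
  classical
  obtain ⟨A₀, E₀₀, _, _, ⟨s, hs⟩, hE₀₀, ⟨e⟩⟩ := Algebra.Etale.exists_subalgebra_fg R (R ⊗[k] B) E
  haveI := hE₀₀
  obtain ⟨B₀, hB₀, hs₀⟩ := exists_subalgebra_tensor s
  let j₀ : R ⊗[k] B₀ →ₐ[R] R ⊗[k] B := Algebra.TensorProduct.map (AlgHom.id R R) B₀.val
  have hj₀ : Function.Injective j₀ :=
    Module.Flat.lTensor_preserves_injective_linearMap (M := R) B₀.val.toLinearMap Subtype.val_injective
  letI : Algebra (R ⊗[k] B₀) (R ⊗[k] B) := j₀.toRingHom.toAlgebra
  haveI : IsScalarTower R (R ⊗[k] B₀) (R ⊗[k] B) := IsScalarTower.of_algebraMap_eq' j₀.comp_algebraMap.symm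
  have hA₀ : A₀ ≤ (IsScalarTower.toAlgHom R (R ⊗[k] B₀) (R ⊗[k] B)).range := by
    rw [← hs]
    exact Algebra.adjoin_le fun x hx => hs₀ x hx
  obtain ⟨E₀, _, _, _, ⟨ψ⟩⟩ := exists_etale_descent hj₀ A₀ hA₀ E₀₀ e
  let z' := Algebra.TensorProduct.map (AlgHom.id R K) (ψ.toAlgHom.restrictScalars R) z
  obtain ⟨S, hS⟩ := TensorProduct.exists_finset z'
  choose P hP using fun w : (R ⊗[k] B) ⊗[R ⊗[k] B₀] E₀ => TensorProduct.exists_finset w
  obtain ⟨B₁', hB₁', hP'⟩ := exists_subalgebra_tensor (S.biUnion fun i => (P i.2).image Prod.fst)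
  let B₁ := B₀ ⊔ B₁'
  have hB₁ : B₁.FG := hB₀.sup hB₁'
  let ι : B₀ →ₐ[k] B₁ := Subalgebra.inclusion le_sup_left
  let j₁ : R ⊗[k] B₁ →ₐ[R] R ⊗[k] B := Algebra.TensorProduct.map (AlgHom.id R R) B₁.val
  let j₀₁ : R ⊗[k] B₀ →ₐ[R] R ⊗[k] B₁ := Algebra.TensorProduct.map (AlgHom.id R R) ι
  letI : Algebra (R ⊗[k] B₀) (R ⊗[k] B₁) := j₀₁.toRingHom.toAlgebra
  haveI : IsScalarTower R (R ⊗[k] B₀) (R ⊗[k] B₁) := IsScalarTower.of_algebraMap_eq' j₀₁.comp_algebraMap.symm
  have hj : j₁.comp j₀₁ = j₀ := by
    ext b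
    rfl
  let f : R ⊗[k] B₁ →ₐ[R ⊗[k] B₀] R ⊗[k] B :=
    { j₁.toRingHom with commutes' := fun a => AlgHom.congr_fun hj a }
  haveI := isScalarTower_self (R ⊗[k] B₀) (R ⊗[k] B₁)
  haveI := isScalarTower_self (R ⊗[k] B₀) (R ⊗[k] B)
  let L := Algebra.TensorProduct.map (AlgHom.id R K)
    ((Algebra.TensorProduct.map f (AlgHom.id (R ⊗[k] B₀) E₀)).restrictScalars R)
  have hrange : ∀ m ∈ (S.biUnion fun i => (P i.2).image Prod.fst), ∃ m₁, f m₁ = m := by
    intro m hm
    obtain ⟨m', hm'⟩ := hP' m hm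
    refine ⟨Algebra.TensorProduct.map (AlgHom.id R R) (Subalgebra.inclusion (le_sup_right : B₁' ≤ B₁)) m', ?_⟩
    rw [← hm']
    show (j₁.comp (Algebra.TensorProduct.map (AlgHom.id R R) (Subalgebra.inclusion _))) m' = _
    congr 1
    ext b
    rfl
  have hz' : z' ∈ L.range := by
    rw [hS]
    refine Subalgebra.sum_mem _ fun i hi => ?_
    rw [hP i.2, tmul_sum]
    refine Subalgebra.sum_mem _ fun q hq => ?_
    obtain ⟨m₁, hm₁⟩ := hrange q.1 (Finset.mem_biUnion.2 ⟨i, hi, Finset.mem_image_of_mem _ hq⟩)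
    exact ⟨i.1 ⊗ₜ (m₁ ⊗ₜ q.2), by simp [L, hm₁]⟩
  obtain ⟨z₁, hz₁⟩ := hz'
  have hL : Function.Injective L := injective_map_flat f (injective_map_subalgebra B₁)
  have hz₁i : IsIdempotentElem z₁ := hL (by
    rw [map_mul]
    show L.toRingHom z₁ * L.toRingHom z₁ = L.toRingHom z₁
    rw [show L.toRingHom z₁ = z' from hz₁]
    exact (hz.map _).eq)
  haveI : Algebra.FiniteType k B₁ := (Subalgebra.fg_iff_finiteType B₁).1 hB₁
  haveI : Algebra.FinitePresentation k B₁ := Algebra.FinitePresentation.of_finiteType.1 inferInstance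
  haveI : IsReduced B₁ := isReduced_of_injective B₁.val Subtype.val_injective
  haveI : GeometricallyReduced (Spec.map (CommRingCat.ofHom (algebraMap k B₁))) :=
    GrpdFieldLib.geometricallyReduced_of_perfect _
  haveI : GeometricallyReduced (Spec.map (CommRingCat.ofHom (algebraMap R (R ⊗[k] B₁)))) :=
    MorphismProperty.of_isPullback (P := @GeometricallyReduced)
      (isPullback_SpecMap_of_isPushout _ _ _ _ (CommRingCat.isPushout_tensorProduct k R B₁)).flip ‹_›
  haveI : Algebra.FinitePresentation R ((R ⊗[k] B₁) ⊗[R ⊗[k] B₀] E₀) :=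
    Algebra.FinitePresentation.trans R (R ⊗[k] B₁) ((R ⊗[k] B₁) ⊗[R ⊗[k] B₀] E₀)
  haveI : Module.Flat R ((R ⊗[k] B₁) ⊗[R ⊗[k] B₀] E₀) := Module.Flat.trans R (R ⊗[k] B₁) _
  haveI := geometricallyReduced_trans R (R ⊗[k] B₁) ((R ⊗[k] B₁) ⊗[R ⊗[k] B₀] E₀)
  let χ : (R ⊗[k] B₁) ⊗[R ⊗[k] B₀] E₀ →ₐ[R] R' :=
    ((ξ.comp ψ.symm.toAlgHom).restrictScalars R).comp
      ((Algebra.TensorProduct.map f (AlgHom.id (R ⊗[k] B₀) E₀)).restrictScalars R)
  have key := idem_stage (B := (R ⊗[k] B₁) ⊗[R ⊗[k] B₀] E₀) χ K z₁ hz₁i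
  have he : ∀ y : K ⊗[R] E, Algebra.TensorProduct.map (AlgHom.id R K) ((ξ.comp ψ.symm.toAlgHom).restrictScalars R)
      (Algebra.TensorProduct.map (AlgHom.id R K) (ψ.toAlgHom.restrictScalars R) y) = stageMap (R ⊗[k] B) R K ξ y := by
    intro y
    induction y using TensorProduct.induction_on with
    | zero => simp
    | tmul a b => simp
    | add a b ha hb => simp only [map_add, ha, hb]
  have hχ : ∀ y, Algebra.TensorProduct.map (AlgHom.id R K) χ y =
      Algebra.TensorProduct.map (AlgHom.id R K) ((ξ.comp ψ.symm.toAlgHom).restrictScalars R) (L y) := by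
    intro y
    induction y using TensorProduct.induction_on with
    | zero => simp
    | tmul a b => simp [χ, L]
    | add a b ha hb => simp only [map_add, ha, hb]
  rwa [hχ, show L z₁ = z' from hz₁, he] at key

end EtProperH0Lib
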