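import Groth.Agent.EtProperH0Lib.PerfectFibres
import Groth.Agent.EtProperH0Lib.UnitIso
import Groth.Agent.EtProperH0Lib.Connected
import Groth.Agent.HenselBranchLib.IntegralHens
import Mathlib.FieldTheory.PurelyInseparable.PerfectClosure
import Mathlib.RingTheory.Spectrum.Prime.Homeomorph

/-!
# Strict localisations over a base with a single point have connected fibres
-/

set_option autoImplicit false
set_option linter.style.haveILetI false
set_option linter.unusedSectionVars false
set_option backward.isDefEq.respectTransparency false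
set_option backward.isDefEq.respectTransparency.types false
universe u

open CategoryTheory CategoryTheory.Limits AlgebraicGeometry IsLocalRing TensorProduct AlgSpRegLib

namespace EtProperH0Lib

/-- Submersiveness and connected fibres descend along universally closed surjections. -/
theorem submConn_of_lift {Z V Z' V' : Scheme.{u}} (p : Z ⟶ V) (p' : Z' ⟶ V') (v : V' ⟶ V) (h : Z' ⟶ Z)
    [UniversallyClosed v] [Surjective v] (comm : h ≫ p = p' ≫ v)
    (hlift : ∀ (Ω : Type u) [Field Ω] [IsAlgClosed Ω] (η : Spec (CommRingCat.of Ω) ⟶ V), ∃ η', η' ≫ v = η)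
    (hfill : ∀ (F : Type u) [Field F] [IsAlgClosed F] (z : Spec (CommRingCat.of F) ⟶ Z)
      (w : Spec (CommRingCat.of F) ⟶ V'), z ≫ p = w ≫ v → ∃ z', z' ≫ h = z ∧ z' ≫ p' = w)
    (hp' : SubmConn p') : SubmConn p := by
  refine ⟨fun S' a => ?_, fun Ω _ _ η => ?_⟩
  · let a'' : pullback a v ⟶ V' := pullback.snd a v
    let q₁ := pullback.snd p' a''
    let q₂ := pullback.fst a v
    let Φ : pullback p' a'' ⟶ pullback p a :=
      pullback.lift (pullback.fst p' a'' ≫ h) (q₁ ≫ q₂) (by
        rw [Category.assoc, comm, pullback.condition_assoc, Category.assoc, pullback.condition])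
    have h2 : Topology.IsQuotientMap q₂.base :=
      q₂.isClosedMap.isQuotientMap q₂.continuous q₂.surjective
    have h12 : Topology.IsQuotientMap (Φ ≫ pullback.snd p a).base := by
      rw [pullback.lift_snd]
      exact h2.comp (hp'.1 _ a'')
    exact Topology.IsQuotientMap.of_comp Φ.continuous (pullback.snd p a).continuous h12
  · obtain ⟨η', hη'⟩ := hlift Ω η
    haveI := hp'.2 Ω η'
    let Φ : pullback p' η' ⟶ pullback p η :=
      pullback.lift (pullback.fst p' η' ≫ h) (pullback.snd p' η') (by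
        rw [Category.assoc, comm, pullback.condition_assoc, hη'])
    have hs : Function.Surjective Φ.base := fun q => by
      let F := AlgebraicClosure ((pullback p η).residueField q)
      let e : Spec (CommRingCat.of F) ⟶ pullback p η :=
        Spec.map (CommRingCat.ofHom (algebraMap ((pullback p η).residueField q) F)) ≫
          (pullback p η).fromSpecResidueField q
      obtain ⟨z', hz₁, hz₂⟩ := hfill F (e ≫ pullback.fst p η) (e ≫ pullback.snd p η ≫ η') (by
        simp only [Category.assoc, hη', pullback.condition])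
      let e' : Spec (CommRingCat.of F) ⟶ pullback p' η' :=
        pullback.lift z' (e ≫ pullback.snd p η) (by rw [hz₂]; simp [e])
      have he : e' ≫ Φ = e := by
        apply pullback.hom_ext
        · rw [Category.assoc, pullback.lift_fst, pullback.lift_fst_assoc, hz₁]
        · rw [Category.assoc, pullback.lift_snd, pullback.lift_snd]
      refine ⟨e' (IsLocalRing.closedPoint F), ?_⟩
      rw [← Scheme.Hom.comp_apply, he]
      exact Scheme.fromSpecResidueField_apply q _
    exact hs.connectedSpace Φ.continuous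

/-- Over a ring with a single prime, a purely inseparable residue extension gives powers in the image. -/
theorem exists_pow_mem_range {A k k' C : Type u} [CommRing A] [Field k] [Field k'] [CommRing C] [Algebra A k]
    [Algebra k k'] [Algebra A k'] [IsScalarTower A k k'] [IsPurelyInseparable k k'] [Algebra A C]
    (hk : Function.Surjective (algebraMap A k)) (x : k' ⊗[A] C) :
    ∃ n > 0, x ^ n ∈ (Algebra.TensorProduct.includeRight : C →ₐ[A] k' ⊗[A] C).toRingHom.range := by
  let e : k' ⊗[A] C ≃ₐ[k] (k ⊗[A] C) ⊗[k] k' :=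
    (Algebra.TensorProduct.cancelBaseChange A k k k' C).symm.trans (Algebra.TensorProduct.comm k k' (k ⊗[A] C))
  obtain ⟨n, hn, y, hy⟩ := IsPurelyInseparable.exists_pow_mem_range_tensorProduct (e x)
  have hy' : ∃ c : C, (1 : k) ⊗ₜ[A] c = y := by
    clear hy
    induction y using TensorProduct.induction_on with
    | zero => exact ⟨0, by simp⟩
    | add a b ha hb =>
      obtain ⟨c, hc⟩ := ha
      obtain ⟨d, hd⟩ := hb
      exact ⟨c + d, by rw [tmul_add, hc, hd]⟩
    | tmul κ c =>
      obtain ⟨a, rfl⟩ := hk κ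
      exact ⟨a • c, by rw [← smul_tmul, Algebra.algebraMap_eq_smul_one]⟩
  obtain ⟨c, rfl⟩ := hy'
  refine ⟨n, hn, c, e.injective ?_⟩
  rw [map_pow, ← hy]
  simp [e]

/-- An integral radicial algebra over a strictly henselian local ring is strictly henselian. -/
theorem strictHenselian_of_pow_range {S B : Type u} [CommRing S] [HenselianLocalRing S] [IsSepClosed (ResidueField S)]
    [CommRing B] [Algebra S B] (H : ∀ x : B, ∃ n > 0, x ^ n ∈ (algebraMap S B).range)
    (hker : RingHom.ker (algebraMap S B) ≤ nilradical S) :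
    ∃ (_ : IsLocalRing B) (_ : HenselianLocalRing B) (_ : IsLocalHom (algebraMap S B)), IsSepClosed (ResidueField B) := by
  haveI hint : Algebra.IsIntegral S B := ⟨fun x => by
    obtain ⟨n, hn, y, hy⟩ := H x
    exact IsIntegral.of_pow hn (hy ▸ isIntegral_algebraMap)⟩
  have hom := PrimeSpectrum.isHomeomorph_comap _ H hker
  obtain ⟨q, hq⟩ := hom.surjective (IsLocalRing.closedPoint S)
  have hq' : q.asIdeal.comap (algebraMap S B) = maximalIdeal S := congrArg PrimeSpectrum.asIdeal hq
  haveI : q.asIdeal.IsMaximal := by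
    haveI : (q.asIdeal.comap (algebraMap S B)).IsMaximal := hq' ▸ maximalIdeal.isMaximal S
    exact Ideal.isMaximal_of_isIntegral_of_isMaximal_comap q.asIdeal ‹_›
  haveI : IsLocalRing B := IsLocalRing.of_unique_max_ideal ⟨q.asIdeal, ‹_›, fun J hJ => by
    haveI := hJ
    have h1 := IsLocalRing.eq_maximalIdeal (Ideal.isMaximal_comap_of_isIntegral_of_isMaximal (R := S) J)
    exact congrArg PrimeSpectrum.asIdeal (hom.injective (a₁ := ⟨J, hJ.isPrime⟩) (a₂ := q)
      (PrimeSpectrum.ext (h1.trans hq'.symm)))⟩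
  haveI : IsLocalHom (algebraMap S B) := ((IsLocalRing.local_hom_TFAE (algebraMap S B)).out 0 4).2
    (IsLocalRing.eq_maximalIdeal (Ideal.isMaximal_comap_of_isIntegral_of_isMaximal (R := S) (maximalIdeal B)))
  refine ⟨inferInstance, HenselBranchLib.henselianLocalRing_of_isIntegral' S B, inferInstance, ?_⟩
  haveI : Algebra.IsIntegral (ResidueField S) (ResidueField B) := ⟨fun x => by
    obtain ⟨r, rfl⟩ := residue_surjective x
    obtain ⟨p, hp, hp'⟩ := Algebra.IsIntegral.isIntegral (R := S) r
    refine ⟨p.map (residue S), hp.map _, ?_⟩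
    rw [Polynomial.eval₂_map]
    have h := congrArg (residue B) hp'
    rw [Polynomial.hom_eval₂, map_zero] at h
    exact h⟩
  exact Algebra.IsAlgebraic.isSepClosed (F := ResidueField S)

theorem ker_le_nilradical_of_fill {S B : Type u} [CommRing S] [CommRing B] (φ : S →+* B)
    (h : ∀ (F : Type u) [Field F] [IsAlgClosed F] (f : S →+* F), ∃ g : B →+* F, g.comp φ = f) :
    RingHom.ker φ ≤ nilradical S := by
  intro x hx
  rw [nilradical_eq_sInf]
  refine Submodule.mem_sInf.2 fun (p : Ideal S) hp => ?_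
  haveI : p.IsPrime := hp
  let F := AlgebraicClosure p.ResidueField
  obtain ⟨g, hg⟩ := h F ((algebraMap p.ResidueField F).comp (algebraMap S p.ResidueField))
  have h0 := RingHom.congr_fun hg x
  rw [RingHom.comp_apply, RingHom.mem_ker.1 hx, map_zero, RingHom.comp_apply] at h0
  exact Ideal.algebraMap_residueField_eq_zero.1 ((map_eq_zero_iff _ (algebraMap p.ResidueField F).injective).1 h0.symm)

section LiftHelpers

variable {A S B C D : Type u} [CommRing A] [CommRing S] [CommRing B] [CommRing C] [CommRing D] [Algebra A S]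
  [Algebra A B] [Algebra A C] [Algebra S B] [IsScalarTower A S B] [Algebra A D] [Algebra S D] [IsScalarTower A S D]

theorem lift_tmul_one (f : B →ₐ[S] D) (g : C →ₐ[A] D) (b : B) :
    Algebra.TensorProduct.lift f g (fun _ _ => Commute.all _ _) (b ⊗ₜ[A] (1 : C)) = f b := by
  rw [Algebra.TensorProduct.lift_tmul, map_one, mul_one]

theorem lift_one_tmul (f : B →ₐ[S] D) (g : C →ₐ[A] D) (c : C) :
    Algebra.TensorProduct.lift f g (fun _ _ => Commute.all _ _) ((1 : B) ⊗ₜ[A] c) = g c := by
  rw [Algebra.TensorProduct.lift_tmul, map_one, one_mul]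

theorem tmul_eq_mul (b : B) (c : C) : b ⊗ₜ[A] c = Algebra.TensorProduct.includeLeftRingHom b *
    (Algebra.TensorProduct.includeRight : C →ₐ[A] B ⊗[A] C).toRingHom c := by
  show b ⊗ₜ[A] c = b ⊗ₜ[A] (1 : C) * (1 : B) ⊗ₜ[A] c
  rw [Algebra.TensorProduct.tmul_mul_tmul, mul_one, one_mul]

end LiftHelpers

/-- Strict localisations over a base with a single point, given a perfect radicial extension of the residue field. -/
theorem submConn_of_singlePoint_aux {A B RY RX k k' : Type u} [CommRing A] [CommRing B] [Field k] [Field k']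
    [Algebra A k] [Algebra k k'] [Algebra A k'] [IsScalarTower A k k'] [IsPurelyInseparable k k'] [PerfectField k']
    (hk : Function.Surjective (algebraMap A k)) (hkn : ∀ a : A, algebraMap A k a = 0 → IsNilpotent a)
    [CommRing RY] [HenselianLocalRing RY] [IsSepClosed (ResidueField RY)]
    [CommRing RX] [HenselianLocalRing RX] [IsSepClosed (ResidueField RX)]
    [Algebra A B] [Algebra A RY] (Θ : B ⊗[A] RY →+* RX) (hwe : letI := Θ.toAlgebra; Algebra.WeaklyEtale (B ⊗[A] RY) RX)
    (ψ : RY →+* RX) [IsLocalHom ψ] (hψ : Θ.comp (Algebra.TensorProduct.includeRight : RY →ₐ[A] B ⊗[A] RY).toRingHom = ψ) :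
    SubmConn (Spec.map (CommRingCat.ofHom ψ)) := by
  classical
  let P := B ⊗[A] RY
  letI : Algebra P RX := Θ.toAlgebra
  haveI : Algebra.WeaklyEtale P RX := hwe
  let R : Type u := k' ⊗[A] RY
  let ρ : RY →+* R := (Algebra.TensorProduct.includeRight : RY →ₐ[A] R).toRingHom
  let B' : Type u := (k' ⊗[A] B) ⧸ nilradical (k' ⊗[A] B)
  haveI : _root_.IsReduced B' := (Ideal.isRadical_iff_quotient_reduced _).1 fun x hx => by
    obtain ⟨n, m, hm⟩ := hx
    exact ⟨n * m, by rw [pow_mul]; exact hm⟩
  let M : Type u := R ⊗[k'] B'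
  let iR : R →+* M := Algebra.TensorProduct.includeLeftRingHom
  let iB : B' →+* M := (Algebra.TensorProduct.includeRight : B' →ₐ[k'] M).toRingHom
  let κB : B →+* B' := (Ideal.Quotient.mk _).comp (Algebra.TensorProduct.includeRight : B →ₐ[A] k' ⊗[A] B).toRingHom
  letI : CommRing M := inferInstanceAs (CommRing (R ⊗[k'] B'))
  letI : Algebra A M := RingHom.toAlgebra (R := A) (S := M) ((iR.comp ρ).comp (algebraMap A RY))
  haveI := isScalarTower_self A M
  have hAB : (iB.comp κB).comp (algebraMap A B) = (iR.comp ρ).comp (algebraMap A RY) := RingHom.ext fun a => by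
    show (1 : R) ⊗ₜ[k'] (Ideal.Quotient.mk (nilradical (k' ⊗[A] B)) ((1 : k') ⊗ₜ[A] algebraMap A B a)) =
      ((1 : k') ⊗ₜ[A] algebraMap A RY a) ⊗ₜ[k'] 1
    rw [Algebra.algebraMap_eq_smul_one, Algebra.algebraMap_eq_smul_one, ← smul_tmul a, ← smul_tmul a,
      ← Algebra.algebraMap_eq_smul_one]
    have e1 : Ideal.Quotient.mk (nilradical (k' ⊗[A] B)) (algebraMap A k' a ⊗ₜ[A] (1 : B)) =
        algebraMap A k' a • (1 : B') := by
      rw [← Algebra.algebraMap_eq_smul_one]
      rfl
    have e2 : (algebraMap A k' a ⊗ₜ[A] (1 : RY)) = algebraMap A k' a • (1 : R) := by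
      rw [← Algebra.algebraMap_eq_smul_one]
      rfl
    rw [e1, e2, smul_tmul]
  let μ : P →+* M := (Algebra.TensorProduct.lift
    ({ iB.comp κB with commutes' := fun a => RingHom.congr_fun hAB a } : B →ₐ[A] M)
    ({ iR.comp ρ with commutes' := fun _ => rfl } : RY →ₐ[A] M) fun _ _ => Commute.all _ _).toRingHom
  have hμY : μ.comp (Algebra.TensorProduct.includeRight : RY →ₐ[A] P).toRingHom = iR.comp ρ :=
    RingHom.ext fun r => lift_one_tmul _ _ r
  have hμB : ∀ b : B, μ (b ⊗ₜ 1) = iB (κB b) := fun b => lift_tmul_one _ _ b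
  letI : Algebra P M := μ.toAlgebra
  let M' : Type u := M ⊗[P] RX
  let iM : M →+* M' := Algebra.TensorProduct.includeLeftRingHom
  let iX : RX →+* M' := (Algebra.TensorProduct.includeRight : RX →ₐ[P] M').toRingHom
  have hPM : ∀ t : P, iM (μ t) = iX (Θ t) := fun t => by
    show μ t ⊗ₜ[P] (1 : RX) = (1 : M) ⊗ₜ[P] Θ t
    rw [show μ t = t • (1 : M) by rw [← Algebra.algebraMap_eq_smul_one]; rfl,
      show Θ t = t • (1 : RX) by rw [← Algebra.algebraMap_eq_smul_one]; rfl, smul_tmul]
  have hsq : iX.comp ψ = (iM.comp iR).comp ρ := by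
    rw [← hψ]
    show _ = iM.comp (iR.comp ρ)
    rw [← hμY]
    exact RingHom.ext fun r => (hPM _).symm
  -- compatible points with values in an algebraically closed field
  have hlift : ∀ (F : Type u) [Field F] [IsAlgClosed F] (fY : RY →+* F), ∃ fR : R →+* F, fR.comp ρ = fY := by
    intro F _ _ fY
    let fk : k →+* F := (algebraMap A k).liftOfSurjective hk ⟨fY.comp (algebraMap A RY), fun a ha =>
      ((hkn a ha).map (fY.comp (algebraMap A RY))).eq_zero⟩
    letI : Algebra k F := fk.toAlgebra
    let κ : k' →ₐ[k] F := IsAlgClosed.lift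
    letI : Algebra A F := (fY.comp (algebraMap A RY)).toAlgebra
    have hκ : ∀ a, κ (algebraMap A k' a) = fY (algebraMap A RY a) := fun a => by
      rw [IsScalarTower.algebraMap_apply A k k']
      exact (κ.commutes _).trans (RingHom.liftOfRightInverse_comp_apply _ _ _ _ a)
    refine ⟨(Algebra.TensorProduct.lift
      ({ κ.toRingHom with commutes' := hκ } : k' →ₐ[A] F)
      ({ fY with commutes' := fun _ => rfl } : RY →ₐ[A] F) fun _ _ => Commute.all _ _).toRingHom,
      RingHom.ext fun r => lift_one_tmul _ _ r⟩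
  have hfill : ∀ (F : Type u) [Field F] [IsAlgClosed F] (fX : RX →+* F) (fR : R →+* F), fX.comp ψ = fR.comp ρ →
      ∃ φ : M' →+* F, φ.comp iX = fX ∧ (φ.comp iM).comp iR = fR := by
    intro F _ _ fX fR hc
    letI : Algebra k' F := (fR.comp Algebra.TensorProduct.includeLeftRingHom).toAlgebra
    letI : Algebra A F := ((algebraMap k' F).comp (algebraMap A k')).toAlgebra
    haveI := isScalarTower_self A F
    let fB : B →+* F := (fX.comp Θ).comp Algebra.TensorProduct.includeLeftRingHom
    have hfB : ∀ a, fB (algebraMap A B a) = algebraMap A F a := fun a => by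
      show fX (Θ (algebraMap A B a ⊗ₜ[A] (1 : RY))) = fR (algebraMap A k' a ⊗ₜ[A] (1 : RY))
      rw [Algebra.algebraMap_eq_smul_one, Algebra.algebraMap_eq_smul_one, smul_tmul, smul_tmul]
      have := RingHom.congr_fun hc (a • (1 : RY))
      rw [← hψ] at this
      exact this
    let φ₀ : k' ⊗[A] B →+* F := (Algebra.TensorProduct.lift
      ({ algebraMap k' F with commutes' := fun _ => rfl } : k' →ₐ[A] F)
      ({ fB with commutes' := hfB } : B →ₐ[A] F) fun _ _ => Commute.all _ _).toRingHom
    let φB : B' →+* F := Ideal.Quotient.lift _ φ₀ fun a ha => ((mem_nilradical.1 ha).map φ₀).eq_zero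
    have hφB : ∀ c, φB (algebraMap k' B' c) = algebraMap k' F c := fun c => by
      show φ₀ (c ⊗ₜ[A] (1 : B)) = _
      exact lift_tmul_one _ _ c
    let φM : M →+* F := (Algebra.TensorProduct.lift
      ({ fR with commutes' := fun _ => rfl } : R →ₐ[k'] F)
      ({ φB with commutes' := hφB } : B' →ₐ[k'] F) fun _ _ => Commute.all _ _).toRingHom
    have hR : φM.comp iR = fR := RingHom.ext fun r => lift_tmul_one _ _ r
    have hB : ∀ b, φM (iB (κB b)) = fB b := fun b => by
      have h1 : φM (iB (κB b)) = φB (κB b) := lift_one_tmul _ _ _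
      rw [h1]
      show φ₀ ((1 : k') ⊗ₜ[A] b) = _
      exact lift_one_tmul _ _ _
    have hP : ∀ t : P, φM (μ t) = fX (Θ t) := by
      intro t
      induction t using TensorProduct.induction_on with
      | zero => simp
      | add a b ha hb => simp only [map_add, ha, hb]
      | tmul b r =>
        rw [show b ⊗ₜ[A] r = (b ⊗ₜ[A] (1 : RY)) * (1 : B) ⊗ₜ[A] r by simp, map_mul, map_mul, map_mul, map_mul, hμB, hB]
        refine congrArg (fB b * ·) ?_
        have h1 : μ ((1 : B) ⊗ₜ r) = iR (ρ r) := RingHom.congr_fun hμY r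
        rw [h1, ← RingHom.comp_apply φM, hR, ← RingHom.comp_apply fR, ← hc, ← hψ]
        rfl
    letI : Algebra P F := (fX.comp Θ).toAlgebra
    refine ⟨(Algebra.TensorProduct.lift
      ({ φM with commutes' := hP } : M →ₐ[P] F)
      ({ fX with commutes' := fun _ => rfl } : RX →ₐ[P] F) fun _ _ => Commute.all _ _).toRingHom,
      RingHom.ext fun r => lift_one_tmul _ _ r, ?_⟩
    rw [← hR]
    exact RingHom.ext fun r => lift_tmul_one _ _ _
  -- radiciality
  have hpowR : ∀ x : R, ∃ n > 0, x ^ n ∈ ρ.range := exists_pow_mem_range (k := k) hk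
  letI : Algebra A RX := (ψ.comp (algebraMap A RY)).toAlgebra
  letI : Algebra A M' := (iX.comp (algebraMap A RX)).toAlgebra
  haveI := isScalarTower_self A M'
  have hAk : ∀ a, iM (iR (algebraMap A k' a ⊗ₜ[A] (1 : RY))) = iX (ψ (algebraMap A RY a)) := fun a => by
    rw [← RingHom.comp_apply iX, hsq, Algebra.algebraMap_eq_smul_one, smul_tmul, ← Algebra.algebraMap_eq_smul_one]
    rfl
  let π : k' ⊗[A] RX →+* M' := (Algebra.TensorProduct.lift
    ({ (iM.comp iR).comp Algebra.TensorProduct.includeLeftRingHom with commutes' := hAk } : k' →ₐ[A] M')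
    ({ iX with commutes' := fun _ => rfl } : RX →ₐ[A] M') fun _ _ => Commute.all _ _).toRingHom
  have hπk : ∀ c : k', π (c ⊗ₜ 1) = iM (iR (c ⊗ₜ 1)) := fun c => lift_tmul_one _ _ c
  have hπX : ∀ r : RX, π (1 ⊗ₜ r) = iX r := fun r => lift_one_tmul _ _ r
  have hRmem : ∀ r : R, iM (iR r) ∈ π.range := by
    intro r
    induction r using TensorProduct.induction_on with
    | zero => simp
    | add a b ha hb => rw [map_add, map_add]; exact add_mem ha hb
    | tmul c y =>
      rw [show c ⊗ₜ[A] y = (c ⊗ₜ[A] (1 : RY)) * ρ y from tmul_eq_mul c y, map_mul, map_mul, ← hπk,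
        show iM (iR (ρ y)) = iX (ψ y) from (RingHom.congr_fun hsq y).symm, ← hπX]
      exact mul_mem ⟨_, rfl⟩ ⟨_, rfl⟩
  have hBmem : ∀ b : B', iM (iB b) ∈ π.range := by
    intro b
    obtain ⟨b, rfl⟩ := Ideal.Quotient.mk_surjective b
    induction b using TensorProduct.induction_on with
    | zero => simp
    | add a b ha hb => rw [map_add, map_add, map_add]; exact add_mem ha hb
    | tmul c y =>
      rw [show c ⊗ₜ[A] y = (c ⊗ₜ[A] (1 : B)) * (1 : k') ⊗ₜ[A] y by simp, map_mul, map_mul, map_mul]
      refine mul_mem ?_ ?_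
      · have e1 : iB (Ideal.Quotient.mk (nilradical (k' ⊗[A] B)) (c ⊗ₜ 1)) = iR (c ⊗ₜ 1) := by
          show (1 : R) ⊗ₜ[k'] (algebraMap k' B' c) = (algebraMap k' R c) ⊗ₜ[k'] (1 : B')
          rw [Algebra.algebraMap_eq_smul_one, Algebra.algebraMap_eq_smul_one, smul_tmul]
        rw [e1, ← hπk]
        exact ⟨_, rfl⟩
      · show iM (iB (κB y)) ∈ π.range
        rw [← hμB, hPM, ← hπX]
        exact ⟨_, rfl⟩
  have hπ : Function.Surjective π := by
    intro x
    suffices h : x ∈ π.range from h
    induction x using TensorProduct.induction_on with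
    | zero => simp
    | add a b ha hb => exact add_mem ha hb
    | tmul m r =>
      rw [show m ⊗ₜ[P] r = iM m * iX r from tmul_eq_mul m r, ← hπX]
      refine mul_mem ?_ ⟨_, rfl⟩
      induction m using TensorProduct.induction_on with
      | zero => simp
      | add a b ha hb => rw [map_add]; exact add_mem ha hb
      | tmul a b =>
        rw [show a ⊗ₜ[k'] b = iR a * iB b from tmul_eq_mul a b, map_mul]
        exact mul_mem (hRmem a) (hBmem b)
  have hpowM : ∀ x : M', ∃ n > 0, x ^ n ∈ iX.range := fun x => by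
    obtain ⟨y, rfl⟩ := hπ x
    obtain ⟨n, hn, c, hc⟩ := exists_pow_mem_range (k := k) hk y
    refine ⟨n, hn, c, ?_⟩
    rw [← map_pow, ← hc]
    exact (hπX c).symm
  have hkerR : RingHom.ker ρ ≤ nilradical RY := ker_le_nilradical_of_fill ρ hlift
  have hkerM : RingHom.ker iX ≤ nilradical RX := ker_le_nilradical_of_fill iX fun F _ _ fX => by
    obtain ⟨fR, hfR⟩ := hlift F (fX.comp ψ)
    obtain ⟨φ, hφ, -⟩ := hfill F fX fR hfR.symm
    exact ⟨φ, hφ⟩
  letI : Algebra RY R := ρ.toAlgebra
  letI : Algebra RX M' := iX.toAlgebra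
  obtain ⟨_, hhR, hlR, hsR⟩ := strictHenselian_of_pow_range (S := RY) (B := R) hpowR hkerR
  obtain ⟨_, hhM, hlM, hsM⟩ := strictHenselian_of_pow_range (S := RX) (B := M') hpowM hkerM
  haveI := hhR; haveI := hhM; haveI := hsR; haveI := hsM
  haveI : IsLocalHom (algebraMap R M') := ⟨fun a ha => by
    obtain ⟨n, hn, y, hy⟩ := hpowR a
    have h1 : IsUnit (iX (ψ y)) := by
      rw [← RingHom.comp_apply iX, hsq, RingHom.comp_apply, hy, map_pow]
      exact ha.pow n
    have h2 : IsUnit (ψ y) := hlM.map_nonunit _ h1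
    have h3 : IsUnit y := IsUnit.of_map ψ y h2
    exact (isUnit_pow_iff hn.ne').1 (hy ▸ h3.map ρ)⟩
  have hsub : SubmConn (Spec.map (CommRingCat.ofHom (algebraMap R M'))) := by
    have hconn : ∀ (Ω : Type u) [Field Ω] [IsAlgClosed Ω] (η : Spec (CommRingCat.of Ω) ⟶ Spec (CommRingCat.of R)),
        ConnectedSpace ↥(pullback (Spec.map (CommRingCat.ofHom (algebraMap R M'))) η) := fun Ω _ _ η =>
      connectedSpace_pullback_spec (fun K _ _ => connected_fibre_of_perfect (k := k') (B := B') (R := R) (R' := M') K) Ω η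
    haveI : Module.Flat R M' := Module.Flat.trans R M M'
    exact ⟨fun S' a => quotientMap_of_flat _ (RingHom.flat_algebraMap_iff.2 inferInstance)
      (surjective_of_conn _ hconn) S' a, hconn⟩
  haveI : IsIntegralHom (Spec.map (CommRingCat.ofHom ρ)) := (IsIntegralHom.SpecMap_iff).2 fun x => by
    obtain ⟨n, hn, y, hy⟩ := hpowR x
    exact IsIntegral.of_pow hn (hy ▸ isIntegral_algebraMap)
  haveI : Surjective (Spec.map (CommRingCat.ofHom ρ)) :=
    ⟨(PrimeSpectrum.isHomeomorph_comap ρ hpowR hkerR).surjective⟩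
  refine submConn_of_lift _ _ (Spec.map (CommRingCat.ofHom ρ)) (Spec.map (CommRingCat.ofHom iX)) ?_ ?_ ?_ hsub
  · rw [← Spec.map_comp, ← Spec.map_comp, ← CommRingCat.ofHom_comp, ← CommRingCat.ofHom_comp, hsq]
    rfl
  · intro Ω _ _ η
    obtain ⟨fY, rfl⟩ := Spec.map_surjective η
    obtain ⟨fR, hfR⟩ := hlift Ω fY.hom
    exact ⟨Spec.map (CommRingCat.ofHom fR), by rw [← Spec.map_comp, ← CommRingCat.ofHom_comp, hfR, CommRingCat.ofHom_hom]⟩
  · intro F _ _ z w hzw
    obtain ⟨fX, rfl⟩ := Spec.map_surjective z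
    obtain ⟨fR, rfl⟩ := Spec.map_surjective w
    rw [← Spec.map_comp, ← Spec.map_comp] at hzw
    obtain ⟨φ, hφ₁, hφ₂⟩ := hfill F fX.hom fR.hom (congrArg CommRingCat.Hom.hom (Spec.map_injective hzw))
    refine ⟨Spec.map (CommRingCat.ofHom φ), ?_, ?_⟩
    · rw [← Spec.map_comp, ← CommRingCat.ofHom_comp, hφ₁, CommRingCat.ofHom_hom]
    · rw [← Spec.map_comp, ← CommRingCat.ofHom_comp,
        show algebraMap R M' = iM.comp iR from rfl, ← RingHom.comp_assoc, hφ₂, CommRingCat.ofHom_hom]

/-- Strict localisations over a base with a single point: universally submersive with connected fibres. -/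
theorem submConn_of_singlePoint {A B RY RX : Type u} [CommRing A] (hA : (nilradical A).IsMaximal) [CommRing B]
    [CommRing RY] [HenselianLocalRing RY] [IsSepClosed (ResidueField RY)]
    [CommRing RX] [HenselianLocalRing RX] [IsSepClosed (ResidueField RX)]
    [Algebra A B] [Algebra A RY] (Θ : B ⊗[A] RY →+* RX) (hwe : letI := Θ.toAlgebra; Algebra.WeaklyEtale (B ⊗[A] RY) RX)
    (ψ : RY →+* RX) [IsLocalHom ψ] (hψ : Θ.comp (Algebra.TensorProduct.includeRight : RY →ₐ[A] B ⊗[A] RY).toRingHom = ψ) :
    SubmConn (Spec.map (CommRingCat.ofHom ψ)) := by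
  haveI := hA
  letI : Field (A ⧸ nilradical A) := Ideal.Quotient.field _
  letI : Algebra A (perfectClosure (A ⧸ nilradical A) (AlgebraicClosure (A ⧸ nilradical A))) :=
    ((algebraMap (A ⧸ nilradical A) _).comp (Ideal.Quotient.mk _)).toAlgebra
  haveI : IsScalarTower A (A ⧸ nilradical A)
      (perfectClosure (A ⧸ nilradical A) (AlgebraicClosure (A ⧸ nilradical A))) :=
    IsScalarTower.of_algebraMap_eq fun _ => rfl
  exact submConn_of_singlePoint_aux (k := A ⧸ nilradical A)
    (k' := perfectClosure (A ⧸ nilradical A) (AlgebraicClosure (A ⧸ nilradical A))) Ideal.Quotient.mk_surjective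
    (fun a ha => mem_nilradical.1 (Ideal.Quotient.eq_zero_iff_mem.1 ha)) Θ hwe ψ hψ

end EtProperH0Lib
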