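import Groth.Agent.EtProperH0Lib.UnitIso

/-!
# Sections of inverse images on the big étale site
-/

set_option autoImplicit false
set_option linter.style.haveILetI false
set_option linter.unusedSectionVars false
set_option backward.isDefEq.respectTransparency false
set_option backward.isDefEq.respectTransparency.types false
universe u

open CategoryTheory CategoryTheory.Limits AlgebraicGeometry Opposite EtDescentLib Groth.Agent.EtShLib

namespace EtProperH0Lib

noncomputable section

/-- The big presheaf attached to a small étale sheaf. -/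
abbrev bigP {X : Scheme.{u}} (F : EtDesc.Sh X) : (Over X)ᵒᵖ ⥤ Type (u + 1) := ((pPull (Type (u + 1)) X).obj F).obj

theorem hasGerms_bigP {X : Scheme.{u}} (F : EtDesc.Sh X) : HasGerms (bigP F) := hasGerms_type X F

attribute [local irreducible] gamma mIso

/-- Sections of an inverse image as sections of the big presheaf. -/
def tau {Z X : Scheme.{u}} (g : Z ⟶ X) (F : EtDesc.Sh X) (U : Z.Etale) (x : EtDesc.sect ((EtDesc.pullSh g).obj F) U) :
    (bigP F).obj (op ((Over.map g).obj ((EtFppf.a Z).obj U))) :=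
  (gamma g F).hom.app (op U) x

theorem bijective_tau {Z X : Scheme.{u}} (g : Z ⟶ X) (F : EtDesc.Sh X) (U : Z.Etale) :
    Function.Bijective (tau g F U) := by
  haveI : IsIso ((gamma g F).hom.app (op U)) :=
    inferInstanceAs (IsIso ((sheafToPresheaf _ _ ⋙ (evaluation _ _).obj (op U)).map (gamma g F)))
  exact (isIso_iff_bijective ((gamma g F).hom.app (op U))).1 inferInstance

theorem tau_map {Z X : Scheme.{u}} (g : Z ⟶ X) (F : EtDesc.Sh X) {U V : Z.Etale} (k : V ⟶ U)
    (x : EtDesc.sect ((EtDesc.pullSh g).obj F) U) :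
    tau g F V (((EtDesc.pullSh g).obj F).obj.map k.op x) =
      (bigP F).map ((Over.map g).map ((EtFppf.a Z).map k)).op (tau g F U x) :=
  NatTrans.naturality_apply (gamma g F).hom k.op x

theorem tau_unit {Z X : Scheme.{u}} (g : Z ⟶ X) (F : EtDesc.Sh X) (U : X.Etale) (s : EtDesc.sect F U) :
    tau g F ((EtCoh.bc g).obj U) (((EtDesc.adjSh g).unit.app F).hom.app (op U) s) =
      (bigP F).map ((Over.mapPullbackAdj g).counit.app ((EtFppf.a X).obj U)).op
        (((pAdj (Type (u + 1)) X).unit.app F).hom.app (op U) s) :=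
  ConcreteCategory.congr_hom (gamma_app g F U) s

/-- The comparison of big presheaves along an inverse image. -/
def mu {Z X : Scheme.{u}} (a : Z ⟶ X) (F : EtDesc.Sh X) (W : Over Z)
    (t : (bigP ((EtDesc.pullSh a).obj F)).obj (op W)) : (bigP F).obj (op ((Over.map a).obj W)) :=
  ((mIso (Type (u + 1)) a).inv.app F).hom.app (op W) t

theorem bijective_mu {Z X : Scheme.{u}} (a : Z ⟶ X) (F : EtDesc.Sh X) (W : Over Z) :
    Function.Bijective (mu a F W) := by
  haveI : IsIso (((mIso (Type (u + 1)) a).inv.app F).hom.app (op W)) :=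
    inferInstanceAs (IsIso ((sheafToPresheaf _ _ ⋙ (evaluation _ _).obj (op W)).map ((mIso (Type (u + 1)) a).inv.app F)))
  exact (isIso_iff_bijective (((mIso (Type (u + 1)) a).inv.app F).hom.app (op W))).1 inferInstance

theorem mu_map {Z X : Scheme.{u}} (a : Z ⟶ X) (F : EtDesc.Sh X) {W W' : Over Z} (k : W' ⟶ W)
    (t : (bigP ((EtDesc.pullSh a).obj F)).obj (op W)) :
    mu a F W' ((bigP ((EtDesc.pullSh a).obj F)).map k.op t) = (bigP F).map ((Over.map a).map k).op (mu a F W t) :=
  NatTrans.naturality_apply ((mIso (Type (u + 1)) a).inv.app F).hom k.op t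

unseal gamma in
theorem mu_unit {Z X : Scheme.{u}} (a : Z ⟶ X) (F : EtDesc.Sh X) (U : Z.Etale)
    (w : EtDesc.sect ((EtDesc.pullSh a).obj F) U) :
    mu a F ((EtFppf.a Z).obj U) (((pAdj (Type (u + 1)) Z).unit.app ((EtDesc.pullSh a).obj F)).hom.app (op U) w) =
      tau a F U w := rfl

theorem sheaf_app_map {Z : Scheme.{u}} {G H : EtDesc.Sh Z} (θ : G ⟶ H) {U V : Z.Etale} (k : V ⟶ U)
    (z : EtDesc.sect G U) : θ.hom.app (op V) (G.obj.map k.op z) = H.obj.map k.op (θ.hom.app (op U) z) :=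
  NatTrans.naturality_apply θ.hom k.op z

/-- Composite base change of objects. -/
def compObj {Z S X : Scheme.{u}} (g : Z ⟶ S) (a : S ⟶ X) (W : Over Z) :
    (Over.map (g ≫ a)).obj W ⟶ (Over.map a).obj ((Over.map g).obj W) :=
  Over.homMk (𝟙 W.left) (by
    show 𝟙 W.left ≫ (W.hom ≫ g) ≫ a = W.hom ≫ g ≫ a
    rw [Category.id_comp, Category.assoc])

theorem compObj_natural {Z S X : Scheme.{u}} (g : Z ⟶ S) (a : S ⟶ X) {W W' : Over Z} (k : W' ⟶ W) :
    (Over.map (g ≫ a)).map k ≫ compObj g a W = compObj g a W' ≫ (Over.map a).map ((Over.map g).map k) := by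
  refine Over.OverMorphism.ext ?_
  show k.left ≫ 𝟙 _ = 𝟙 _ ≫ k.left
  simp

/-- Inverse images compose, on sections. -/
theorem tau_pullVia {Z S X : Scheme.{u}} (g : Z ⟶ S) (a : S ⟶ X) (b : Z ⟶ X) (w : g ≫ a = b) (F : EtDesc.Sh X)
    (U : Z.Etale) (x : EtDesc.sect ((EtDesc.pullSh g).obj ((EtDesc.pullSh a).obj F)) U) :
    tau b F U ((EtDesc.pullVia g a b w F).hom.hom.app (op U) x) =
      (bigP F).map ((eqToHom (by rw [w]) : (Over.map b).obj ((EtFppf.a Z).obj U) ⟶
          (Over.map (g ≫ a)).obj ((EtFppf.a Z).obj U)) ≫ compObj g a ((EtFppf.a Z).obj U)).op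
        (mu a F _ (tau g ((EtDesc.pullSh a).obj F) U x)) := by
  subst w
  rw [eqToHom_refl, Category.id_comp]
  let A := Type (u + 1)
  let G := (EtDesc.pullSh g).obj ((EtDesc.pullSh a).obj F)
  let Tg := (pRes A Z).obj ((BigSite.pullBig Scheme.etalePrecoverage (g ≫ a) A).obj ((pPull A X).obj F))
  let L : G ⟶ Tg := (EtDesc.pullVia g a (g ≫ a) rfl F).hom ≫ gamma (g ≫ a) F
  let κ : (BigSite.pullBig Scheme.etalePrecoverage g A).obj ((BigSite.pullBig Scheme.etalePrecoverage a A).obj
      ((pPull A X).obj F)) ⟶ (BigSite.pullBig Scheme.etalePrecoverage (g ≫ a) A).obj ((pPull A X).obj F) :=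
    ObjectProperty.homMk
      { app := fun W => (bigP F).map (compObj g a W.unop).op
        naturality := fun W W' k => by
          show (bigP F).map ((Over.map a).map ((Over.map g).map k.unop)).op ≫ _ =
            _ ≫ (bigP F).map ((Over.map (g ≫ a)).map k.unop).op
          rw [← Functor.map_comp, ← Functor.map_comp, ← op_comp, ← op_comp, compObj_natural] }
  let R : G ⟶ Tg := gamma g ((EtDesc.pullSh a).obj F) ≫
    (pRes A Z).map ((BigSite.pullBig Scheme.etalePrecoverage g A).map ((mIso A a).inv.app F)) ≫ (pRes A Z).map κ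
  suffices h : L = R by exact congrArg (fun k : G ⟶ Tg => k.hom.app (op U) x) h
  apply ((EtDesc.adjSh g).homEquiv _ _).injective
  apply ((EtDesc.adjSh a).homEquiv _ _).injective
  refine Sheaf.hom_ext (NatTrans.ext (funext fun ⟨U⟩ => ?_))
  ext s
  simp only [Adjunction.homEquiv_unit]
  let ρ : (EtCoh.bc (g ≫ a)).obj U ⟶ (EtCoh.bc g).obj ((EtCoh.bc a).obj U) :=
    (MorphismProperty.Over.pullbackComp (P := EtCoh.etaleMP) (Q := ⊤) g a).hom.app U
  let y := ((EtDesc.adjSh g).unit.app ((EtDesc.pullSh a).obj F)).hom.app (op ((EtCoh.bc a).obj U))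
    (((EtDesc.adjSh a).unit.app F).hom.app (op U) s)
  show L.hom.app (op ((EtCoh.bc g).obj ((EtCoh.bc a).obj U))) y = R.hom.app (op ((EtCoh.bc g).obj ((EtCoh.bc a).obj U))) y
  let A₁ := ((EtDesc.adjSh a).comp (EtDesc.adjSh g)).ofNatIsoRight (EtDesc.pushCompSh a g)
  have key := congrArg (fun k => k.hom.app (op U) s)
    (Adjunction.unit_leftAdjointUniq_hom_app A₁ (EtDesc.adjSh (g ≫ a)) F)
  have hk : (EtDesc.pullVia g a (g ≫ a) rfl F).hom.hom.app (op ((EtCoh.bc (g ≫ a)).obj U)) (G.obj.map ρ.op y) =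
      ((EtDesc.adjSh (g ≫ a)).unit.app F).hom.app (op U) s := by
    refine Eq.trans ?_ key
    simp [A₁, EtDesc.pullVia, EtDesc.pullCongrSh, EtDesc.pullCompSh, EtDesc.pushCompSh, Adjunction.ofNatIsoRight, y, ρ]
    exact NatTrans.naturality_apply ((A₁.leftAdjointUniq (EtDesc.adjSh (g ≫ a))).hom.app F).hom ρ.op y
  haveI : IsIso ρ := inferInstanceAs (IsIso ((MorphismProperty.Over.pullbackComp g a).hom.app U))
  have hy : y = G.obj.map (inv ρ).op (G.obj.map ρ.op y) := by
    rw [← FunctorToTypes.map_comp_apply, ← op_comp, IsIso.inv_hom_id, op_id, FunctorToTypes.map_id_apply]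
  have hv : (EtDesc.pullVia g a (g ≫ a) rfl F).hom.hom.app (op ((EtCoh.bc g).obj ((EtCoh.bc a).obj U))) y =
      ((EtDesc.pullSh (g ≫ a)).obj F).obj.map (inv ρ).op (((EtDesc.adjSh (g ≫ a)).unit.app F).hom.app (op U) s) := by
    rw [← hk]
    conv_lhs => rw [hy]
    exact sheaf_app_map (EtDesc.pullVia g a (g ≫ a) rfl F).hom (inv ρ) (G.obj.map ρ.op y)
  have hL : L.hom.app (op ((EtCoh.bc g).obj ((EtCoh.bc a).obj U))) y =
      tau (g ≫ a) F ((EtCoh.bc g).obj ((EtCoh.bc a).obj U))
        ((EtDesc.pullVia g a (g ≫ a) rfl F).hom.hom.app (op ((EtCoh.bc g).obj ((EtCoh.bc a).obj U))) y) := rfl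
  rw [hL, hv, tau_map, tau_unit]
  show _ = (bigP F).map (compObj g a _).op (mu a F _ (tau g ((EtDesc.pullSh a).obj F) _ y))
  rw [tau_unit]
  refine Eq.trans ?_ (congrArg ((bigP F).map (compObj g a _).op) ((mu_map a F _ _).trans (congrArg _
    ((mu_unit a F _ _).trans (tau_unit a F U s)))).symm)
  refine ((map_comp_apply' (P := bigP F) _ _ _).symm.trans ?_).trans
    ((map_comp_apply' (P := bigP F) _ _ _).trans (congrArg _ (map_comp_apply' (P := bigP F) _ _ _)))
  refine congrArg (fun m => (bigP F).map (Quiver.Hom.op m) _) ?_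
  have hρ : (inv ρ).left ≫ pullback.fst U.hom (g ≫ a) =
      pullback.fst (pullback.snd U.hom a) g ≫ pullback.fst U.hom a := by
    have h1 : ρ.left ≫ pullback.fst (pullback.snd U.hom a) g ≫ pullback.fst U.hom a = pullback.fst U.hom (g ≫ a) :=
      MorphismProperty.Over.pullbackComp_left_fst_fst _ _ _
    rw [← h1, ← Category.assoc, ← MorphismProperty.Comma.comp_left, IsIso.inv_hom_id]
    exact Category.id_comp _
  refine Over.OverMorphism.ext ?_
  simp [compObj]
  exact hρ

/-- The canonical morphism to the base. -/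
def toBase {Z X : Scheme.{u}} (g : Z ⟶ X) :
    (Over.map g).obj ((EtFppf.a Z).obj (EtCoh.top Z)) ⟶ (EtFppf.a X).obj (EtCoh.top X) :=
  Over.homMk g (by
    show g ≫ 𝟙 X = 𝟙 Z ≫ g
    simp)

theorem tau_secPull {Z X : Scheme.{u}} (g : Z ⟶ X) (F : EtDesc.Sh X) (s : EtDesc.sect F (EtCoh.top X)) :
    tau g F (EtCoh.top Z) (EtDesc.secPull g F s) =
      (bigP F).map (toBase g).op (((pAdj (Type (u + 1)) X).unit.app F).hom.app (op (EtCoh.top X)) s) := by
  show tau g F (EtCoh.top Z) (((EtDesc.pullSh g).obj F).obj.map _ _) = _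
  rw [tau_map, tau_unit]
  refine (map_comp_apply' (P := bigP F) _ _ _).symm.trans ?_
  refine congrArg (fun m => (bigP F).map (Quiver.Hom.op m) _) ?_
  exact (Over.mkIdTerminal (X := X)).hom_ext _ _

end

end EtProperH0Lib
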