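import Groth.Agent.EtShLib.Compactif
import Groth.Agent.EtShLib.Stalk
import Groth.Agent.EtProperH0Lib.Main

/-!
# Sheaves of sets on the small étale site of a separably closed field
-/

set_option autoImplicit false
set_option linter.style.haveILetI false
set_option linter.unusedSectionVars false
set_option backward.isDefEq.respectTransparency false
set_option backward.isDefEq.respectTransparency.types false
universe u

open CategoryTheory CategoryTheory.Limits AlgebraicGeometry Opposite Groth.Agent.EtShLib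

namespace EtProperH0Lib

variable {k : Type u} [Field k] [IsSepClosed k]

local notation "X" => Spec (CommRingCat.of k)

theorem top_hom_unique {U : (X).Etale} (a b : U ⟶ EtCoh.top (X)) : a = b :=
  (MorphismProperty.Over.mkIdTerminal EtCoh.etaleMP (X)).hom_ext a b

theorem exists_section_at (U : (X).Etale) (x : U.left) :
    ∃ σ : EtCoh.top (X) ⟶ U, σ.left (default : (X : Scheme.{u})) = x := by
  haveI : Etale U.hom := U.prop
  obtain ⟨l, hl, hl'⟩ := Scheme.exists_fac_of_etale_of_isSepClosed U.hom (𝟙 (X)) x (Subsingleton.elim (α := (X : Scheme.{u})) _ _)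
  exact ⟨MorphismProperty.Over.homMk l hl trivial, hl'⟩

theorem exists_section_lift {Y U : (X).Etale} (f : Y ⟶ U) (σ : EtCoh.top (X) ⟶ U) (y : Y.left)
    (hy : f.left y = σ.left (default : (X : Scheme.{u}))) : ∃ ρ : EtCoh.top (X) ⟶ Y, ρ ≫ f = σ := by
  haveI := etale_left f
  obtain ⟨z, -, hz⟩ := Scheme.Pullback.exists_preimage_pullback (f := f.left) (g := σ.left) y (default : (X : Scheme.{u})) hy
  haveI : Etale (pullback.snd f.left σ.left) := MorphismProperty.pullback_snd (P := @Etale) _ _ inferInstance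
  obtain ⟨l, hl, -⟩ := Scheme.exists_fac_of_etale_of_isSepClosed (pullback.snd f.left σ.left) (𝟙 (X)) z
    (Subsingleton.elim (α := (X : Scheme.{u})) _ _)
  have h1 : (l ≫ pullback.fst f.left σ.left) ≫ f.left = σ.left := by
    rw [Category.assoc, pullback.condition, reassoc_of% hl]
  refine ⟨MorphismProperty.Over.homMk (l ≫ pullback.fst f.left σ.left) ?_ trivial, MorphismProperty.Over.Hom.ext h1⟩
  rw [← MorphismProperty.Over.w f, ← Category.assoc, h1]
  exact MorphismProperty.Over.w σ

theorem sections_mem (U : (X).Etale) :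
    Sieve.ofArrows (fun _ : (EtCoh.top (X) ⟶ U) => EtCoh.top (X)) (fun σ => σ) ∈ (X).smallEtaleTopology U := by
  rw [show (X).smallEtaleTopology = ((X).smallPretopology (P := EtCoh.etaleMP) (Q := EtCoh.etaleMP)).toGrothendieck
    from Scheme.smallGrothendieckTopology_eq_toGrothendieck_smallPretopology _ le_rfl]
  refine (Scheme.mem_toGrothendieck_smallPretopology U _).2 fun x => ?_
  obtain ⟨σ, hσ⟩ := exists_section_at U x
  exact ⟨_, σ, (default : (X : Scheme.{u})), Sieve.ofArrows_mk _ _ σ, etale_left σ, hσ⟩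

theorem ext_sections (F : EtDesc.Sh (X)) {U : (X).Etale} (s t : F.obj.obj (op U))
    (h : ∀ σ : EtCoh.top (X) ⟶ U, F.obj.map σ.op s = F.obj.map σ.op t) : s = t := by
  refine ((Presieve.isSheafFor_iff_generate _).2
    ((isSheaf_iff_isSheaf_of_type _ _).1 F.property _ (sections_mem U))).isSeparatedFor.ext ?_
  rintro _ _ ⟨σ⟩
  exact h σ

/-- Sections are families of values at the points. -/
theorem bijective_sections (F : EtDesc.Sh (X)) (U : (X).Etale) :
    Function.Bijective fun (s : F.obj.obj (op U)) (σ : EtCoh.top (X) ⟶ U) => F.obj.map σ.op s := by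
  refine ⟨fun s t h => ext_sections F s t (congrFun h), fun v => ?_⟩
  have hsh := (Presieve.isSheafFor_arrows_iff _ _).1 ((Presieve.isSheafFor_iff_generate _).2
    ((isSheaf_iff_isSheaf_of_type _ _).1 F.property _ (sections_mem U)))
  obtain ⟨s, hs, -⟩ := hsh v fun σ τ Z gi gj e => by
    obtain rfl := top_hom_unique gi gj
    refine ext_sections F _ _ fun ρ => ?_
    have h1 : ρ ≫ gi = 𝟙 _ := top_hom_unique _ _
    have h2 : σ = τ := by
      rw [← Category.id_comp σ, ← Category.id_comp τ, ← h1, Category.assoc, Category.assoc, e]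
    rw [h2]
  exact ⟨s, funext hs⟩

/-- Evaluation at the final object. -/
noncomputable abbrev evTop (k : Type u) [Field k] : EtDesc.Sh (Spec (CommRingCat.of k)) ⥤ Type (u + 1) :=
  sheafToPresheaf _ _ ⋙ (evaluation _ _).obj (op (EtCoh.top _))

theorem faithful_evTop : (evTop k).Faithful := by
  refine ⟨fun {F G a b} h => Sheaf.hom_ext (NatTrans.ext (funext fun ⟨U⟩ => ?_))⟩
  ext s
  refine ext_sections G _ _ fun σ => ?_
  exact (NatTrans.naturality_apply a.hom σ.op s).symm.trans
    ((ConcreteCategory.congr_hom h _).trans (NatTrans.naturality_apply b.hom σ.op s))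

theorem full_evTop : (evTop k).Full := by
  refine ⟨fun {F G} α => ?_⟩
  choose app happ using fun (U : (X).Etaleᵒᵖ) (s : F.obj.obj U) =>
    (bijective_sections G U.unop).2 fun σ => α (F.obj.map σ.op s)
  have h' : ∀ (U : (X).Etaleᵒᵖ) (s : F.obj.obj U) (σ : EtCoh.top (X) ⟶ U.unop),
      G.obj.map σ.op (app U s) = α (F.obj.map σ.op s) := fun U s σ => congrFun (happ U s) σ
  refine ⟨ObjectProperty.homMk { app := fun U => TypeCat.ofHom (app U), naturality := fun U V g => ?_ }, ?_⟩
  · ext s
    refine ext_sections G _ _ fun σ => ?_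
    show G.obj.map σ.op (app V (F.obj.map g s)) = G.obj.map σ.op (G.obj.map g (app U s))
    rw [h', ← Functor.map_comp_apply, ← Functor.map_comp_apply]
    exact (h' U s (σ ≫ g.unop)).symm
  · ext s
    show app (op (EtCoh.top (X))) s = α s
    have := h' (op (EtCoh.top (X))) s (𝟙 _)
    rwa [op_id, G.obj.map_id, F.obj.map_id, types_id_apply, types_id_apply] at this

variable (k) in
/-- The presheaf of families of values at the points. -/
noncomputable def pointFam (M : Type (u + 1)) : ((X).Etale)ᵒᵖ ⥤ Type (u + 1) where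
  obj U := (EtCoh.top (X) ⟶ U.unop) → M
  map g := TypeCat.ofHom fun v σ => v (σ ≫ g.unop)
  map_id U := by ext v; simp
  map_comp g g' := by ext v; simp

theorem isSheaf_pointFam (M : Type (u + 1)) : Presieve.IsSheaf (X).smallEtaleTopology (pointFam k M) := by
  intro U S hS x hx
  rw [show (X).smallEtaleTopology = ((X).smallPretopology (P := EtCoh.etaleMP) (Q := EtCoh.etaleMP)).toGrothendieck
    from Scheme.smallGrothendieckTopology_eq_toGrothendieck_smallPretopology _ le_rfl] at hS
  have key : ∀ σ : EtCoh.top (X) ⟶ U, ∃ (Y : (X).Etale) (f : Y ⟶ U) (_ : S f) (ρ : EtCoh.top (X) ⟶ Y),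
      ρ ≫ f = σ := fun σ => by
    obtain ⟨Y, f, y, hf, -, hy⟩ := (Scheme.mem_toGrothendieck_smallPretopology U S).1 hS (σ.left (default : (X : Scheme.{u})))
    exact ⟨Y, f, hf, exists_section_lift f σ y hy⟩
  choose Y f hf ρ hρ using key
  refine ⟨fun σ => x (f σ) (hf σ) (ρ σ), fun Z g hg => funext fun τ => ?_, fun t ht => funext fun σ => ?_⟩
  · show x (f (τ ≫ g)) (hf _) (ρ (τ ≫ g)) = x g hg τ
    have := congrFun (hx (ρ (τ ≫ g)) τ (hf (τ ≫ g)) hg (hρ (τ ≫ g))) (𝟙 _)
    simpa [pointFam] using this
  · show t σ = x (f σ) (hf σ) (ρ σ)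
    rw [← ht (f σ) (hf σ)]
    show t σ = t (ρ σ ≫ f σ)
    rw [hρ]

theorem essSurj_evTop : (evTop k).EssSurj := by
  refine ⟨fun M => ⟨⟨pointFam k M, (isSheaf_iff_isSheaf_of_type _ _).2 (isSheaf_pointFam M)⟩, ⟨Equiv.toIso ?_⟩⟩⟩
  exact { toFun := fun v => v (𝟙 _)
          invFun := fun m _ => m
          left_inv := fun v => funext fun σ => by rw [top_hom_unique σ (𝟙 _)]
          right_inv := fun m => rfl }

variable (k) in
/-- Sheaves of sets on a separably closed field are sets. -/
theorem isEquivalence_evTop : (evTop k).IsEquivalence :=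
  { faithful := faithful_evTop, full := full_evTop, essSurj := essSurj_evTop }

/-- Direct image between separably closed fields. -/
noncomputable def pushEvIso {k' : Type u} [Field k'] (f : Spec (CommRingCat.of k') ⟶ Spec (CommRingCat.of k)) :
    EtDesc.pushSh f ⋙ evTop k ≅ evTop k' :=
  NatIso.ofComponents (fun F => F.obj.mapIso (bcTop f).symm.op) fun {F G} a => (a.hom.naturality _).symm

theorem isEquivalence_pullSh {k' : Type u} [Field k'] [IsSepClosed k']
    (f : Spec (CommRingCat.of k') ⟶ Spec (CommRingCat.of k)) : (EtDesc.pullSh f).IsEquivalence := by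
  haveI := isEquivalence_evTop k
  haveI := isEquivalence_evTop k'
  haveI : (EtDesc.pushSh f ⋙ evTop k).IsEquivalence := Functor.isEquivalence_of_iso (pushEvIso f).symm
  haveI : (EtDesc.pushSh f).IsEquivalence := Functor.isEquivalence_of_comp_right (EtDesc.pushSh f) (evTop k)
  exact (EtDesc.adjSh f).isEquivalence_left_of_isEquivalence_right

end EtProperH0Lib
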