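import Groth.Agent.EtProperH0Lib.StrictSystem
import Groth.Agent.EtProperH0Lib.ShHom
import Mathlib.AlgebraicGeometry.Morphisms.FormallyUnramified

/-!
# Geometric points of affine schemes and their strict localisations
-/

set_option autoImplicit false
set_option linter.style.haveILetI false
set_option backward.isDefEq.respectTransparency false
set_option backward.isDefEq.respectTransparency.types false
universe u v

open CategoryTheory CategoryTheory.Limits AlgebraicGeometry Opposite EtDescentLib AlgSpRegLib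

namespace EtProperH0Lib

noncomputable section

variable {T S : Scheme.{u}}

/-- The strict localisation of an affine scheme over the base. -/
abbrev shObj {A : CommRingCat.{u}} (g : Spec A ⟶ S) (p : Ideal A) [p.IsPrime] : Over S :=
  Over.mk (Spec.map (CommRingCat.ofHom (shι p)) ≫ g)

/-- The morphism from the strict localisation. -/
abbrev shIn {A : CommRingCat.{u}} (g : Spec A ⟶ S) (p : Ideal A) [p.IsPrime] : shObj g p ⟶ Over.mk g :=
  sIn g (Spec.map (CommRingCat.ofHom (shι p)))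

/-- A geometric point of an affine scheme, with given coordinates, lifts to a strict localisation. -/
theorem exists_shPt' {A : CommRingCat.{u}} (g : Spec A ⟶ S) {G : Over S} (b : G ⟶ Over.mk g) {Ω : Type u} [Field Ω]
    [IsAlgClosed Ω] (e : G.left ≅ Spec (CommRingCat.of Ω)) :
    ∃ (p : Ideal A) (_ : p.IsPrime) (φ : ShAt p →+* Ω) (aR : G ⟶ shObj g p),
      RingHom.ker φ = IsLocalRing.maximalIdeal (ShAt p) ∧
      (∀ (B : Type u) [CommRing B] [Algebra A B] [Algebra.Etale A B] (χ : B →+* Ω),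
        χ.comp (algebraMap A B) = φ.comp (shι p) → Set.range χ ⊆ Set.range φ) ∧
      aR.left = e.hom ≫ Spec.map (CommRingCat.ofHom φ) ∧ aR ≫ shIn g p = b := by
  obtain ⟨ε, hε⟩ := Spec.map_surjective (e.inv ≫ b.left)
  let p : Ideal A := RingHom.ker ε.hom
  haveI : p.IsPrime := RingHom.ker_isPrime _
  obtain ⟨φ, hφ, hker, hr⟩ := exists_shPoint p (ε := ε.hom) rfl
  have hφsh : Spec.map (CommRingCat.ofHom φ) ≫ Spec.map (CommRingCat.ofHom (shι p)) = e.inv ≫ b.left := by
    rw [← Spec.map_comp, ← hε, ← CommRingCat.ofHom_comp, hφ]; rfl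
  let aR : G ⟶ shObj g p := Over.homMk (e.hom ≫ Spec.map (CommRingCat.ofHom φ)) (by
    show (e.hom ≫ Spec.map (CommRingCat.ofHom φ)) ≫ Spec.map (CommRingCat.ofHom (shι p)) ≫ g = G.hom
    rw [Category.assoc, reassoc_of% hφsh, e.hom_inv_id_assoc]
    exact Over.w b)
  refine ⟨p, inferInstance, φ, aR, hker, fun B _ _ _ χ hχ => hr B χ (hχ.trans hφ), rfl, Over.OverMorphism.ext ?_⟩
  show (e.hom ≫ Spec.map (CommRingCat.ofHom φ)) ≫ Spec.map (CommRingCat.ofHom (shι p)) = b.left
  rw [Category.assoc, hφsh, e.hom_inv_id_assoc]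

/-- A geometric point of an affine scheme with a compatible point of the strict localisation. -/
theorem exists_shPt {A : CommRingCat.{u}} (g : Spec A ⟶ S) {G : Over S} (b : G ⟶ Over.mk g) (hG : IsGeo G.left) :
    ∃ (Ω : Type u) (_ : Field Ω) (_ : IsAlgClosed Ω) (e : G.left ≅ Spec (CommRingCat.of Ω)) (p : Ideal A)
      (_ : p.IsPrime) (φ : ShAt p →+* Ω) (aR : G ⟶ shObj g p),
      RingHom.ker φ = IsLocalRing.maximalIdeal (ShAt p) ∧
      (∀ (B : Type u) [CommRing B] [Algebra A B] [Algebra.Etale A B] (χ : B →+* Ω),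
        χ.comp (algebraMap A B) = φ.comp (shι p) → Set.range χ ⊆ Set.range φ) ∧
      aR.left = e.hom ≫ Spec.map (CommRingCat.ofHom φ) ∧ aR ≫ shIn g p = b := by
  obtain ⟨Ω, _, _, ⟨e⟩⟩ := id hG
  exact ⟨Ω, inferInstance, inferInstance, e, exists_shPt' g b e⟩

/-- A geometric point of a scheme over an affine scheme, lifted to compatible strict localisations. -/
theorem exists_shLift {A A' : CommRingCat.{u}} (g : Spec A ⟶ S) (g' : Spec A' ⟶ S) (κ : A ⟶ A')
    (hg : Spec.map κ ≫ g = g') {G : Over S} {Ω : Type u} [Field Ω] [IsAlgClosed Ω]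
    (e : G.left ≅ Spec (CommRingCat.of Ω)) {p : Ideal A} [p.IsPrime] (φ : ShAt p →+* Ω)
    (hker : RingHom.ker φ = IsLocalRing.maximalIdeal (ShAt p))
    (aR : G ⟶ shObj g p) (haR : aR.left = e.hom ≫ Spec.map (CommRingCat.ofHom φ))
    (b : G ⟶ Over.mk g') (hb : b ≫ (Over.homMk (Spec.map κ) hg : Over.mk g' ⟶ Over.mk g) = aR ≫ shIn g p) :
    ∃ (p' : Ideal A') (_ : p'.IsPrime) (aR' : G ⟶ shObj g' p') (m : shObj g' p' ⟶ shObj g p),
      (∀ y, aR'.left y = IsLocalRing.closedPoint (ShAt p')) ∧ aR' ≫ shIn g' p' = b ∧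
      m ≫ shIn g p = shIn g' p' ≫ (Over.homMk (Spec.map κ) hg : Over.mk g' ⟶ Over.mk g) ∧ aR' ≫ m = aR := by
  obtain ⟨p', _, φ', aR', hker', hr', haR', haR'in⟩ := exists_shPt' g' b e
  have hκ : φ.comp (shι p) = (φ'.comp (shι p')).comp κ.hom := by
    have h1 : (aR' ≫ shIn g' p') ≫ (Over.homMk (Spec.map κ) hg : Over.mk g' ⟶ Over.mk g) = aR ≫ shIn g p := by
      rw [haR'in, hb]
    have h2 : (e.hom ≫ Spec.map (CommRingCat.ofHom φ')) ≫ Spec.map (CommRingCat.ofHom (shι p')) ≫ Spec.map κ =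
        (e.hom ≫ Spec.map (CommRingCat.ofHom φ)) ≫ Spec.map (CommRingCat.ofHom (shι p)) := by
      rw [← haR, ← haR']
      exact (Category.assoc _ _ _).symm.trans (congrArg CommaMorphism.left h1)
    rw [Category.assoc, Category.assoc, cancel_epi, ← Spec.map_comp, ← Spec.map_comp, ← Spec.map_comp] at h2
    exact congrArg CommRingCat.Hom.hom (Spec.map_injective h2).symm
  obtain ⟨ψ, -, hψ, hφψ⟩ := exists_shHom κ.hom hker hker' hκ hr'
  have hsq : Spec.map (CommRingCat.ofHom ψ) ≫ Spec.map (CommRingCat.ofHom (shι p)) =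
      Spec.map (CommRingCat.ofHom (shι p')) ≫ Spec.map κ := by
    rw [← Spec.map_comp, ← Spec.map_comp, ← CommRingCat.ofHom_comp, hψ]
    rfl
  refine ⟨p', inferInstance, aR', Over.homMk (Spec.map (CommRingCat.ofHom ψ)) ?_, fun y => ?_, haR'in,
    Over.OverMorphism.ext hsq, Over.OverMorphism.ext ?_⟩
  · show Spec.map (CommRingCat.ofHom ψ) ≫ Spec.map (CommRingCat.ofHom (shι p)) ≫ g =
      Spec.map (CommRingCat.ofHom (shι p')) ≫ g'
    rw [reassoc_of% hsq, hg]
  · rw [haR']
    refine PrimeSpectrum.ext ?_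
    show (e.hom y).asIdeal.comap φ' = IsLocalRing.maximalIdeal _
    rw [show (e.hom y).asIdeal = ⊥ from Ideal.eq_bot_of_prime _]
    exact hker'
  · show aR'.left ≫ Spec.map (CommRingCat.ofHom ψ) = aR.left
    rw [haR', haR, Category.assoc, ← Spec.map_comp, ← CommRingCat.ofHom_comp, hφψ]

/-- Compatible strict localisations along a morphism of affine schemes at a geometric point. -/
theorem exists_shPair {A A' : CommRingCat.{u}} (g : Spec A ⟶ S) (g' : Spec A' ⟶ S) (κ : A ⟶ A')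
    (hg : Spec.map κ ≫ g = g') {G : Over S} {Ω : Type u} [Field Ω] [IsAlgClosed Ω]
    (e : G.left ≅ Spec (CommRingCat.of Ω)) {p' : Ideal A'} [p'.IsPrime] (φ' : ShAt p' →+* Ω)
    (hker' : RingHom.ker φ' = IsLocalRing.maximalIdeal (ShAt p'))
    (hr' : ∀ (B : Type u) [CommRing B] [Algebra A' B] [Algebra.Etale A' B] (χ : B →+* Ω),
      χ.comp (algebraMap A' B) = φ'.comp (shι p') → Set.range χ ⊆ Set.range φ')
    (aR' : G ⟶ shObj g' p') (haR' : aR'.left = e.hom ≫ Spec.map (CommRingCat.ofHom φ')) :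
    ∃ (p : Ideal A) (_ : p.IsPrime) (φ : ShAt p →+* Ω) (ψ : ShAt p →+* ShAt p') (m : shObj g' p' ⟶ shObj g p),
      RingHom.ker φ = IsLocalRing.maximalIdeal (ShAt p) ∧ IsLocalHom ψ ∧
      ψ.comp (shι p) = (shι p').comp κ.hom ∧ φ'.comp ψ = φ ∧ m.left = Spec.map (CommRingCat.ofHom ψ) ∧
      m ≫ shIn g p = shIn g' p' ≫ (Over.homMk (Spec.map κ) hg : Over.mk g' ⟶ Over.mk g) := by
  let p : Ideal A := RingHom.ker ((φ'.comp (shι p')).comp κ.hom)
  haveI : p.IsPrime := RingHom.ker_isPrime _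
  obtain ⟨φ, hφ, hker, -⟩ := exists_shPoint p (ε := (φ'.comp (shι p')).comp κ.hom) rfl
  obtain ⟨ψ, hψl, hψ, hφψ⟩ := exists_shHom κ.hom hker hker' hφ hr'
  have hsq : Spec.map (CommRingCat.ofHom ψ) ≫ Spec.map (CommRingCat.ofHom (shι p)) =
      Spec.map (CommRingCat.ofHom (shι p')) ≫ Spec.map κ := by
    rw [← Spec.map_comp, ← Spec.map_comp, ← CommRingCat.ofHom_comp, hψ]
    rfl
  refine ⟨p, inferInstance, φ, ψ, Over.homMk (Spec.map (CommRingCat.ofHom ψ)) ?_, hker, hψl, hψ, hφψ, rfl,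
    Over.OverMorphism.ext hsq⟩
  show Spec.map (CommRingCat.ofHom ψ) ≫ Spec.map (CommRingCat.ofHom (shι p)) ≫ g =
    Spec.map (CommRingCat.ofHom (shι p')) ≫ g'
  rw [reassoc_of% hsq, hg]

/-- Morphisms from a strictly local scheme to an étale scheme agreeing at the closed point are equal. -/
theorem hom_ext_strict {W V : Over S} (h : W ⟶ V) [Etale h.left] [IsAffine W.left] {R : Type u} [CommRing R]
    [IsLocalRing R] {Z : Over S} (e₀ : Z.left ≅ Spec (CommRingCat.of R)) {G : Over S} (a : G ⟶ Z) (y : G.left)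
    (hy : e₀.hom (a.left y) = IsLocalRing.closedPoint R) (u₁ u₂ : Z ⟶ W) (hu : u₁ ≫ h = u₂ ≫ h)
    (ha : a ≫ u₁ = a ≫ u₂) : u₁ = u₂ := by
  let q : Z.left ⟶ pullback h.left h.left := pullback.lift u₁.left u₂.left (congrArg CommaMorphism.left hu)
  let Δ := pullback.diagonal h.left
  haveI : IsOpenImmersion Δ := inferInstance
  have hmem : a.left y ∈ q ⁻¹' Set.range Δ := ⟨(a ≫ u₁).left y, by
    show ((a ≫ u₁).left ≫ Δ) y = (a.left ≫ q) y
    rw [show a.left ≫ q = (a ≫ u₁).left ≫ Δ from pullback.hom_ext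
      (by rw [Category.assoc, pullback.lift_fst, Category.assoc, pullback.diagonal_fst, Category.comp_id]; rfl)
      (by rw [Category.assoc, pullback.lift_snd, Category.assoc, pullback.diagonal_snd, Category.comp_id]
          exact congrArg CommaMorphism.left ha.symm)]⟩
  have hO : IsOpen (e₀.inv ⁻¹' (q ⁻¹' Set.range Δ)) :=
    ((Δ.isOpenEmbedding.isOpen_range).preimage q.continuous).preimage e₀.inv.continuous
  have hcl : IsLocalRing.closedPoint R ∈ e₀.inv ⁻¹' (q ⁻¹' Set.range Δ) := by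
    rw [← hy, Set.mem_preimage, ← Scheme.Hom.comp_apply, e₀.hom_inv_id]
    exact hmem
  have huniv : ∀ z : Z.left, q z ∈ Set.range Δ := fun z => by
    have := (IsLocalRing.specializes_closedPoint (e₀.hom z)).mem_open hO hcl
    show z ∈ q ⁻¹' Set.range Δ
    rwa [Set.mem_preimage, ← Scheme.Hom.comp_apply, e₀.hom_inv_id] at this
  obtain hl := IsOpenImmersion.lift_fac Δ q (by rintro _ ⟨z, rfl⟩; exact huniv z)
  refine Over.OverMorphism.ext ?_
  have h1 := congrArg (· ≫ pullback.fst h.left h.left) hl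
  have h2 := congrArg (· ≫ pullback.snd h.left h.left) hl
  simp only [Δ, q, Category.assoc, pullback.diagonal_fst, pullback.diagonal_snd, pullback.lift_fst,
    pullback.lift_snd, Category.comp_id] at h1 h2
  exact h1.symm.trans h2

end

end EtProperH0Lib
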