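import Groth.Agent.EtProperH0Lib.DescMono
import Groth.Agent.EtProperH0Lib.Henselian
import Groth.Agent.EtShLib.Point
import Groth.Prelude.Def_Hens2
import Mathlib.AlgebraicGeometry.Morphisms.FlatMono

/-!
# Stalks of étale sheaves of sets as sections over strictly henselian local schemes
-/

set_option autoImplicit false
set_option linter.style.haveILetI false
set_option linter.unusedSectionVars false
set_option backward.isDefEq.respectTransparency false
set_option backward.isDefEq.respectTransparency.types false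
universe u

open CategoryTheory CategoryTheory.Limits AlgebraicGeometry Opposite EtDescentLib Groth.Agent.EtShLib

namespace EtProperH0Lib

noncomputable section

attribute [local irreducible] gamma mIso

/-- Lifts to étale schemes of separably closed points are detected after extension of the field. -/
theorem exists_lift_of_sepClosed {k : Type u} [Field k] [IsSepClosed k] {W T Z : Scheme.{u}} (h : W ⟶ T) [Etale h]
    (v : Spec (CommRingCat.of k) ⟶ T) (π : Z ⟶ Spec (CommRingCat.of k)) [Subsingleton Z] [Nonempty Z]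
    (b : Z ⟶ W) (hb : b ≫ h = π ≫ v) :
    ∃ u : Spec (CommRingCat.of k) ⟶ W, u ≫ h = v ∧ π ≫ u = b := by
  let q := pullback.snd h v
  haveI : Etale q := inferInstance
  let c : Z ⟶ pullback h v := pullback.lift b π hb
  obtain ⟨z⟩ := ‹Nonempty Z›
  obtain ⟨l, hl, hlz⟩ := Scheme.exists_fac_of_etale_of_isSepClosed q (𝟙 (Spec (CommRingCat.of k))) (c z)
    (Subsingleton.elim _ _)
  haveI : Etale (l ≫ q) := by rw [hl]; infer_instance
  haveI : Etale l := Etale.of_comp l q
  haveI : IsSplitMono l := ⟨⟨⟨q, hl⟩⟩⟩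
  haveI : IsOpenImmersion l := IsOpenImmersion.of_flat_of_mono l
  let g := IsOpenImmersion.lift l c (by
    rintro _ ⟨z', rfl⟩
    exact ⟨default, by rw [Subsingleton.elim z' z]; exact hlz⟩)
  have hg : g ≫ l = c := IsOpenImmersion.lift_fac _ _ _
  have hgπ : g = π := by
    calc g = g ≫ l ≫ q := by rw [hl, Category.comp_id]
      _ = c ≫ q := by rw [← Category.assoc, hg]
      _ = π := pullback.lift_snd _ _ _
  refine ⟨l ≫ pullback.fst h v, ?_, ?_⟩
  · rw [Category.assoc, pullback.condition, ← Category.assoc, hl, Category.id_comp]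
  · rw [← hgπ, ← Category.assoc, hg, pullback.lift_fst]

variable {X : Scheme.{u}} {k : Type u} [Field k] [IsSepClosed k]

/-- The value of the big presheaf at a separably closed point is the stalk. -/
def fibToBig (ξ : Spec (CommRingCat.of k) ⟶ X) (F : EtDesc.Sh X) :
    (Scheme.pointSmallEtale ξ).presheafFiber.obj F.obj ⟶ (bigP F).obj (op (Over.mk ξ)) :=
  (Scheme.pointSmallEtale ξ).presheafFiberDesc
    (fun U x => TypeCat.ofHom fun s =>
      (bigP F).map (show Over.mk ξ ⟶ (EtFppf.a X).obj U from x).op (sb F U s))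
    (fun U V j x => by
      ext s
      show (bigP F).map _ (sb F U (F.obj.map j.op s)) = (bigP F).map _ (sb F V s)
      rw [sb_map, ← map_comp_apply']
      rfl)

theorem fibToBig_germ (ξ : Spec (CommRingCat.of k) ⟶ X) (F : EtDesc.Sh X) (U : X.Etale)
    (x : (Scheme.pointSmallEtale ξ).fiber.obj U) (s : EtDesc.sect F U) :
    fibToBig ξ F ((Scheme.pointSmallEtale ξ).toPresheafFiber U x F.obj s) =
      (bigP F).map (show Over.mk ξ ⟶ (EtFppf.a X).obj U from x).op (sb F U s) := by
  refine (ConcreteCategory.comp_apply ((Scheme.pointSmallEtale ξ).toPresheafFiber U x F.obj) (fibToBig ξ F) s).symm.trans ?_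
  simp [fibToBig]

theorem bijective_fibToBig (ξ : Spec (CommRingCat.of k) ⟶ X) (F : EtDesc.Sh X) :
    Function.Bijective (fibToBig ξ F) := by
  haveI : PreservesFilteredColimitsOfSize.{u, u} (forget (Type (u + 1))) :=
    preservesFilteredColimitsOfSize_of_univLE.{u + 1, u + 1} _
  let K := AlgebraicClosure k
  let j := Spec.map (CommRingCat.ofHom (algebraMap k K))
  let π := pullback.fst (𝟙 (Spec (CommRingCat.of k))) j
  let G : Over X := Over.mk (π ≫ ξ)
  let e : G ⟶ Over.mk ξ := Over.homMk π
  have hG : IsGeo G.left := ⟨K, inferInstance, inferInstance, ⟨asIso (pullback.snd (𝟙 _) j)⟩⟩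
  haveI : Subsingleton ↥G.left := ⟨hG.subsingleton⟩
  haveI : Nonempty ↥G.left := hG.nonempty
  haveI : Subsingleton ↥(pullback (𝟙 (Spec (CommRingCat.of k))) j) := ‹Subsingleton ↥G.left›
  haveI : Nonempty ↥(pullback (𝟙 (Spec (CommRingCat.of k))) j) := ‹Nonempty ↥G.left›
  have he : Function.Bijective ((bigP F).map e.op) :=
    bijective_sepClosed_ext (hasGerms_bigP F) ξ (𝟙 (Spec (CommRingCat.of k)))
  constructor
  · intro p₁ p₂ hp
    obtain ⟨U, x, s₁, s₂, rfl, rfl⟩ := (Scheme.pointSmallEtale ξ).toPresheafFiber_jointly_surjective₂ (P := F.obj) p₁ p₂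
    rw [fibToBig_germ, fibToBig_germ] at hp
    let x' : Over.mk ξ ⟶ (EtFppf.a X).obj U := x
    have hp' : (bigP F).map (e ≫ x').op (sb F U s₁) = (bigP F).map (e ≫ x').op (sb F U s₂) := by
      rw [map_comp_apply', map_comp_apply']
      exact congrArg _ hp
    obtain ⟨W, h, hh, b, hb, heq⟩ := (hasGerms_bigP F).exists_eq (e ≫ x') hG _ _ hp'
    haveI : Etale h.left := hh
    haveI : Etale U.hom := U.prop
    haveI : Etale W.hom := by
      rw [← Over.w h]
      exact inferInstanceAs (Etale (h.left ≫ U.hom))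
    let V : X.Etale := Scheme.Etale.mk W.hom
    let q : V ⟶ U := MorphismProperty.Over.homMk h.left (Over.w h) trivial
    let r : (EtFppf.a X).obj V ⟶ W := Over.homMk (𝟙 W.left) (Category.id_comp _)
    have hq : (EtFppf.a X).map q = r ≫ h := Over.OverMorphism.ext (Category.id_comp _).symm
    obtain ⟨w, hw₁, hw₂⟩ := exists_lift_of_sepClosed h.left x'.left π b.left (congrArg CommaMorphism.left hb)
    let y : Over.mk ξ ⟶ (EtFppf.a X).obj V := Over.homMk w (by
      show w ≫ W.hom = ξ
      rw [← Over.w h, reassoc_of% hw₁]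
      exact Over.w x')
    refine ((Scheme.pointSmallEtale ξ).toPresheafFiber_eq_iff' U x s₁ s₂).2 ⟨V, q, y, ?_, (bijective_sb F V).1 ?_⟩
    · exact Over.OverMorphism.ext hw₁
    · rw [sb_map, sb_map, hq, map_comp_apply', map_comp_apply', heq]
  · intro t
    obtain ⟨U, -, b, s, -, hs⟩ := exists_etale_nbhd F hG (toTop G) ((bigP F).map e.op t)
    haveI : Etale U.hom := U.prop
    obtain ⟨w, hw₁, hw₂⟩ := exists_lift_of_sepClosed U.hom ξ π b.left (Over.w b)
    let y : Over.mk ξ ⟶ (EtFppf.a X).obj U := Over.homMk w hw₁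
    refine ⟨(Scheme.pointSmallEtale ξ).toPresheafFiber U y F.obj s, he.1 ?_⟩
    rw [fibToBig_germ, ← hs, ← map_comp_apply']
    exact congrArg (fun m => (bigP F).map (Quiver.Hom.op m) (sb F U s)) (Over.OverMorphism.ext hw₂)

theorem fibToBig_natural (ξ : Spec (CommRingCat.of k) ⟶ X) {F G : EtDesc.Sh X} (α : F ⟶ G)
    (p : (Scheme.pointSmallEtale ξ).presheafFiber.obj F.obj) :
    fibToBig ξ G ((Scheme.pointSmallEtale ξ).presheafFiber.map α.hom p) =
      (bigMap α).app (op (Over.mk ξ)) (fibToBig ξ F p) := by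
  haveI : PreservesFilteredColimitsOfSize.{u, u} (forget (Type (u + 1))) :=
    preservesFilteredColimitsOfSize_of_univLE.{u + 1, u + 1} _
  obtain ⟨U, x, s, rfl⟩ := (Scheme.pointSmallEtale ξ).toPresheafFiber_jointly_surjective (P := F.obj) p
  rw [fibToBig_germ, bigMap_map, ← sb_app, ← fibToBig_germ]
  exact congrArg (fibToBig ξ G) (ConcreteCategory.congr_hom
    ((Scheme.pointSmallEtale ξ).toPresheafFiber_naturality α.hom U x) s)

variable (R : Type u) [CommRing R] [HenselianLocalRing R]

/-- The closed point, as a morphism over the base. -/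
def closedPtHom (ρ : Spec (CommRingCat.of R) ⟶ X) :
    Over.mk (Spec.map (CommRingCat.ofHom (IsLocalRing.residue R)) ≫ ρ) ⟶
      (Over.map ρ).obj ((EtFppf.a (Spec (CommRingCat.of R))).obj (EtCoh.top (Spec (CommRingCat.of R)))) :=
  Over.homMk (Spec.map (CommRingCat.ofHom (IsLocalRing.residue R))) (by
    show Spec.map (CommRingCat.ofHom (IsLocalRing.residue R)) ≫ 𝟙 _ ≫ ρ = _
    rw [Category.id_comp]
    rfl)

theorem bijective_closedPtHom (ρ : Spec (CommRingCat.of R) ⟶ X) (F : EtDesc.Sh X) :
    Function.Bijective ((bigP F).map (closedPtHom R ρ).op) := by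
  let j := Spec.map (CommRingCat.ofHom (IsLocalRing.residue R))
  let i := pullback.fst (𝟙 (Spec (CommRingCat.of R))) j
  let m : Over.mk (i ≫ ρ) ⟶ Over.mk ρ := Over.homMk i
  have h : Function.Bijective ((bigP F).map m.op) :=
    bijective_closedFibre (hasGerms_bigP F) ρ (𝟙 (Spec (CommRingCat.of R)))
  let e₁ : Over.mk (j ≫ ρ) ⟶ Over.mk (i ≫ ρ) := Over.homMk (pullback.lift j (𝟙 _) (by simp)) (by
    show pullback.lift j (𝟙 _) _ ≫ i ≫ ρ = j ≫ ρ
    rw [pullback.lift_fst_assoc])
  let e₂ : Over.mk ρ ⟶ (Over.map ρ).obj ((EtFppf.a (Spec (CommRingCat.of R))).obj (EtCoh.top (Spec (CommRingCat.of R)))) :=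
    Over.homMk (𝟙 _) (by
      show 𝟙 _ ≫ 𝟙 _ ≫ ρ = ρ
      rw [Category.id_comp, Category.id_comp])
  haveI : IsIso e₁ := by
    haveI : IsIso ((Over.forget X).map e₁) := by
      have he : pullback.lift j (𝟙 _) (by simp) = inv (pullback.snd (𝟙 (Spec (CommRingCat.of R))) j) :=
        IsIso.eq_inv_of_inv_hom_id (pullback.lift_snd _ _ _)
      show IsIso (pullback.lift j (𝟙 _) _)
      rw [he]
      infer_instance
    exact isIso_of_reflects_iso _ (Over.forget X)
  haveI : IsIso e₂ := by
    haveI : IsIso ((Over.forget X).map e₂) := inferInstanceAs (IsIso (𝟙 _))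
    exact isIso_of_reflects_iso _ (Over.forget X)
  have hc : closedPtHom R ρ = e₁ ≫ m ≫ e₂ := by
    refine Over.OverMorphism.ext ?_
    show j = pullback.lift j (𝟙 _) _ ≫ i ≫ 𝟙 _
    rw [show i ≫ 𝟙 _ = i from Category.comp_id i]
    exact (pullback.lift_fst _ _ _).symm
  rw [hc, op_comp, op_comp, Functor.map_comp, Functor.map_comp, types_comp, types_comp]
  exact ((isIso_iff_bijective ((bigP F).map e₁.op)).1 inferInstance).comp
    (h.comp ((isIso_iff_bijective ((bigP F).map e₂.op)).1 inferInstance))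

variable [IsSepClosed (IsLocalRing.ResidueField R)]

/-- The stalk at the closed point is the module of global sections of the inverse image. -/
theorem nonempty_fiber_iso_sections (ρ : Spec (CommRingCat.of R) ⟶ X) :
    Nonempty ((Scheme.pointSmallEtale (Spec.map (CommRingCat.ofHom (IsLocalRing.residue R)) ≫ ρ)).sheafFiber
        (A := Type (u + 1)) ≅
      EtDesc.pullSh ρ ⋙ (sheafSections (Spec (CommRingCat.of R)).smallEtaleTopology (Type (u + 1))).obj
          (op (EtCoh.top (Spec (CommRingCat.of R))))) := by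
  let ξ := Spec.map (CommRingCat.ofHom (IsLocalRing.residue R)) ≫ ρ
  let T := (EtCoh.top (Spec (CommRingCat.of R)))
  let c := fun F : EtDesc.Sh X => (Equiv.ofBijective _ (bijective_closedPtHom R ρ F)).symm
  let d := fun F : EtDesc.Sh X => (Equiv.ofBijective _ (bijective_tau ρ F T)).symm
  let θ := fun F : EtDesc.Sh X => ((Equiv.ofBijective _ (bijective_fibToBig ξ F)).trans (c F)).trans (d F)
  refine ⟨NatIso.ofComponents (fun F => (θ F).toIso) fun {F G} α => ?_⟩
  ext p
  have hθ : ∀ (H : EtDesc.Sh X) q, (bigP H).map (closedPtHom R ρ).op (tau ρ H T (θ H q)) = fibToBig ξ H q := fun H q => by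
    have h1 : tau ρ H T (θ H q) = c H (fibToBig ξ H q) := (Equiv.ofBijective _ (bijective_tau ρ H T)).apply_symm_apply _
    rw [h1]
    exact (Equiv.ofBijective _ (bijective_closedPtHom R ρ H)).apply_symm_apply _
  show θ G ((Scheme.pointSmallEtale ξ).presheafFiber.map α.hom p) =
    ((EtDesc.pullSh ρ).map α).hom.app (op T) (θ F p)
  refine (bijective_tau ρ G T).1 ((bijective_closedPtHom R ρ G).1 ?_)
  rw [hθ, tau_pullMap, ← bigMap_map, hθ, fibToBig_natural]

end

end EtProperH0Lib
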