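import Groth.Agent.EtProperH0Lib.StrictPair
import Groth.Agent.WEtSHLib.Local
import Groth.Agent.S1412
import Groth.Agent.AbsFlat.Basic

/-!
# Strict localisations of étale charts are strict henselizations of the local rings of the scheme
-/

set_option autoImplicit false
set_option linter.style.haveILetI false
set_option backward.isDefEq.respectTransparency false
set_option backward.isDefEq.respectTransparency.types false
universe u

open CategoryTheory CategoryTheory.Limits AlgebraicGeometry Opposite AlgSpRegLib

namespace EtProperH0Lib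

theorem comap_shι {A : CommRingCat.{u}} (p : Ideal A) [p.IsPrime] :
    (IsLocalRing.maximalIdeal (ShAt p)).comap (shι p) = p := by
  show (IsLocalRing.maximalIdeal (ShAt p)).comap
    ((algebraMap (Localization.AtPrime p) (ShAt p)).comp (algebraMap A (Localization.AtPrime p))) = p
  rw [← Ideal.comap_comap, IsLocalRing.maximalIdeal_comap (algebraMap (Localization.AtPrime p) (ShAt p))]
  exact IsLocalization.AtPrime.comap_maximalIdeal (Localization.AtPrime p) p

theorem weaklyEtale_of_bijective (B B' : Type u) [CommRing B] [CommRing B'] [Algebra B B']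
    (h : Function.Bijective (algebraMap B B')) : Algebra.WeaklyEtale B B' :=
  haveI : Algebra.Etale B B' := Algebra.Etale.of_equiv (AlgEquiv.ofBijective (Algebra.ofId B B') h)
  inferInstance

/-- The strict localisation at a point of an étale chart, as an algebra over the local ring of the scheme. -/
theorem exists_shStalk {X : Scheme.{u}} {A : CommRingCat.{u}} (g : Spec A ⟶ X) [Etale g] (p : Ideal A) [p.IsPrime]
    (x : X) (hx : g (⟨p, ‹_›⟩ : PrimeSpectrum A) = x) :
    ∃ (_ : Algebra (X.presheaf.stalk x) (ShAt p)) (_ : IsLocalHom (algebraMap (X.presheaf.stalk x) (ShAt p)))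
      (_ : Algebra.WeaklyEtale (X.presheaf.stalk x) (ShAt p)),
      Hensel.IsStrictHenselization (X.presheaf.stalk x) (ShAt p) ∧
      Spec.map (CommRingCat.ofHom (algebraMap (X.presheaf.stalk x) (ShAt p))) ≫ X.fromSpecStalk x =
        Spec.map (CommRingCat.ofHom (shι p)) ≫ g := by
  subst hx
  let q : Spec A := (⟨p, ‹_›⟩ : PrimeSpectrum A)
  let L := Localization.AtPrime p
  let K := (Spec A).presheaf.stalk q
  let e : K ≅ CommRingCat.of L := Spec.stalkIso _ _
  let sm := g.stalkMap q
  letI algK : Algebra (X.presheaf.stalk (g q)) K := sm.hom.toAlgebra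
  haveI : Algebra.WeaklyEtale (X.presheaf.stalk (g q)) K := by
    obtain ⟨h1, h2⟩ := (Groth.Agent.S1412.result g).1 inferInstance q
    exact { flat := h1, flat_lmul' := h2 }
  letI algKL : Algebra K L := e.hom.hom.toAlgebra
  haveI : Algebra.WeaklyEtale K L :=
    weaklyEtale_of_bijective K L (ConcreteCategory.bijective_of_isIso e.hom)
  letI algL : Algebra (X.presheaf.stalk (g q)) L := (e.hom.hom.comp sm.hom).toAlgebra
  haveI : IsScalarTower (X.presheaf.stalk (g q)) K L := IsScalarTower.of_algebraMap_eq fun _ => rfl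
  haveI : Algebra.WeaklyEtale (X.presheaf.stalk (g q)) L := Algebra.WeaklyEtale.trans (X.presheaf.stalk (g q)) K L
  haveI hl1 : IsLocalHom (algebraMap (X.presheaf.stalk (g q)) L) := ⟨fun z hz => by
    have h1 : IsUnit (sm z) := by
      have h2 : IsUnit (e.inv (e.hom (sm z))) := hz.map e.inv.hom
      rwa [← ConcreteCategory.comp_apply, e.hom_inv_id, ConcreteCategory.id_apply] at h2
    exact (isUnit_map_iff sm.hom z).1 h1⟩
  letI algR : Algebra (X.presheaf.stalk (g q)) (ShAt p) :=
    ((algebraMap L (ShAt p)).comp (e.hom.hom.comp sm.hom)).toAlgebra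
  haveI : IsScalarTower (X.presheaf.stalk (g q)) L (ShAt p) := IsScalarTower.of_algebraMap_eq fun _ => rfl
  haveI hl2 : IsLocalHom (algebraMap (X.presheaf.stalk (g q)) (ShAt p)) := ⟨fun z hz =>
    (isUnit_map_iff (algebraMap (X.presheaf.stalk (g q)) L) z).1 ((isUnit_map_iff (algebraMap L (ShAt p)) _).1 hz)⟩
  haveI hsh : Hensel.IsStrictHenselization L (ShAt p) := inferInstance
  haveI : Algebra.WeaklyEtale L (ShAt p) := Groth.Agent.S0736.result _ _ (Groth.Agent.S12237.result L (ShAt p))
  refine ⟨algR, hl2, Algebra.WeaklyEtale.trans (X.presheaf.stalk (g q)) L (ShAt p),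
    Groth.Agent.WEtSHLib.isStrictHenselization_of_weaklyEtale (X.presheaf.stalk (g q)) L (ShAt p), ?_⟩
  show Spec.map (sm ≫ e.hom ≫ CommRingCat.ofHom (algebraMap L (ShAt p))) ≫ X.fromSpecStalk (g q) = _
  rw [Spec.map_comp, Category.assoc, Scheme.SpecMap_stalkMap_fromSpecStalk, Spec.fromSpecStalk_eq', ← Category.assoc,
    ← Spec.map_comp]
  refine congrArg (fun m => Spec.map m ≫ g) ?_
  ext a
  show algebraMap L (ShAt p) (e.hom (StructureSheaf.toStalk A q a)) = algebraMap L (ShAt p) (algebraMap A L a)
  exact congrArg _ ((StructureSheaf.stalkIso A q).symm.commutes a)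

end EtProperH0Lib
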