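import Groth.Agent.EtProperH0Lib.LimitSec
import Groth.Agent.EtProperH0Lib.ShSystem
import Mathlib.AlgebraicGeometry.Morphisms.QuasiSeparated

/-!
# Sections of direct images on strict localisations
-/

set_option autoImplicit false
set_option linter.style.haveILetI false
set_option linter.unusedSectionVars false
set_option backward.isDefEq.respectTransparency false
set_option backward.isDefEq.respectTransparency.types false
universe u v

open CategoryTheory CategoryTheory.Limits AlgebraicGeometry Opposite EtDescentLib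

namespace EtProperH0Lib

noncomputable section

section General

variable {T : Scheme.{u}} {P : (Over T)ᵒᵖ ⥤ Type v} {I : Type u} [SmallCategory I] [IsCofiltered I]
  (D : I ⥤ Over T) (c : Cone D) (hc : IsLimit ((Over.forget T).mapCone c))
  [∀ {i j : I} (a : i ⟶ j), IsAffineHom (D.map a).left]

include hc in
/-- Sections on a stage which are equal on the limit are equal at a further stage. -/
theorem exists_stage_eq (hP : HasGerms P) {i : I} [CompactSpace (D.obj i).left] (s t : P.obj (op (D.obj i)))
    (h : P.map (c.π.app i).op s = P.map (c.π.app i).op t) :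
    ∃ (k : I) (a : k ⟶ i), P.map (D.map a).op s = P.map (D.map a).op t := by
  let L := eqLocus (D.obj i) s t
  obtain ⟨k, hk⟩ := exists_pull_eq_empty D c hc i (𝟙 (D.obj i).left) Lᶜ (isOpen_eqLocus _ _ _).isClosed_compl
    fun p hp => hp (by
      obtain ⟨G, a, hG, ha⟩ := exists_geo_at c.pt (pullback.fst (c.π.app i).left (𝟙 (D.obj i).left) p)
      obtain ⟨y⟩ := hG.nonempty
      have := hP.mem_eqLocus (a ≫ c.π.app i) hG (s := s) (t := t)
        ((map_comp_apply' _ _ _).trans ((congrArg (P.map a.op) h).trans (map_comp_apply' _ _ _).symm)) y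
      have e : (a ≫ c.π.app i).left y = pullback.snd (c.π.app i).left (𝟙 (D.obj i).left) p := by
        refine (congrArg (c.π.app i).left (ha y)).trans ?_
        rw [← Scheme.Hom.comp_apply, pullback.condition, Category.comp_id]
      rwa [e] at this)
  refine ⟨k.left, k.hom, hP.ext fun G a hG => ?_⟩
  obtain ⟨y⟩ := hG.nonempty
  rw [← map_comp_apply', ← map_comp_apply']
  refine eq_of_mem_eqLocus (z := (a ≫ D.map k.hom).left y) ?_ _ hG fun y' => by rw [hG.subsingleton y' y]
  have e : pullback.snd (D.map k.hom).left (𝟙 (D.obj i).left)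
      (pullback.lift (𝟙 _) (D.map k.hom).left (by simp) (a.left y)) = (a ≫ D.map k.hom).left y := by
    rw [← Scheme.Hom.comp_apply, pullback.lift_snd]
    rfl
  exact e ▸ not_not.1 (hk _)

end General

variable {T S : Scheme.{u}} (f : T ⟶ S) [QuasiCompact f] [QuasiSeparated f] {P : (Over T)ᵒᵖ ⥤ Type v}
  {A : CommRingCat.{u}} (g : Spec A ⟶ S) {R : Type u} [CommRing R] (s : Spec (CommRingCat.of R) ⟶ Spec A)
  {I : Type u} [SmallCategory I] [IsCofiltered I] (DS : I ⥤ Over (Spec A))
  (cπ : (Functor.const I).obj (Over.mk s) ⟶ DS) (hlim : IsLimit ((Over.forget (Spec A)).mapCone ⟨_, cπ⟩))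
  (hDS : ∀ i, IsAffine (DS.obj i).left ∧ Etale (DS.obj i).hom)

/-- The morphism from the strict localisation to the scheme. -/
abbrev sIn : Over.mk (s ≫ g) ⟶ Over.mk g := Over.homMk s rfl

/-- The diagram of base changes. -/
abbrev dT : I ⥤ Over T := (DS ⋙ Over.map g) ⋙ Over.pullback f

/-- The cone of base changes. -/
abbrev cT : Cone (dT f g DS) := (Over.pullback f).mapCone ((Over.map g).mapCone ⟨_, cπ⟩)

include hlim in
theorem nonempty_isLimit_cT : Nonempty (IsLimit ((Over.forget T).mapCone (cT f g s DS cπ))) := by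
  haveI : IsConnected I := IsCofiltered.isConnected I
  have hl₁ : IsLimit ((Over.map g).mapCone ⟨_, cπ⟩ : Cone (DS ⋙ Over.map g)) :=
    isLimitOfReflects (Over.forget S)
      (IsLimit.ofIsoLimit hlim (Cone.ext (Iso.refl _) fun k => (Category.id_comp _).symm))
  exact ⟨isLimitOfPreserves (Over.forget T) (isLimitOfPreserves (Over.pullback f) hl₁)⟩

include hDS in
theorem dT_props : (∀ {k l : I} (m : k ⟶ l), IsAffineHom ((dT f g DS).map m).left) ∧
    (∀ i, CompactSpace ((dT f g DS).obj i).left) ∧ (∀ i, QuasiSeparatedSpace ((dT f g DS).obj i).left) := by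
  haveI : ∀ i, IsAffine (DS.obj i).left := fun i => (hDS i).1
  refine ⟨fun {k l} m => MorphismProperty.overPullbackMap (P := @IsAffineHom) f ((DS ⋙ Over.map g).map m)
    (inferInstanceAs (IsAffineHom (DS.map m).left)), fun i => ?_, fun i => ?_⟩
  · haveI : QuasiCompact (pullback.fst ((DS ⋙ Over.map g).obj i).hom f) :=
      MorphismProperty.pullback_fst (P := @QuasiCompact) _ _ ‹_›
    haveI : CompactSpace ((DS ⋙ Over.map g).obj i).left := inferInstanceAs (CompactSpace (DS.obj i).left)
    exact QuasiCompact.compactSpace_of_compactSpace (pullback.fst ((DS ⋙ Over.map g).obj i).hom f)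
  · haveI : QuasiSeparated (pullback.fst ((DS ⋙ Over.map g).obj i).hom f) :=
      MorphismProperty.pullback_fst (P := @QuasiSeparated) _ _ ‹_›
    haveI : QuasiSeparatedSpace ((DS ⋙ Over.map g).obj i).left :=
      inferInstanceAs (QuasiSeparatedSpace (DS.obj i).left)
    exact quasiSeparatedSpace_of_quasiSeparated (pullback.fst ((DS ⋙ Over.map g).obj i).hom f)

include hlim hDS in
/-- Sections on the strict localisation come from affine étale neighbourhoods. -/
theorem exists_germ_strict (hP : HasGerms P) (y : P.obj (op ((Over.pullback f).obj (Over.mk (s ≫ g))))) :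
    ∃ (W₁ : Over S) (h₁ : W₁ ⟶ Over.mk g) (_ : Etale h₁.left) (_ : IsAffine W₁.left)
      (π : Over.mk (s ≫ g) ⟶ W₁) (t : P.obj (op ((Over.pullback f).obj W₁))),
      π ≫ h₁ = sIn g s ∧ P.map ((Over.pullback f).map π).op t = y := by
  obtain ⟨ha, hb, hq⟩ := dT_props f g DS hDS
  haveI : ∀ {k l : I} (m : k ⟶ l), IsAffineHom ((dT f g DS).map m).left := ha
  haveI := hb
  haveI := hq
  obtain ⟨hl⟩ := nonempty_isLimit_cT f g s DS cπ hlim
  obtain ⟨i, t, ht⟩ := exists_stage_section (dT f g DS) (cT f g s DS cπ) hl hP y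
  exact ⟨(Over.map g).obj (DS.obj i), Over.homMk (DS.obj i).hom rfl, (hDS i).2, (hDS i).1,
    (Over.map g).map (cπ.app i), t, Over.OverMorphism.ext (Over.w (cπ.app i)), ht⟩

include hlim hDS in
/-- Sections equal on the strict localisation are equal on an affine étale neighbourhood. -/
theorem exists_eq_strict (hP : HasGerms P) (t₁ t₂ : P.obj (op ((Over.pullback f).obj (Over.mk g))))
    (h : P.map ((Over.pullback f).map (sIn g s)).op t₁ = P.map ((Over.pullback f).map (sIn g s)).op t₂) :
    ∃ (W₁ : Over S) (h₁ : W₁ ⟶ Over.mk g) (_ : Etale h₁.left) (_ : IsAffine W₁.left)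
      (π : Over.mk (s ≫ g) ⟶ W₁), π ≫ h₁ = sIn g s ∧
      P.map ((Over.pullback f).map h₁).op t₁ = P.map ((Over.pullback f).map h₁).op t₂ := by
  obtain ⟨ha, hb, -⟩ := dT_props f g DS hDS
  haveI : ∀ {k l : I} (m : k ⟶ l), IsAffineHom ((dT f g DS).map m).left := ha
  haveI := hb
  obtain ⟨hl⟩ := nonempty_isLimit_cT f g s DS cπ hlim
  obtain ⟨i⟩ := IsCofiltered.nonempty (C := I)
  let e : ∀ k, (Over.map g).obj (DS.obj k) ⟶ Over.mk g := fun k => Over.homMk (DS.obj k).hom rfl
  have he : ∀ {k l : I} (a : k ⟶ l), (Over.map g).map (DS.map a) ≫ e l = e k := fun a =>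
    Over.OverMorphism.ext (Over.w (DS.map a))
  have hπ : ∀ k, (Over.map g).map (cπ.app k) ≫ e k = sIn g s := fun k => Over.OverMorphism.ext (Over.w (cπ.app k))
  have h' : P.map ((cT f g s DS cπ).π.app i).op (P.map ((Over.pullback f).map (e i)).op t₁) =
      P.map ((cT f g s DS cπ).π.app i).op (P.map ((Over.pullback f).map (e i)).op t₂) := by
    refine (map_comp_apply' _ _ _).symm.trans (Eq.trans ?_ (map_comp_apply' _ _ _))
    rw [show (cT f g s DS cπ).π.app i ≫ (Over.pullback f).map (e i) = (Over.pullback f).map (sIn g s) from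
      ((Over.pullback f).map_comp _ _).symm.trans (congrArg (Over.pullback f).map (hπ i))]
    exact h
  obtain ⟨k, a, hk⟩ := exists_stage_eq (dT f g DS) (cT f g s DS cπ) hl hP _ _ h'
  refine ⟨(Over.map g).obj (DS.obj k), e k, (hDS k).2, (hDS k).1, (Over.map g).map (cπ.app k), hπ k, ?_⟩
  have h1 : (dT f g DS).map a ≫ (Over.pullback f).map (e i) = (Over.pullback f).map (e k) :=
    ((Over.pullback f).map_comp _ _).symm.trans (congrArg (Over.pullback f).map (he a))
  rw [← h1]
  exact ((map_comp_apply' _ _ _).trans hk).trans (map_comp_apply' _ _ _).symm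

end

end EtProperH0Lib
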