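import Groth.Agent.EtProperH0Lib.DiscreteBase
import Groth.Agent.EtProperH0Lib.ZeroAcycConn
import Groth.Agent.EtProperH0Lib.StrictMain
import Groth.Agent.EtProperH0Lib.Field
import Groth.Agent.EtProperH0Lib.ShIdent
import Groth.Agent.HensFormalLib.Apps
import Mathlib.RingTheory.IntegralClosure.IntegrallyClosed
import Mathlib.RingTheory.Localization.BaseChange
import Mathlib.AlgebraicGeometry.Morphisms.UniversallyOpen

/-!
# Universally locally 0-acyclic morphisms: strict localisations are submersive with connected fibres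
-/

set_option autoImplicit false
set_option linter.style.haveILetI false
set_option linter.unusedSectionVars false
set_option backward.isDefEq.respectTransparency false
set_option backward.isDefEq.respectTransparency.types false
universe u

open CategoryTheory CategoryTheory.Limits AlgebraicGeometry IsLocalRing TensorProduct AlgSpRegLib

namespace EtProperH0Lib

/-- Universal local 0-acyclicity is stable under base change. -/
theorem isULocZeroAcyclic_of_isPullback {X Y X₁ Y₁ : Scheme.{u}} {g : X ⟶ Y} (hg : EtAcyc.IsULocZeroAcyclic g)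
    {g₁ : X₁ ⟶ Y₁} {b' : X₁ ⟶ X} {b : Y₁ ⟶ Y} (H : IsPullback b' g₁ g b) : EtAcyc.IsULocZeroAcyclic g₁ :=
  fun _ _ g₂ c' c H' => hg g₂ (c' ≫ b') (c ≫ b) (H'.paste_horiz H)

/-- A pullback square stays one after composing with a monomorphism. -/
theorem isPullback_comp_mono {C : Type*} [Category C] {P X Y W Z : C} {p : P ⟶ X} {q : P ⟶ Y} {f : X ⟶ W} {g : Y ⟶ W}
    (h : IsPullback p q f g) (i : W ⟶ Z) [Mono i] : IsPullback p q (f ≫ i) (g ≫ i) :=
  IsPullback.of_isLimit (PullbackCone.isLimitOfCompMono f g i h.cone h.isLimit)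

/-- The affine chart of a base change to an affine scheme. -/
theorem exists_affine_chart {X Y : Scheme.{u}} (g : X ⟶ Y) {U : Y.Opens} (hU : IsAffineOpen U) {V : X.Opens}
    (hV : IsAffineOpen V) (hVU : V ≤ g ⁻¹ᵁ U) (R : Type u) [CommRing R] [Algebra Γ(Y, U) R] :
    letI := (g.appLE U V hVU).hom.toAlgebra
    ∃ (j : Spec (CommRingCat.of (Γ(X, V) ⊗[Γ(Y, U)] R)) ⟶
        pullback g (Spec.map (CommRingCat.ofHom (algebraMap Γ(Y, U) R)) ≫ hU.fromSpec)),
      IsOpenImmersion j ∧
      j ≫ pullback.fst _ _ = Spec.map (CommRingCat.ofHom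
        (Algebra.TensorProduct.includeLeftRingHom : Γ(X, V) →+* Γ(X, V) ⊗[Γ(Y, U)] R)) ≫ hV.fromSpec ∧
      j ≫ pullback.snd _ _ = Spec.map (CommRingCat.ofHom
        (Algebra.TensorProduct.includeRight : R →ₐ[Γ(Y, U)] Γ(X, V) ⊗[Γ(Y, U)] R).toRingHom) := by
  letI := (g.appLE U V hVU).hom.toAlgebra
  have sq := isPullback_comp_mono
    (isPullback_SpecMap_of_isPushout _ _ _ _ (CommRingCat.isPushout_tensorProduct Γ(Y, U) Γ(X, V) R)) hU.fromSpec
  have hVg : Spec.map (CommRingCat.ofHom (algebraMap Γ(Y, U) Γ(X, V))) ≫ hU.fromSpec = hV.fromSpec ≫ g :=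
    hU.SpecMap_appLE_fromSpec g hV hVU
  rw [hVg] at sq
  let t := Spec.map (CommRingCat.ofHom (algebraMap Γ(Y, U) R)) ≫ hU.fromSpec
  let j := pullback.lift (f := g) (g := t) _ _ (show (_ ≫ hV.fromSpec) ≫ g = _ ≫ t by
    rw [Category.assoc]; exact sq.w)
  have sq' : IsPullback (Spec.map (CommRingCat.ofHom
        (Algebra.TensorProduct.includeLeftRingHom : Γ(X, V) →+* Γ(X, V) ⊗[Γ(Y, U)] R))) j hV.fromSpec
      (pullback.fst g t) :=
    IsPullback.of_bot (by rw [pullback.lift_snd]; exact sq) (pullback.lift_fst _ _ _).symm (IsPullback.of_hasPullback g t)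
  exact ⟨j, MorphismProperty.of_isPullback (P := @IsOpenImmersion) sq' inferInstance, pullback.lift_fst _ _ _,
    pullback.lift_snd _ _ _⟩

/-- Connected fibres at all basic opens of a domain give a connected generic fibre. -/
theorem connectedSpace_generic (A T K : Type u) [CommRing A] [Field K] [Algebra A K] [IsDomain A] [IsFractionRing A K] [CommRing T] [Algebra A T]
    (h : ∀ b : A, b ≠ 0 → ConnectedSpace (PrimeSpectrum (T ⊗[A] Localization.Away b))) :
    ConnectedSpace (PrimeSpectrum (T ⊗[A] K)) := by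
  let M := Algebra.algebraMapSubmonoid T (nonZeroDivisors A)
  refine Groth.Agent.SchFinLib.connectedSpace_iff_idempotent.2 ⟨?_, fun w hw => ?_⟩
  · refine nontrivial_of_ne (0 : T ⊗[A] K) 1 fun h01 => ?_
    have h1 : algebraMap T (T ⊗[A] K) 1 = algebraMap T (T ⊗[A] K) 0 := by
      rw [map_one, map_zero, h01]
    obtain ⟨⟨_, b, hb, rfl⟩, hc⟩ := (IsLocalization.eq_iff_exists M (T ⊗[A] K)).1 h1
    haveI := h b (nonZeroDivisors.ne_zero hb)
    have hu : IsUnit (algebraMap T (T ⊗[A] Localization.Away b) (algebraMap A T b)) :=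
      IsLocalization.map_units (T ⊗[A] Localization.Away b)
        (⟨algebraMap A T b, b, Submonoid.mem_powers b, rfl⟩ : Algebra.algebraMapSubmonoid T (Submonoid.powers b))
    simp only [mul_one, mul_zero] at hc
    rw [hc, map_zero] at hu
    haveI : Subsingleton (T ⊗[A] Localization.Away b) := subsingleton_of_zero_eq_one (isUnit_zero_iff.1 hu)
    exact (IsEmpty.false (Classical.arbitrary (PrimeSpectrum (T ⊗[A] Localization.Away b))))
  · obtain ⟨x, ⟨_, s, hs, rfl⟩, rfl⟩ := IsLocalization.exists_mk'_eq M w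
    have hw' := hw.eq
    rw [← IsLocalization.mk'_mul] at hw'
    obtain ⟨⟨_, t, ht, rfl⟩, hc⟩ := IsLocalization.eq.1 hw'
    simp only [Submonoid.coe_mul] at hc
    let b := s * t
    have hb : b ≠ 0 := mul_ne_zero (nonZeroDivisors.ne_zero hs) (nonZeroDivisors.ne_zero ht)
    haveI := h b hb
    let L := T ⊗[A] Localization.Away b
    let Mb := Algebra.algebraMapSubmonoid T (Submonoid.powers b)
    let z : L := IsLocalization.mk' L (x * algebraMap A T t)
      (⟨algebraMap A T b, b, Submonoid.mem_powers b, rfl⟩ : Mb)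
    have hz : IsIdempotentElem z := by
      show z * z = z
      rw [← IsLocalization.mk'_mul]
      refine IsLocalization.mk'_eq_of_eq ?_
      simp only [Submonoid.coe_mul, b, map_mul]
      linear_combination (-(algebraMap A T t) ^ 2) * hc
    have hle : ∀ y : Mb, IsUnit (algebraMap T (T ⊗[A] K) y) := by
      rintro ⟨_, c, hc', rfl⟩
      obtain ⟨n, rfl⟩ := hc'
      exact IsLocalization.map_units (T ⊗[A] K)
        (⟨algebraMap A T (b ^ n), b ^ n, mem_nonZeroDivisors_of_ne_zero (pow_ne_zero n hb), rfl⟩ : M)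
    let φ : L →+* T ⊗[A] K := IsLocalization.lift hle
    have hφ : φ z = IsLocalization.mk' (T ⊗[A] K) x
        (⟨algebraMap A T s, s, hs, rfl⟩ : M) := by
      rw [IsLocalization.lift_mk'_spec]
      show algebraMap T _ (x * algebraMap A T t) = algebraMap T _ (algebraMap A T (s * t)) * _
      have h1 := IsLocalization.mk'_spec' (T ⊗[A] K) x (⟨algebraMap A T s, s, hs, rfl⟩ : M)
      rw [map_mul, map_mul, map_mul, mul_right_comm, h1]
    rcases (Groth.Agent.SchFinLib.connectedSpace_iff_idempotent.1 ‹_›).2 z hz with h0 | h1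
    · left; rw [← hφ, h0, map_zero]
    · right; rw [← hφ, h1, map_one]

/-- A base change of a strictly henselian local ring along an integral extension with purely inseparable residue
extension is strictly henselian. -/
theorem strictHenselian_baseChange {RY RX A T : Type u} [CommRing RY] [HenselianLocalRing RY]
    [IsSepClosed (ResidueField RY)] [CommRing RX] [HenselianLocalRing RX] [IsSepClosed (ResidueField RX)]
    [CommRing A] [IsLocalRing A] [Algebra RY A] [Algebra.IsIntegral RY A] [IsLocalHom (algebraMap RY A)]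
    [CommRing T] [Algebra RX T] [hint : Algebra.IsIntegral RX T]
    (ψ : RY →+* RX) [IsLocalHom ψ] (a : A →+* T) (iX : RX →+* T)
    (hT : IsPushout (CommRingCat.ofHom (algebraMap RY A)) (CommRingCat.ofHom ψ)
      (CommRingCat.ofHom a) (CommRingCat.ofHom iX)) (hiX : algebraMap RX T = iX := by rfl) :
    ∃ (_ : IsLocalRing T) (_ : HenselianLocalRing T) (_ : IsLocalHom a), IsSepClosed (ResidueField T) := by
  haveI : IsPurelyInseparable (ResidueField RY) (ResidueField A) := (HensFormalLib.sepClosed_residue RY A).2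
  subst hiX
  let Ω' := AlgebraicClosure (ResidueField RX)
  let f₀ : RX →+* Ω' := (algebraMap (ResidueField RX) Ω').comp (residue RX)
  have hkerA : ∀ (F : Type u) [Field F] (φ : A →+* F), RingHom.ker (φ.comp (algebraMap RY A)) = maximalIdeal RY →
      RingHom.ker φ = maximalIdeal A := fun F _ φ h => by
    haveI : (RingHom.ker φ).IsPrime := RingHom.ker_isPrime φ
    haveI : ((RingHom.ker φ).comap (algebraMap RY A)).IsMaximal := by
      rw [RingHom.comap_ker, h]
      exact maximalIdeal.isMaximal RY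
    exact IsLocalRing.eq_maximalIdeal (Ideal.isMaximal_of_isIntegral_of_isMaximal_comap (R := RY) _ ‹_›)
  have hf₀ : RingHom.ker (f₀.comp ψ) = maximalIdeal RY := by
    rw [← RingHom.comap_ker, ← IsLocalRing.maximalIdeal_comap ψ]
    congr 1
    ext r
    simp [f₀, RingHom.mem_ker]
  letI : Algebra (ResidueField RY) Ω' :=
    ((algebraMap (ResidueField RX) Ω').comp (ResidueField.map ψ)).toAlgebra
  have hA_eq : ∀ φ φ' : A →+* Ω', φ.comp (algebraMap RY A) = f₀.comp ψ → φ'.comp (algebraMap RY A) = f₀.comp ψ →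
      φ = φ' := by
    intro φ φ' h h'
    have mk : ∀ θ : A →+* Ω', θ.comp (algebraMap RY A) = f₀.comp ψ →
        ∃ θ' : ResidueField A →ₐ[ResidueField RY] Ω', ∀ t, θ' (residue A t) = θ t := by
      intro θ hθ
      have hk : RingHom.ker θ = maximalIdeal A := hkerA Ω' θ (by rw [hθ, hf₀])
      refine ⟨{ Ideal.Quotient.lift (maximalIdeal A) θ (fun t ht => by rwa [← hk, RingHom.mem_ker] at ht) with
        commutes' := ?_ }, fun t => rfl⟩
      intro c
      obtain ⟨r, rfl⟩ := residue_surjective c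
      exact RingHom.congr_fun hθ r
    obtain ⟨θ, hθ⟩ := mk φ h
    obtain ⟨θ', hθ'⟩ := mk φ' h'
    refine RingHom.ext fun t => ?_
    rw [← hθ, ← hθ', Subsingleton.elim θ θ']
  have hpt : ∀ (n : Ideal T) [n.IsMaximal], ∃ φ : T →+* Ω', RingHom.ker φ = n ∧ φ.comp (algebraMap RX T) = f₀ := by
    intro n hn
    haveI := hn
    letI : Field (T ⧸ n) := Ideal.Quotient.field n
    let q : RX →+* T ⧸ n := (Ideal.Quotient.mk n).comp (algebraMap RX T)
    have hq : RingHom.ker q = maximalIdeal RX := by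
      show RingHom.ker ((Ideal.Quotient.mk n).comp (algebraMap RX T)) = _
      rw [← RingHom.comap_ker, Ideal.mk_ker]
      exact IsLocalRing.eq_maximalIdeal (Ideal.isMaximal_comap_of_isIntegral_of_isMaximal (R := RX) n)
    letI : Algebra (ResidueField RX) (T ⧸ n) :=
      (Ideal.Quotient.lift (maximalIdeal RX) q (fun t ht => by rwa [← hq, RingHom.mem_ker] at ht) :
        ResidueField RX →+* T ⧸ n).toAlgebra
    haveI : Algebra.IsIntegral (ResidueField RX) (T ⧸ n) := ⟨fun t => by
      obtain ⟨t, rfl⟩ := Ideal.Quotient.mk_surjective t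
      obtain ⟨P, hP, hP'⟩ := hint.isIntegral t
      refine ⟨P.map (residue RX), hP.map _, ?_⟩
      rw [Polynomial.eval₂_map]
      have h := congrArg (Ideal.Quotient.mk n) hP'
      rw [Polynomial.hom_eval₂, map_zero] at h
      exact h⟩
    let e : T ⧸ n →ₐ[ResidueField RX] Ω' := IsAlgClosed.lift
    refine ⟨e.toRingHom.comp (Ideal.Quotient.mk n), ?_, RingHom.ext fun r => e.commutes (residue RX r)⟩
    rw [RingHom.ker_comp_of_injective _ e.toRingHom.injective, Ideal.mk_ker]
  haveI : Nontrivial T := by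
    let κ : ResidueField A →ₐ[ResidueField RY] Ω' := IsAlgClosed.lift
    have hc : (κ.toRingHom.comp (residue A)).comp (algebraMap RY A) = f₀.comp ψ :=
      RingHom.ext fun r => κ.commutes (residue RY r)
    exact (hT.desc (CommRingCat.ofHom (κ.toRingHom.comp (residue A))) (CommRingCat.ofHom f₀)
      (by rw [← CommRingCat.ofHom_comp, ← CommRingCat.ofHom_comp, hc])).hom.domain_nontrivial
  haveI : IsLocalRing T := by
    obtain ⟨n, hn⟩ := Ideal.exists_maximal T
    refine IsLocalRing.of_unique_max_ideal ⟨n, hn, fun J hJ => ?_⟩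
    obtain ⟨φ, hφ, hφX⟩ := hpt n
    obtain ⟨φ', hφ', hφX'⟩ := hpt J
    have hψT : a.comp (algebraMap RY A) = (algebraMap RX T).comp ψ := congrArg CommRingCat.Hom.hom hT.w
    have hφA : φ.comp a = φ'.comp a := hA_eq _ _
      (by rw [RingHom.comp_assoc, hψT, ← RingHom.comp_assoc, hφX])
      (by rw [RingHom.comp_assoc, hψT, ← RingHom.comp_assoc, hφX'])
    have h1 : CommRingCat.ofHom a ≫ CommRingCat.ofHom φ' = CommRingCat.ofHom a ≫ CommRingCat.ofHom φ :=
      congrArg CommRingCat.ofHom hφA.symm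
    have h2 : CommRingCat.ofHom (algebraMap RX T) ≫ CommRingCat.ofHom φ' = CommRingCat.ofHom (algebraMap RX T) ≫ CommRingCat.ofHom φ :=
      congrArg CommRingCat.ofHom (hφX'.trans hφX.symm)
    rw [← hφ, ← hφ', show φ' = φ from congrArg CommRingCat.Hom.hom (hT.hom_ext h1 h2)]
  haveI : IsLocalHom (algebraMap RX T) := ((IsLocalRing.local_hom_TFAE (algebraMap RX T)).out 0 4).2
    (IsLocalRing.eq_maximalIdeal (Ideal.isMaximal_comap_of_isIntegral_of_isMaximal (R := RX) (maximalIdeal T)))
  haveI : IsLocalHom a := ((IsLocalRing.local_hom_TFAE a).out 0 4).2 (by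
    obtain ⟨φ, hφ, hφX⟩ := hpt (maximalIdeal T)
    rw [← hφ, RingHom.comap_ker]
    refine hkerA Ω' _ ?_
    rw [RingHom.comp_assoc, show a.comp (algebraMap RY A) = (algebraMap RX T).comp ψ from congrArg CommRingCat.Hom.hom hT.w,
      ← RingHom.comp_assoc, hφX, hf₀])
  haveI : HenselianLocalRing T := HenselBranchLib.henselianLocalRing_of_isIntegral' RX T
  haveI : IsSepClosed (ResidueField T) := (HensFormalLib.sepClosed_residue RX T).1
  exact ⟨inferInstance, inferInstance, inferInstance, inferInstance⟩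

/-- Transport of a local homomorphism along isomorphisms. -/
theorem exists_conj {P Q A T B : Type u} [CommRing P] [CommRing Q] [CommRing A] [CommRing T] [CommRing B]
    (eA : P →+* A) (heA : Function.Bijective eA) (eT : Q →+* T) (heT : Function.Bijective eT) (a : A →+* T)
    [IsLocalHom a] (κ : A →+* B) (ιP : A →+* P) (hP : eA.comp ιP = RingHom.id A) (ιQ : B →+* Q) (θ : B →+* T)
    (hQ : eT.comp ιQ = θ) (ha : a = θ.comp κ) :
    ∃ ψ₀ : P →+* Q, IsLocalHom ψ₀ ∧ (∀ r, eT (ψ₀ r) = a (eA r)) ∧ ψ₀.comp ιP = ιQ.comp κ := by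
  let eA' := RingEquiv.ofBijective eA heA
  let eT' := RingEquiv.ofBijective eT heT
  have h : ∀ r, eT (eT'.symm (a (eA r))) = a (eA r) := fun r => eT'.apply_symm_apply _
  refine ⟨eT'.symm.toRingHom.comp (a.comp eA), ⟨fun r hr => ?_⟩, h, RingHom.ext fun r => heT.1 ?_⟩
  · have h0 : IsUnit (eT (eT'.symm (a (eA r)))) := hr.map eT
    rw [h] at h0
    exact (isUnit_map_iff eA' r).1 (IsUnit.of_map a _ h0)
  · show eT (eT'.symm (a (eA (ιP r)))) = eT (ιQ (κ r))
    rw [h, ← RingHom.comp_apply eA, hP, ← RingHom.comp_apply eT, hQ, ha]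
    rfl

/-- Connected fibres over basic opens from 0-acyclicity, transported along isomorphisms. -/
theorem connectedSpace_away_of_isZeroAcyclic {P Q A T : Type u} [CommRing P] [CommRing Q] [CommRing A] [IsDomain A]
    [CommRing T] [Algebra A T] (eA : P →+* A) (heA : Function.Bijective eA) (eT : Q →+* T) (heT : Function.Bijective eT)
    (ψ₀ : P →+* Q) (hψ₀ : ∀ r, eT (ψ₀ r) = algebraMap A T (eA r))
    (hz : EtAcyc.IsZeroAcyclic (Spec.map (CommRingCat.ofHom ψ₀))) :
    ∀ b : A, b ≠ 0 → ConnectedSpace (PrimeSpectrum (T ⊗[A] Localization.Away b)) := by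
  intro b hb
  haveI : IsDomain (Localization.Away b) :=
    IsLocalization.isDomain_localization (powers_le_nonZeroDivisors_of_noZeroDivisors hb)
  haveI : IsIso (CommRingCat.ofHom eA) := (ConcreteCategory.isIso_iff_bijective _).2 heA
  haveI : IsIso (CommRingCat.ofHom eT) := (ConcreteCategory.isIso_iff_bijective _).2 heT
  let sA := Spec.map (CommRingCat.ofHom eA)
  let sb := Spec.map (CommRingCat.ofHom (algebraMap A (Localization.Away b)))
  haveI : Etale (sb ≫ sA) := inferInstance
  let U' : (Spec (CommRingCat.of P)).Etale := Scheme.Etale.mk (sb ≫ sA)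
  haveI : ConnectedSpace ↥U'.left :=
    inferInstanceAs (ConnectedSpace (PrimeSpectrum (Localization.Away b)))
  haveI := connectedSpace_of_isIso_unit (EtAcyc.prj (Spec.map (CommRingCat.ofHom ψ₀)) U') (hz U')
  let sT := Spec.map (CommRingCat.ofHom (algebraMap A T))
  have hsq : sT ≫ sA = Spec.map (CommRingCat.ofHom eT) ≫ Spec.map (CommRingCat.ofHom ψ₀) := by
    rw [← Spec.map_comp, ← Spec.map_comp, ← CommRingCat.ofHom_comp, ← CommRingCat.ofHom_comp]
    exact congrArg (fun φ => Spec.map (CommRingCat.ofHom φ)) (RingHom.ext fun r => (hψ₀ r).symm)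
  let m : pullback sb sT ⟶ pullback U'.hom (Spec.map (CommRingCat.ofHom ψ₀)) :=
    pullback.map _ _ _ _ (𝟙 _) (Spec.map (CommRingCat.ofHom eT)) sA (by simp [U']) hsq
  haveI : ConnectedSpace ↥(pullback sb sT) := m.homeomorph.connectedSpace_iff.mpr inferInstance
  haveI : ConnectedSpace ↥(pullback sT sb) :=
    (pullbackSymmetry sT sb).hom.homeomorph.connectedSpace_iff.mpr inferInstance
  exact (pullbackSpecIso A T (Localization.Away b)).hom.homeomorph.connectedSpace_iff.mp inferInstance

/-- The strict localisations of a base change to a strictly henselian domain: connected fibres over basic opens. -/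
theorem connectedSpace_baseChange_uloc {X Y : Scheme.{u}} {g : X ⟶ Y} (hg : EtAcyc.IsULocZeroAcyclic g)
    {U : Y.Opens} (hU : IsAffineOpen U) {V : X.Opens} (hV : IsAffineOpen V) (hVU : V ≤ g ⁻¹ᵁ U)
    (A T : Type u) [CommRing A] [IsDomain A] [HenselianLocalRing A] [IsSepClosed (ResidueField A)]
    [Algebra Γ(Y, U) A] [CommRing T] [HenselianLocalRing T] [IsSepClosed (ResidueField T)] [Algebra A T] :
    letI := (g.appLE U V hVU).hom.toAlgebra
    ∀ [Algebra (Γ(X, V) ⊗[Γ(Y, U)] A) T] [Algebra.WeaklyEtale (Γ(X, V) ⊗[Γ(Y, U)] A) T] (a : A →+* T) [IsLocalHom a],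
      a = (algebraMap (Γ(X, V) ⊗[Γ(Y, U)] A) T).comp
        (Algebra.TensorProduct.includeRight : A →ₐ[Γ(Y, U)] Γ(X, V) ⊗[Γ(Y, U)] A).toRingHom → a = algebraMap A T →
      ∀ b : A, b ≠ 0 → ConnectedSpace (PrimeSpectrum (T ⊗[A] Localization.Away b)) := by
  letI := (g.appLE U V hVU).hom.toAlgebra
  intro _ _ a _ ha ha'
  let A₀ : Type u := Γ(Y, U)
  let B : Type u := Γ(X, V)
  obtain ⟨j, hj, -, hj₂⟩ := exists_affine_chart g hU hV hVU A
  let t := Spec.map (CommRingCat.ofHom (algebraMap A₀ A)) ≫ hU.fromSpec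
  haveI := hj
  let p₀ := maximalIdeal A
  let p₁ : Ideal (B ⊗[A₀] A) := (maximalIdeal T).comap (algebraMap (B ⊗[A₀] A) T)
  haveI : p₁.IsPrime := Ideal.IsPrime.comap _
  obtain ⟨eA, heA, heA'⟩ := exists_shIdent A A p₀ rfl
  obtain ⟨eT, heT, heT'⟩ := exists_shIdent (B ⊗[A₀] A) T p₁ rfl
  obtain ⟨ψ₀, hψ₀l, hψ₀, hψ₀c⟩ := exists_conj eA heA eT heT a
    (Algebra.TensorProduct.includeRight : A →ₐ[A₀] B ⊗[A₀] A).toRingHom (shι p₀) heA' (shι p₁) _ heT' ha
  obtain ⟨x₁, aS, lS, wS, shS, aX, lX, wX, shX, hc⟩ := exists_stalk_data (pullback.snd g t)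
    (A := CommRingCat.of A) (A' := CommRingCat.of (B ⊗[A₀] A)) (𝟙 _) j
    (CommRingCat.ofHom (Algebra.TensorProduct.includeRight : A →ₐ[A₀] B ⊗[A₀] A).toRingHom)
    (by rw [Category.comp_id]; exact hj₂.symm) p₀ p₁ ψ₀ hψ₀l hψ₀c
  letI : Algebra (ShAt p₀) (ShAt p₁) := ψ₀.toAlgebra
  haveI : IsLocalHom (algebraMap (ShAt p₀) (ShAt p₁)) := hψ₀l
  have hz : EtAcyc.IsZeroAcyclic (Spec.map (CommRingCat.ofHom ψ₀)) :=
    hg (pullback.snd g t) (pullback.fst g t) t (IsPullback.of_hasPullback g t) x₁ (ShAt p₀) (ShAt p₁) hc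
  exact connectedSpace_away_of_isZeroAcyclic eA heA eT heT ψ₀ (fun r => (hψ₀ r).trans (by rw [ha'])) hz

/-- From the generic fibre over a separably closed field to any geometric point. -/
theorem connected_of_generic {RY RX A T : Type u} [CommRing RY] [CommRing RX] [CommRing A] [CommRing T] [Algebra RY A]
    [Algebra A T] {ψ : RY →+* RX} {iX : RX →+* T} (K : Type u) [Field K] [IsSepClosed K] [Algebra A K]
    (hT : IsPushout (CommRingCat.ofHom (algebraMap RY A)) (CommRingCat.ofHom ψ)
      (CommRingCat.ofHom (algebraMap A T)) (CommRingCat.ofHom iX))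
    (hTK : ConnectedSpace (PrimeSpectrum (T ⊗[A] K))) {Ω : Type u} [Field Ω] (ι : K →+* Ω) (fY : RY →+* Ω)
    (hι : (ι.comp (algebraMap A K)).comp (algebraMap RY A) = fY) :
    ConnectedSpace ↥(pullback (Spec.map (CommRingCat.ofHom ψ)) (Spec.map (CommRingCat.ofHom fY))) := by
  have sqT := isPullback_SpecMap_of_isPushout _ _ _ _ hT
  haveI : ConnectedSpace (PrimeSpectrum (K ⊗[A] T)) :=
    (PrimeSpectrum.homeomorphOfRingEquiv (Algebra.TensorProduct.comm A K T).toRingEquiv).connectedSpace_iff.mpr hTK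
  haveI hgc : GeometricallyConnected (Spec.map (CommRingCat.ofHom (algebraMap K (K ⊗[A] T)))) :=
    geometricallyConnected_of_sepClosed' K (K ⊗[A] T)
  have sqK := isPullback_SpecMap_of_isPushout _ _ _ _ (CommRingCat.isPushout_tensorProduct A K T)
  have sq := (IsPullback.of_hasPullback (Spec.map (CommRingCat.ofHom (algebraMap K (K ⊗[A] T))))
    (Spec.map (CommRingCat.ofHom ι))).flip.paste_vert (sqK.paste_vert sqT)
  have hι' : Spec.map (CommRingCat.ofHom ι) ≫ Spec.map (CommRingCat.ofHom (algebraMap A K)) ≫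
      Spec.map (CommRingCat.ofHom (algebraMap RY A)) = Spec.map (CommRingCat.ofHom fY) := by
    rw [← Spec.map_comp, ← Spec.map_comp, ← hι]
    rfl
  rw [hι'] at sq
  haveI : ConnectedSpace ↥(pullback (Spec.map (CommRingCat.ofHom (algebraMap K (K ⊗[A] T))))
      (Spec.map (CommRingCat.ofHom ι))) :=
    pullback_of_geometrically hgc.geometrically_connectedSpace _ _
  exact (sq.flip.isoPullback).hom.homeomorph.connectedSpace_iff.mp inferInstance

/-- Geometric fibres of strict localisations of a universally locally 0-acyclic morphism are connected. -/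
theorem connected_sh_fibre_uloc {X Y : Scheme.{u}} {g : X ⟶ Y} (hg : EtAcyc.IsULocZeroAcyclic g) (x : X) (RY : Type u)
    [CommRing RY] [IsLocalRing RY] [Algebra (Y.presheaf.stalk (g.base x)) RY]
    [IsLocalHom (algebraMap (Y.presheaf.stalk (g.base x)) RY)]
    [hY : Hensel.IsStrictHenselization (Y.presheaf.stalk (g.base x)) RY]
    (RX : Type u) [CommRing RX] [IsLocalRing RX] [Algebra (X.presheaf.stalk x) RX]
    [IsLocalHom (algebraMap (X.presheaf.stalk x) RX)] [hX : Hensel.IsStrictHenselization (X.presheaf.stalk x) RX]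
    (ψ : RY →+* RX) [IsLocalHom ψ]
    (hψ : ψ.comp (algebraMap (Y.presheaf.stalk (g.base x)) RY) =
      (algebraMap (X.presheaf.stalk x) RX).comp (g.stalkMap x).hom)
    (Ω : Type u) [Field Ω] [IsAlgClosed Ω] (η : Spec (CommRingCat.of Ω) ⟶ Spec (CommRingCat.of RY)) :
    ConnectedSpace ↥(pullback (Spec.map (CommRingCat.ofHom ψ)) η) := by
  classical
  haveI := hY.henselian
  haveI := hX.henselian
  haveI : IsSepClosed (ResidueField RY) := hY.isSepClosure.sep_closed
  haveI : IsSepClosed (ResidueField RX) := hX.isSepClosure.sep_closed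
  obtain ⟨fY, rfl⟩ := Spec.map_surjective η
  obtain ⟨U, hU, hyU, -⟩ := exists_isAffineOpen_mem_and_subset (x := g.base x) (U := ⊤) trivial
  obtain ⟨V, hV, hxV, hVU⟩ := exists_isAffineOpen_mem_and_subset (x := x) (U := g ⁻¹ᵁ U) hyU
  obtain ⟨_, _, Θ, hwe, hΘ⟩ := exists_chart_baseChange g g (𝟙 X) (𝟙 Y)
    (IsPullback.of_horiz_isIso ⟨by simp⟩) x RY RX ψ hψ hU hV hVU hxV
  let A₀ : Type u := Γ(Y, U)
  let B : Type u := Γ(X, V)
  letI : Algebra A₀ B := (g.appLE U V hVU).hom.toAlgebra
  -- the normalization of the prime in an algebraic closure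
  let p := RingHom.ker fY.hom
  haveI : p.IsPrime := RingHom.ker_isPrime _
  let D := RY ⧸ p
  let K := AlgebraicClosure (FractionRing D)
  haveI : IsScalarTower D (FractionRing D) K := inferInstance
  let A := integralClosure D K
  letI : Algebra RY A := ((algebraMap D A).comp (Ideal.Quotient.mk p)).toAlgebra
  haveI : IsScalarTower RY D A := IsScalarTower.of_algebraMap_eq fun _ => rfl
  haveI : Algebra.IsIntegral RY D := ⟨fun d => by
    obtain ⟨r, rfl⟩ := Ideal.Quotient.mk_surjective d
    exact isIntegral_algebraMap⟩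
  haveI : Algebra.IsIntegral RY A := Algebra.IsIntegral.trans D
  haveI : IsFractionRing A K := by
    haveI : Algebra.IsAlgebraic D K :=
      (IsFractionRing.comap_isAlgebraic_iff (A := D) (K := FractionRing D) (C := K)).2 inferInstance
    exact integralClosure.isFractionRing_of_algebraic
      (fun d hd => IsFractionRing.injective D (FractionRing D) (by
        rw [IsScalarTower.algebraMap_apply D (FractionRing D) K] at hd
        rw [map_zero]
        exact (map_eq_zero_iff _ (algebraMap (FractionRing D) K).injective).1 hd))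
  obtain ⟨_, hlA⟩ := HensFormalLib.henselian_of_integral_domain RY A
  haveI := hlA
  haveI : IsSepClosed (ResidueField A) := (HensFormalLib.sepClosed_residue RY A).1
  haveI : IsPurelyInseparable (ResidueField RY) (ResidueField A) := (HensFormalLib.sepClosed_residue RY A).2
  letI : Algebra A₀ A := ((algebraMap RY A).comp (algebraMap A₀ RY)).toAlgebra
  haveI : IsScalarTower A₀ RY A := IsScalarTower.of_algebraMap_eq fun _ => rfl
  -- the base change
  letI : Algebra (B ⊗[A₀] RY) RX := Θ.toAlgebra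
  haveI : Algebra.WeaklyEtale (B ⊗[A₀] RY) RX := hwe
  letI : Algebra (B ⊗[A₀] RY) (B ⊗[A₀] A) :=
    (Algebra.TensorProduct.map (AlgHom.id B B) (IsScalarTower.toAlgHom A₀ RY A)).toRingHom.toAlgebra
  let T : Type u := (B ⊗[A₀] A) ⊗[B ⊗[A₀] RY] RX
  letI : CommRing T := inferInstanceAs (CommRing ((B ⊗[A₀] A) ⊗[B ⊗[A₀] RY] RX))
  let a : A →+* T := (Algebra.TensorProduct.includeLeftRingHom : B ⊗[A₀] A →+* T).comp
    (Algebra.TensorProduct.includeRight : A →ₐ[A₀] B ⊗[A₀] A).toRingHom
  let iX : RX →+* T := (Algebra.TensorProduct.includeRight : RX →ₐ[B ⊗[A₀] RY] T).toRingHom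
  have hT : IsPushout (CommRingCat.ofHom (algebraMap RY A)) (CommRingCat.ofHom ψ)
      (CommRingCat.ofHom a) (CommRingCat.ofHom iX) := by
    rw [← hΘ]
    exact isPushout_descent (A := A₀) (A' := B) (R₀ := RY) (R := A) (B₀ := RX) rfl
  have sqT := isPullback_SpecMap_of_isPushout _ _ _ _ hT
  haveI : IsIntegralHom (Spec.map (CommRingCat.ofHom (algebraMap RY A))) :=
    IsIntegralHom.SpecMap_iff.2 (algebraMap_isIntegral_iff.2 inferInstance)
  letI : Algebra RX T := iX.toAlgebra
  haveI : Algebra.IsIntegral RX T := algebraMap_isIntegral_iff.1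
    (IsIntegralHom.SpecMap_iff.1 (MorphismProperty.of_isPullback (P := @IsIntegralHom) sqT ‹_›))
  haveI : IsLocalHom (algebraMap RY A) := hlA
  obtain ⟨_, hhT, haT, hsT⟩ := strictHenselian_baseChange ψ a iX hT
  haveI := hhT
  haveI := hsT
  haveI := haT
  letI : Algebra A T := a.toAlgebra
  have hconn := connectedSpace_baseChange_uloc hg hU hV hVU A T a rfl rfl
  have hTK := connectedSpace_generic A T K hconn
  let fD : D →+* Ω := Ideal.Quotient.lift p fY.hom fun r hr => hr
  have hfD : Function.Injective fD := RingHom.lift_injective_of_ker_le_ideal p (fun r hr => hr) le_rfl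
  letI : Algebra (FractionRing D) Ω := (IsFractionRing.lift hfD).toAlgebra
  let ι : K →ₐ[FractionRing D] Ω := IsAlgClosed.lift
  refine connected_of_generic K hT hTK ι.toRingHom fY.hom (RingHom.ext fun r => ?_)
  show ι (algebraMap A K (algebraMap D A (Ideal.Quotient.mk p r))) = fY r
  rw [← IsScalarTower.algebraMap_apply, IsScalarTower.algebraMap_apply D (FractionRing D) K, AlgHom.commutes]
  exact IsFractionRing.lift_algebraMap hfD (Ideal.Quotient.mk p r)

end EtProperH0Lib
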